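import Cfsg.Agent.Lib.Mathieu.Aut

/-!
Consequences of a stabiliser chain (order, multiple transitivity, sharpness) and transport of
automorphism groups along isomorphisms of set systems.
-/

set_option autoImplicit false

namespace CfsgLib.Mathieu

open MulAction Finset
open scoped Pointwise

variable {n : ℕ}

theorem card_setSystemAut_eq {t : ℕ} {L gens : List ℕ} {lvs : List ChainLevel}
    (hgens : gens.all (isAutCode n L) = true) (hlow : checkLower n gens [] lvs = true)
    (hup : checkUpper n t L gens [] lvs = true) (hb : ∀ lv ∈ lvs, lv.1 < n) :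
    Nat.card (Cfsg.setSystemAut (maskFam n L)) = levelProd lvs := by
  have hperm : ∀ c ∈ gens, isPerm n c = true := fun c hc => by
    have := List.all_eq_true.1 hgens c hc
    rw [isAutCode, Bool.and_eq_true] at this
    exact this.1
  have hG : ∀ c ∈ gens, permOf n c ∈ Cfsg.setSystemAut (maskFam n L) := fun c hc =>
    permOf_mem_setSystemAut (List.all_eq_true.1 hgens c hc)
  have h1 := levelProd_le hperm hG lvs [] hlow
  have h2 := card_le_levelProd (t := t) lvs [] hb hup
  rw [fixPts_nil] at h1 h2
  refine le_antisymm h2 (le_trans ?_ h1)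
  exact Nat.le_mul_of_pos_right _ Nat.card_pos

theorem checkLower_take {gens : List ℕ} :
    ∀ (lvs : List ChainLevel) (pre : List ℕ) (k : ℕ), checkLower n gens pre lvs = true →
      checkLower n gens pre (lvs.take k) = true := by
  intro lvs
  induction lvs with
  | nil => intro pre k h; simpa using h
  | cons lv lvs ih =>
    intro pre k h
    cases k with
    | zero => rfl
    | succ k =>
      simp only [List.take_succ_cons, checkLower, Bool.and_eq_true] at h ⊢
      exact ⟨h.1, ih _ k h.2⟩

theorem isMultiplyPretransitive_of_levels {gens : List ℕ} {G : Subgroup (Equiv.Perm (Fin n))}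
    (hperm : ∀ c ∈ gens, isPerm n c = true) (hG : ∀ c ∈ gens, permOf n c ∈ G)
    {lvs : List ChainLevel} (hlow : checkLower n gens [] lvs = true) {k : ℕ}
    (hk : k ≤ lvs.length) (hfull : levelProd (lvs.take k) = n.descFactorial k)
    (hnd : ((lvs.take k).map Prod.fst).Nodup) : IsMultiplyPretransitive G (Fin n) k := by
  have hlow' := checkLower_take lvs [] k hlow
  have h1 := levelProd_le hperm hG (lvs.take k) [] hlow'
  rw [fixPts_nil, List.nil_append, hfull] at h1
  set base := (lvs.take k).map Prod.fst with hbase
  have hlen : base.length = k := by simp [hbase, List.length_take, hk]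
  have hlt : ∀ a ∈ base, a < n := by
    suffices ∀ (l : List ChainLevel) (pre : List ℕ), checkLower n gens pre l = true →
        ∀ lv ∈ l, lv.1 < n by
      intro a ha
      obtain ⟨lv, hlv, rfl⟩ := List.mem_map.1 ha
      exact this _ [] hlow' lv hlv
    intro l
    induction l with
    | nil => simp
    | cons x l ih =>
      intro pre h lv hlv
      simp only [checkLower, Bool.and_eq_true, decide_eq_true_eq] at h
      rcases List.mem_cons.1 hlv with rfl | hlv
      · exact h.1.1.1
      · exact ih _ h.2 lv hlv
  let x₀ : Fin k ↪ Fin n :=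
    ⟨fun i => ⟨base.get (i.cast hlen.symm), hlt _ (List.get_mem _ _)⟩, fun i j e => by
      have := (List.nodup_iff_injective_get.1 hnd) (Fin.val_eq_of_eq e)
      simpa [Fin.ext_iff] using this⟩
  have hst : Nat.card (stabilizer G x₀) ≤ Nat.card (fixPts G base) := by
    refine Nat.card_le_card_of_injective (fun g => ⟨g.1.1, mem_fixPts.2 ⟨g.1.2, fun x hx => ?_⟩⟩) ?_
    · obtain ⟨i, hi⟩ := List.get_of_mem hx
      have hg := congrArg (fun e : Fin k ↪ Fin n => e (i.cast hlen)) (mem_stabilizer_iff.1 g.2)
      have hx0 : x₀ (i.cast hlen) = x := Fin.ext hi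
      rw [← hx0]
      exact hg
    · intro g g' e
      simp only [Subtype.mk.injEq] at e
      exact Subtype.ext (Subtype.ext e)
  have horb : orbit G x₀ = Set.univ := by
    rw [Set.eq_univ_iff_ncard]
    refine le_antisymm (Set.ncard_le_card _) ?_
    rw [Nat.card_eq_fintype_card, Fintype.card_embedding_eq, Fintype.card_fin, Fintype.card_fin]
    have h3 := Subgroup.index_mul_card (stabilizer G x₀)
    rw [index_stabilizer] at h3
    rw [← h3] at h1
    exact Nat.le_of_mul_le_mul_right (h1.trans (Nat.mul_le_mul_left _ hst)) Nat.card_pos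
  exact (isPretransitive_iff_orbit_eq_univ x₀).2 horb

theorem stabilizer_eq_bot_of_card {α : Type*} [Finite α] {G : Type*} [Group G] [Finite G]
    [MulAction G α] [IsPretransitive G α] (h : Nat.card G = Nat.card α) (x : α) :
    stabilizer G x = ⊥ := by
  have h1 := Subgroup.index_mul_card (stabilizer G x)
  rw [index_stabilizer_of_transitive, ← h] at h1
  exact Subgroup.card_eq_one.1 (Nat.eq_of_mul_eq_mul_left Nat.card_pos (by rw [h1, mul_one]))

theorem sharply_of_card {α : Type*} [Fintype α] {G : Type*} [Group G] [Finite G] [MulAction G α]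
    {k : ℕ} [IsMultiplyPretransitive G α k]
    (h : Nat.card G = (Fintype.card α).descFactorial k) (x : Fin k ↪ α) : stabilizer G x = ⊥ :=
  stabilizer_eq_bot_of_card
    (by rw [h, Nat.card_eq_fintype_card, Fintype.card_embedding_eq, Fintype.card_fin]) x

/-! ### Transport -/

section Transport

variable {α β : Type*} [DecidableEq α] [DecidableEq β] {B : Set (Finset α)} {B' : Set (Finset β)}

theorem permCongr_mem [Finite β] (e : α ≃ β) (he : (fun b : Finset α => b.image e) '' B = B')
    {σ : Equiv.Perm α} (h : σ ∈ Cfsg.setSystemAut B) : e.permCongr σ ∈ Cfsg.setSystemAut B' := by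
  apply mem_setSystemAut_of_forall
  intro b hb
  rw [← he] at hb ⊢
  obtain ⟨a, ha, rfl⟩ := hb
  refine ⟨a.image σ, image_mem_of_mem_setSystemAut h ha, ?_⟩
  simp only [Finset.image_image]
  refine Finset.image_congr fun x _ => ?_
  simp [Equiv.permCongr_apply]

theorem map_permCongr_setSystemAut [Finite α] [Finite β] (e : α ≃ β)
    (he : (fun b : Finset α => b.image e) '' B = B') :
    (Cfsg.setSystemAut B).map e.permCongrHom.toMonoidHom = Cfsg.setSystemAut B' := by
  ext τ
  rw [Subgroup.mem_map]
  refine ⟨?_, fun h => ⟨e.symm.permCongr τ, ?_, ?_⟩⟩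
  · rintro ⟨σ, hσ, rfl⟩
    exact permCongr_mem e he hσ
  · refine permCongr_mem e.symm ?_ h
    rw [← he, Set.image_image]
    refine Eq.trans (Set.image_congr fun b _ => ?_) (Set.image_id B)
    simp [Finset.image_image]
  · ext x
    show e.permCongr (e.symm.permCongr τ) x = τ x
    simp [Equiv.permCongr_apply]

/-- The isomorphism of automorphism groups induced by an isomorphism of set systems. -/
noncomputable def autCongr [Finite α] [Finite β] (e : α ≃ β)
    (he : (fun b : Finset α => b.image e) '' B = B') :
    Cfsg.setSystemAut B ≃* Cfsg.setSystemAut B' :=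
  ((Cfsg.setSystemAut B).equivMapOfInjective e.permCongrHom.toMonoidHom
    e.permCongrHom.injective).trans (MulEquiv.subgroupCongr (map_permCongr_setSystemAut e he))

theorem autCongr_apply [Finite α] [Finite β] (e : α ≃ β)
    (he : (fun b : Finset α => b.image e) '' B = B') (g : Cfsg.setSystemAut B) (x : α) :
    (autCongr e he g : Equiv.Perm β) (e x) = e ((g : Equiv.Perm α) x) := by
  show e.permCongr (g : Equiv.Perm α) (e x) = _
  simp [Equiv.permCongr_apply]

theorem isMultiplyPretransitive_transport [Finite α] [Finite β] (h : Cfsg.SetSystemIso B B') {k : ℕ}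
    [IsMultiplyPretransitive (Cfsg.setSystemAut B') β k] :
    IsMultiplyPretransitive (Cfsg.setSystemAut B) α k := by
  obtain ⟨e, he⟩ := h
  refine ⟨fun x y => ?_⟩
  obtain ⟨g, hg⟩ := exists_smul_eq (Cfsg.setSystemAut B') (x.trans e.toEmbedding) (y.trans e.toEmbedding)
  refine ⟨(autCongr e he).symm g, Function.Embedding.ext fun i => e.injective ?_⟩
  rw [Function.Embedding.smul_apply, Subgroup.smul_def, Equiv.Perm.smul_def, ← autCongr_apply e he,
    MulEquiv.apply_symm_apply]
  exact congrArg (fun f : Fin k ↪ β => f i) hg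

theorem nonempty_mulEquiv_of_iso [Finite α] [Finite β] (h : Cfsg.SetSystemIso B B') :
    Nonempty (Cfsg.setSystemAut B ≃* Cfsg.setSystemAut B') := by
  obtain ⟨e, he⟩ := h
  exact ⟨autCongr e he⟩

end Transport

theorem isSimpleGroup_congr {G H : Type*} [Group G] [Group H] (e : G ≃* H) [IsSimpleGroup H] :
    IsSimpleGroup G :=
  e.isSimpleGroup

end CfsgLib.Mathieu
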