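import Cfsg.Agent.Lib.Mathieu.Chain11
import Cfsg.Agent.Lib.Mathieu.AutTransport

/-! Automorphism chain certificate for the standard S(4,5,11). -/

set_option autoImplicit false

namespace CfsgLib.Mathieu.Aut11

open MulAction

def blocks : List ℕ := [976, 1840, 1264, 1736, 1448, 872, 1368, 696, 1476, 932, 1636, 1684, 372, 1804, 236, 412, 604, 1084, 1858, 1698, 482, 1426, 626, 906, 1130, 1562, 218, 314, 710, 1318, 1110, 790, 182, 1166, 334, 558, 1921, 1377, 737, 1617, 433, 793, 1177, 457, 1577, 121, 1301, 837, 213, 1189, 565, 1101, 653, 301, 803, 659, 1219, 339, 1075, 1291, 587, 171, 1543, 391, 103, 31]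

def gens : List ℕ := [10492919915087904, 9263732423297056, 5844052788611104, 5882705375988768, 8173019100972096, 5848587229562881]

def levels : List ChainLevel := [(0, [[], [5], [4, 5], [3, 4, 5], [0, 3, 4, 5], [1, 3, 4, 5], [1, 0, 3, 4, 5], [2, 3, 4, 5], [2, 0, 3, 4, 5], [2, 1, 3, 4, 5], [3, 1, 3, 4, 5]]),
  (1, [[], [4], [3, 4], [0, 3, 4], [1, 3, 4], [1, 0, 3, 4], [2, 3, 4], [2, 0, 3, 4], [2, 1, 3, 4], [3, 1, 3, 4]]),
  (2, [[], [3], [0, 3], [1, 3], [1, 0, 3], [2, 3], [2, 0, 3], [2, 1, 3], [3, 1, 3]]),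
  (3, [[], [0], [1], [1, 0], [2], [2, 0], [2, 1], [1, 2]]),
  (5, [[]])]

theorem chainEnd_eq : chainEnd Chain11.steps [2 ^ 5 - 1] = blocks := by decide +kernel

theorem gens_aut : gens.all (isAutCode 11 blocks) = true := by decide +kernel

theorem lower : checkLower 11 gens [] levels = true := by decide +kernel

theorem upper : checkUpper 11 4 blocks gens [] levels = true := by decide +kernel

theorem gens_perm : ∀ c ∈ gens, isPerm 11 c = true := fun c hc =>
  (Bool.and_eq_true _ _ ▸ List.all_eq_true.1 gens_aut c hc : _ ∧ _).1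

theorem gens_mem : ∀ c ∈ gens, permOf 11 c ∈ Cfsg.setSystemAut (maskFam 11 blocks) := fun c hc =>
  permOf_mem_setSystemAut (List.all_eq_true.1 gens_aut c hc)

theorem card_aut : Nat.card (Cfsg.setSystemAut (maskFam 11 blocks)) = 7920 :=
  (card_setSystemAut_eq gens_aut lower upper (by decide +kernel)).trans (by decide +kernel)

theorem iso {α : Type*} [Fintype α] [DecidableEq α] (hα : Fintype.card α = 11)
    {B : Set (Finset α)} (hB : Cfsg.IsSteinerSystem 4 5 B) :
    Cfsg.SetSystemIso B (maskFam 11 blocks) :=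
  chainEnd_eq ▸ setSystemIso_chainEnd (by norm_num) (by norm_num) (by norm_num) Chain11.check hα hB

theorem transitive : IsMultiplyPretransitive (Cfsg.setSystemAut (maskFam 11 blocks)) (Fin 11) 4 :=
  isMultiplyPretransitive_of_levels gens_perm gens_mem lower (by decide +kernel) (by decide +kernel)
    (by decide +kernel)

end CfsgLib.Mathieu.Aut11
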