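import Cfsg.Agent.Lib.Mathieu.Chain12
import Cfsg.Agent.Lib.Mathieu.AutTransport

/-! Automorphism chain certificate for the standard S(5,6,12). -/

set_option autoImplicit false

namespace CfsgLib.Mathieu.Aut12

open MulAction

def blocks : List ℕ := [4032, 3888, 3312, 1008, 3752, 2920, 1512, 1944, 3416, 2776, 2488, 1656, 3492, 1892, 2788, 2964, 3668, 1492, 1716, 2420, 3852, 1740, 2508, 940, 3180, 3228, 860, 2620, 1340, 252, 2978, 3426, 1762, 3730, 1874, 2514, 1458, 2674, 3466, 3658, 970, 1834, 2282, 2842, 1242, 3130, 698, 378, 1926, 2886, 3270, 3622, 486, 3350, 726, 822, 2230, 1142, 2702, 1358, 2350, 1198, 622, 1566, 414, 2142, 1953, 3681, 2529, 3473, 2897, 1745, 2737, 1393, 2953, 1865, 3273, 3369, 745, 3609, 473, 825, 1209, 2169, 3717, 3397, 965, 2853, 1253, 1813, 2261, 3125, 437, 629, 1421, 2637, 2221, 1581, 365, 2333, 669, 1117, 3843, 2755, 1475, 3235, 867, 1587, 2355, 915, 3155, 243, 2603, 1675, 427, 2379, 1131, 2203, 1307, 603, 1607, 1319, 2439, 679,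 2151, 2583, 1175, 343, 3087, 783, 207, 63]

def gens : List ℕ := [372964453560453152, 333630453823146016, 224200705513195552, 225437588309280800, 298727627508747296, 224345807623652416, 333664609481361409]

def levels : List ChainLevel := [(0, [[], [6], [5, 6], [4, 5, 6], [3, 4, 5, 6], [0, 3, 4, 5, 6], [1, 3, 4, 5, 6], [1, 0, 3, 4, 5, 6], [2, 3, 4, 5, 6], [2, 0, 3, 4, 5, 6], [2, 1, 3, 4, 5, 6], [3, 1, 3, 4, 5, 6]]),
  (1, [[], [5], [4, 5], [3, 4, 5], [0, 3, 4, 5], [1, 3, 4, 5], [1, 0, 3, 4, 5], [2, 3, 4, 5], [2, 0, 3, 4, 5], [2, 1, 3, 4, 5], [3, 1, 3, 4, 5]]),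
  (2, [[], [4], [3, 4], [0, 3, 4], [1, 3, 4], [1, 0, 3, 4], [2, 3, 4], [2, 0, 3, 4], [2, 1, 3, 4], [3, 1, 3, 4]]),
  (3, [[], [3], [0, 3], [1, 3], [1, 0, 3], [2, 3], [2, 0, 3], [2, 1, 3], [3, 1, 3]]),
  (4, [[], [0], [1], [1, 0], [2], [2, 0], [2, 1], [1, 2]]),
  (6, [[]])]

theorem chainEnd_eq : chainEnd Chain12.steps [2 ^ 6 - 1] = blocks := by decide +kernel

theorem gens_aut : gens.all (isAutCode 12 blocks) = true := by decide +kernel

theorem lower : checkLower 12 gens [] levels = true := by decide +kernel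

theorem upper : checkUpper 12 5 blocks gens [] levels = true := by decide +kernel

theorem gens_perm : ∀ c ∈ gens, isPerm 12 c = true := fun c hc =>
  (Bool.and_eq_true _ _ ▸ List.all_eq_true.1 gens_aut c hc : _ ∧ _).1

theorem gens_mem : ∀ c ∈ gens, permOf 12 c ∈ Cfsg.setSystemAut (maskFam 12 blocks) := fun c hc =>
  permOf_mem_setSystemAut (List.all_eq_true.1 gens_aut c hc)

theorem card_aut : Nat.card (Cfsg.setSystemAut (maskFam 12 blocks)) = 95040 :=
  (card_setSystemAut_eq gens_aut lower upper (by decide +kernel)).trans (by decide +kernel)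

theorem iso {α : Type*} [Fintype α] [DecidableEq α] (hα : Fintype.card α = 12)
    {B : Set (Finset α)} (hB : Cfsg.IsSteinerSystem 5 6 B) :
    Cfsg.SetSystemIso B (maskFam 12 blocks) :=
  chainEnd_eq ▸ setSystemIso_chainEnd (by norm_num) (by norm_num) (by norm_num) Chain12.check hα hB

theorem transitive : IsMultiplyPretransitive (Cfsg.setSystemAut (maskFam 12 blocks)) (Fin 12) 5 :=
  isMultiplyPretransitive_of_levels gens_perm gens_mem lower (by decide +kernel) (by decide +kernel)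
    (by decide +kernel)

end CfsgLib.Mathieu.Aut12
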