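import Cfsg.Agent.Lib.Mathieu.Chain22
import Cfsg.Agent.Lib.Mathieu.AutTransport

/-! Automorphism chain certificate for the standard S(3,6,22). -/

set_option autoImplicit false

namespace CfsgLib.Mathieu.Aut22

open MulAction

def blocks : List ℕ := [2732032, 1470464, 1412096, 2771968, 1737472, 2441984, 203392, 59008, 3156352, 791936, 797248, 3151424, 55616, 206144, 2523328, 1654976, 3342384, 835632, 13104, 3312, 1579048, 2368552, 98728, 148072, 174104, 87064, 2622104, 1311064, 92196, 168996, 1311396, 2621796, 2365460, 1582100, 147860, 98900, 983052, 3194892, 3852, 12492, 2132514, 1066274, 663714, 331874, 394770, 592146, 1085586, 2121810, 1122826, 2232586, 280714, 558154, 545286, 303366, 2163846, 1181766, 591393, 395553, 2117793, 1089633, 1067537, 2131217, 336017, 549129, 1180809, 299529, 659537, 2164809, 2236933, 1118469, 559237, 279621, 3932163, 245763, 15363, 963, 63]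

def gens : List ℕ := [838654261143065014985663161927712, 794406528120961125438762516580384, 710496715823274494779764378798112, 543002949306280697306129501358112, 671199509739615568791252996556832, 796939196122937824254082380072992, 587616231896097989267447940713504, 630674302271311325064261814949920, 674876075362233144275978078487616, 794406490607702620255885526665217]

def levels : List ChainLevel := [(0, [[], [9], [8, 9], [6, 8, 9], [5, 6, 8, 9], [4, 5, 6, 8, 9], [7, 8, 9], [7, 6, 8, 9], [1, 7, 8, 9], [1, 7, 6, 8, 9], [2, 7, 8, 9], [2, 7, 6, 8, 9], [2, 1, 7, 8, 9], [2, 1, 7, 6, 8, 9], [3, 7, 8, 9], [3, 7, 6, 8, 9], [3, 1, 7, 8, 9], [9, 3, 7, 8, 9], [8, 1, 7, 8, 9], [3, 2, 7, 6, 8, 9], [6, 3, 7, 6, 8, 9], [6, 3, 7, 8, 9]]),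
  (1, [[], [8], [6, 8], [5, 6, 8], [4, 5, 6, 8], [7, 8], [7, 6, 8], [1, 7, 8], [1, 7, 6, 8], [2, 7, 8], [2, 7, 6, 8], [2, 1, 7, 8], [2, 1, 7, 6, 8], [3, 7, 8], [3, 7, 6, 8], [3, 1, 7, 8], [3, 1, 7, 6, 8], [8, 1, 7, 8], [3, 2, 7, 6, 8], [6, 3, 7, 6, 8], [6, 3, 7, 8]]),
  (2, [[], [6], [5, 6], [4, 5, 6], [7], [7, 6], [1, 7], [1, 7, 6], [2, 7], [2, 7, 6], [2, 1, 7], [2, 1, 7, 6], [3, 7], [3, 7, 6], [3, 1, 7], [3, 1, 7, 6], [3, 2, 7], [3, 2, 7, 6], [6, 3, 7, 6], [6, 3, 7]]),
  (3, [[], [5], [4, 5]]),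
  (4, [[], [4]]),
  (6, [[], [0], [1], [1, 0], [2], [2, 0], [2, 1], [2, 1, 0], [3], [3, 0], [3, 1], [3, 1, 0], [3, 2], [3, 2, 0], [3, 2, 1], [3, 2, 1, 0]])]

theorem chainEnd_eq : chainEnd Chain22.steps [2 ^ 6 - 1] = blocks := by decide +kernel

theorem gens_aut : gens.all (isAutCode 22 blocks) = true := by decide +kernel

theorem lower : checkLower 22 gens [] levels = true := by decide +kernel

theorem upper : checkUpper 22 3 blocks gens [] levels = true := by decide +kernel

theorem gens_perm : ∀ c ∈ gens, isPerm 22 c = true := fun c hc =>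
  (Bool.and_eq_true _ _ ▸ List.all_eq_true.1 gens_aut c hc : _ ∧ _).1

theorem gens_mem : ∀ c ∈ gens, permOf 22 c ∈ Cfsg.setSystemAut (maskFam 22 blocks) := fun c hc =>
  permOf_mem_setSystemAut (List.all_eq_true.1 gens_aut c hc)

theorem card_aut : Nat.card (Cfsg.setSystemAut (maskFam 22 blocks)) = 887040 :=
  (card_setSystemAut_eq gens_aut lower upper (by decide +kernel)).trans (by decide +kernel)

theorem iso {α : Type*} [Fintype α] [DecidableEq α] (hα : Fintype.card α = 22)
    {B : Set (Finset α)} (hB : Cfsg.IsSteinerSystem 3 6 B) :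
    Cfsg.SetSystemIso B (maskFam 22 blocks) :=
  chainEnd_eq ▸ setSystemIso_chainEnd (by norm_num) (by norm_num) (by norm_num) Chain22.check hα hB

theorem transitive : IsMultiplyPretransitive (Cfsg.setSystemAut (maskFam 22 blocks)) (Fin 22) 3 :=
  isMultiplyPretransitive_of_levels gens_perm gens_mem lower (by decide +kernel) (by decide +kernel)
    (by decide +kernel)

/-- Elements of order 11 generating the simple subgroup of index 2. -/
def gens11 : List ℕ := [632609916718738377287645748810854, 408723362357608756926930477957732, 490052206610239405272284641938788, 105948304493870837788321534791793, 660689334417473799047985193436642, 107802772680360712506544943956208, 831147028962984732021358316856770, 452954927682910741268563193561223, 123815796713846926046024246439180, 3030846674280797643674807017096, 307452467407318852974161037996719, 815615569756173314530355562524976, 211005918134406953048465743094051, 550540736253351367221711636844747, 698846866615984567615043962128907,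 594987563903953029574085423145297, 132450222760481088895980024153317, 792997624089481321689135264214531]

def levels11 : List ChainLevel := [(0, [[], [16, 17], [14, 15, 16, 17], [10, 11, 14, 15, 16, 17], [8, 9, 10, 11, 14, 15, 16, 17], [8, 9, 8, 9, 10, 11, 14, 15, 16, 17], [12, 13, 14, 15, 16, 17], [12, 13, 10, 11, 14, 15, 16, 17], [2, 3, 12, 13, 14, 15, 16, 17], [2, 3, 12, 13, 10, 11, 14, 15, 16, 17], [4, 5, 12, 13, 14, 15, 16, 17], [4, 5, 12, 13, 10, 11, 14, 15, 16, 17], [4, 5, 2, 3, 12, 13, 14, 15, 16, 17], [4, 5, 2, 3, 12, 13, 10, 11, 14, 15, 16, 17], [6, 7, 12, 13, 14, 15, 16, 17], [6, 7, 12, 13, 10, 11, 14, 15, 16, 17], [6, 7, 2, 3, 12, 13, 14, 15, 16, 17], [6, 7, 2, 3, 12, 13, 10, 11, 14, 15, 16, 17], [6, 7, 4, 5, 12, 13, 14, 15, 16, 17], [6, 7, 4, 5, 12, 13, 10, 11, 14, 15, 16, 17], [16, 17, 6, 7, 12, 13, 14, 15, 16, 17], [8, 9, 6, 7, 12, 13, 10, 11, 14, 15, 16, 17]]),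
  (1, [[], [14, 15], [10, 11, 14, 15], [8, 9, 10, 11, 14, 15], [8, 9, 8, 9, 10, 11, 14, 15], [12, 13, 14, 15], [12, 13, 10, 11, 14, 15], [2, 3, 12, 13, 14, 15], [2, 3, 12, 13, 10, 11, 14, 15], [4, 5, 12, 13, 14, 15], [4, 5, 12, 13, 10, 11, 14, 15], [4, 5, 2, 3, 12, 13, 14, 15], [4, 5, 2, 3, 12, 13, 10, 11, 14, 15], [6, 7, 12, 13, 14, 15], [6, 7, 12, 13, 10, 11, 14, 15], [6, 7, 2, 3, 12, 13, 14, 15], [6, 7, 2, 3, 12, 13, 10, 11, 14, 15], [6, 7, 4, 5, 12, 13, 14, 15], [6, 7, 4, 5, 12, 13, 10, 11, 14, 15], [6, 7, 4, 5, 2, 3, 12, 13, 14, 15], [8, 9, 6, 7, 12, 13, 10, 11, 14, 15]]),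
  (2, [[], [10, 11], [8, 9, 10, 11], [8, 9, 8, 9, 10, 11], [12, 13], [12, 13, 10, 11], [2, 3, 12, 13], [2, 3, 12, 13, 10, 11], [4, 5, 12, 13], [4, 5, 12, 13, 10, 11], [4, 5, 2, 3, 12, 13], [4, 5, 2, 3, 12, 13, 10, 11], [6, 7, 12, 13], [6, 7, 12, 13, 10, 11], [6, 7, 2, 3, 12, 13], [6, 7, 2, 3, 12, 13, 10, 11], [6, 7, 4, 5, 12, 13], [6, 7, 4, 5, 12, 13, 10, 11], [6, 7, 4, 5, 2, 3, 12, 13], [8, 9, 6, 7, 12, 13, 10, 11]]),
  (3, [[], [8, 9], [8, 9, 8, 9]]),
  (4, [[]]),
  (6, [[], [0, 1], [2, 3], [2, 3, 0, 1], [4, 5], [4, 5, 0, 1], [4, 5, 2, 3], [4, 5, 2, 3, 0, 1], [6, 7], [6, 7, 0, 1], [6, 7, 2, 3], [6, 7, 2, 3, 0, 1], [6, 7, 4, 5], [6, 7, 4, 5, 0, 1], [6, 7, 4, 5, 2, 3], [6, 7, 4, 5, 2, 3, 0, 1]])]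

/-- An odd automorphism. -/
def oddGen : ℕ := 671199509739615568791252996556832

def oddSwaps : List (Fin 22 × Fin 22) := [(4, 5), (8, 9), (12, 13), (14, 18), (15, 19), (16, 21), (17, 20)]

theorem gens11_aut : gens11.all (isAutCode 22 blocks) = true := by decide +kernel

theorem oddGen_aut : isAutCode 22 blocks oddGen = true := by decide +kernel

theorem lower11 : checkLower 22 gens11 [] levels11 = true := by decide +kernel

/-- The eleventh power of each of `gens11` is the identity. -/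
theorem gens11_pow : gens11.all (fun c => (List.range 22).all fun x =>
    (app c)^[11] x == x) = true := by decide +kernel

end CfsgLib.Mathieu.Aut22
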