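import Cfsg.Agent.Lib.Mathieu.Unique

/-! Chain certificate for the uniqueness of the Steiner system S(3,4,10). -/

set_option autoImplicit false

namespace CfsgLib.Mathieu.Chain10

def steps0 : List ChainStep := [
  (19, [0], 51, [(83, 325701534320672), (147, 325634962327584), (275, 322439506659360), (531, 186100064815136)]),
  (67, [0, 1], 195, [(323, 324637422618656), (579, 256467701696544)]),
  (259, [0, 1, 2], 771, []),
  (21, [2, 3], 85, [(149, 325669288511520), (277, 253205674035232), (533, 219120813574176)]),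
  (261, [0, 1, 4], 293, [(389, 325631776753696)]),
  (133, [0, 1, 5], 645, []),
  (529, [0, 2, 3, 5], 537, []),
  (161, [1, 2, 5, 6], 169, []),
  (545, [0, 3, 7], 609, []),
  (321, [0, 5, 7], 329, []),
  (385, [0, 2, 4, 7], 401, []),
  (22, [7, 10, 11], 150, [(278, 180604657305632), (534, 146519691041824)]),
  (262, [0, 7, 9, 12], 326, []),
  (518, [0, 1, 13], 550, []),
  (274, [1, 3, 11, 13], 282, []),
  (530, [0, 1, 3, 8], 594, []),
  (98, [0, 3, 14], 106, []),
  (162, [0, 3, 16], 418, []),
  (642, [0, 2, 12], 650, []),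
  (28, [4, 7, 12, 15], 60, []),
  (276, [0, 7, 9], 788, []),
  (100, [1, 7, 16], 228, []),
  (580, [0, 1, 6, 13], 588, []),
  (388, [1, 2, 5, 12], 396, []),
  (88, [1, 7, 14], 216, []),
  (296, [1, 5, 8, 15], 808, []),
  (112, [1, 10, 22], 368, []),
  (176, [0, 7, 26], 688, []),
  (448, [1, 4, 26], 960, [])]

def steps : List ChainStep := steps0

set_option maxRecDepth 20000 in
theorem check : checkChain 10 3 4 steps [2 ^ 4 - 1] = true := by decide +kernel

theorem unique {α β : Type*} [Fintype α] [DecidableEq α] [Fintype β] [DecidableEq β]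
    (hα : Fintype.card α = 10) (hβ : Fintype.card β = 10) {B : Set (Finset α)}
    {B' : Set (Finset β)} (hB : Cfsg.IsSteinerSystem 3 4 B) (hB' : Cfsg.IsSteinerSystem 3 4 B') :
    Cfsg.SetSystemIso B B' :=
  setSystemIso_of_checkChain_two (by norm_num) (by norm_num) (by norm_num) check hα hβ hB hB'

end CfsgLib.Mathieu.Chain10
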