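import Cfsg.Agent.Lib.Mathieu.Unique

/-! Chain certificate for the uniqueness of the Steiner system S(4,5,11). -/

set_option autoImplicit false

namespace CfsgLib.Mathieu.Chain11

def steps0 : List ChainStep := [
  (39, [0], 103, [(167, 11584668356937760), (295, 11582538053158944), (551, 11480283471775776), (1063, 7117421332760608)]),
  (135, [0, 1], 391, [(647, 11550616782473248), (1159, 9369185712965664)]),
  (519, [0, 1, 2], 1543, []),
  (43, [2, 3], 171, [(299, 11583636491044896), (555, 9264800827803680), (1067, 8174085293049888)]),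
  (523, [0, 1, 4], 587, [(779, 11582436114794528)]),
  (267, [0, 1, 5], 1291, []),
  (1059, [0, 2, 3, 5], 1075, []),
  (323, [1, 2, 5, 6], 339, []),
  (1091, [0, 3, 7], 1219, []),
  (643, [0, 5, 7], 659, []),
  (771, [0, 2, 4, 7], 803, []),
  (45, [7, 10, 11], 301, [(557, 6941568292456480), (1069, 5850849372014624)]),
  (525, [0, 7, 9, 12], 653, []),
  (1037, [0, 1, 13], 1101, []),
  (549, [1, 3, 11, 13], 565, []),
  (1061, [0, 1, 3, 8], 1189, []),
  (197, [0, 3, 14], 213, []),
  (325, [0, 3, 16], 837, []),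
  (1285, [0, 2, 12], 1301, []),
  (57, [4, 7, 12, 15], 121, []),
  (553, [0, 7, 9], 1577, []),
  (201, [1, 7, 16], 457, []),
  (1161, [0, 1, 6, 13], 1177, []),
  (777, [1, 2, 5, 12], 793, []),
  (177, [1, 7, 14], 433, []),
  (593, [1, 5, 8, 15], 1617, []),
  (225, [1, 10, 22], 737, []),
  (353, [0, 7, 26], 1377, []),
  (897, [1, 4, 26], 1921, []),
  (46, [17, 25, 28, 29], 558, [(1070, 10492920956290112)]),
  (270, [0, 24, 28, 30], 334, []),
  (1038, [0, 1, 31], 1166, []),
  (150, [0, 15, 22, 30], 182, []),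
  (278, [0, 2, 14], 790, []),
  (1046, [0, 1, 34], 1110, []),
  (294, [1, 4, 33], 1318, []),
  (198, [1, 5, 35], 710, []),
  (58, [4, 7, 17, 30], 314, []),
  (90, [0, 3, 33], 218, []),
  (538, [0, 1, 39], 1562, [])]

def steps1 : List ChainStep := [
  (106, [1, 9, 35], 1130, []),
  (394, [2, 9, 37], 906, []),
  (114, [1, 9, 34], 626, []),
  (402, [1, 10, 35], 1426, []),
  (226, [1, 3, 43], 482, []),
  (674, [0, 12, 41], 1698, []),
  (834, [1, 12, 41], 1858, []),
  (60, [9, 14, 17, 27], 1084, []),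
  (92, [0, 9, 17, 28], 604, []),
  (156, [0, 1, 49], 412, []),
  (108, [1, 9, 38], 236, []),
  (780, [1, 20, 39], 1804, []),
  (116, [1, 4, 9, 32], 372, []),
  (660, [3, 16, 38], 1684, []),
  (612, [1, 3, 53], 1636, []),
  (420, [2, 19, 43], 932, []),
  (452, [0, 6, 54], 1476, []),
  (184, [6, 19, 34], 696, []),
  (344, [5, 19, 34], 1368, []),
  (360, [0, 8, 14, 31], 872, []),
  (424, [0, 10, 56], 1448, []),
  (712, [1, 12, 56], 1736, []),
  (240, [4, 9, 17, 35], 1264, []),
  (816, [3, 7, 52], 1840, []),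
  (464, [1, 14, 56], 976, [])]

def steps : List ChainStep := steps0 ++ steps1

set_option maxRecDepth 20000 in
theorem check : checkChain 11 4 5 steps [2 ^ 5 - 1] = true := by decide +kernel

theorem unique {α β : Type*} [Fintype α] [DecidableEq α] [Fintype β] [DecidableEq β]
    (hα : Fintype.card α = 11) (hβ : Fintype.card β = 11) {B : Set (Finset α)}
    {B' : Set (Finset β)} (hB : Cfsg.IsSteinerSystem 4 5 B) (hB' : Cfsg.IsSteinerSystem 4 5 B') :
    Cfsg.SetSystemIso B B' :=
  setSystemIso_of_checkChain_two (by norm_num) (by norm_num) (by norm_num) check hα hβ hB hB'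

end CfsgLib.Mathieu.Chain11
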