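import Cfsg.Agent.Lib.Mathieu.Unique

/-! Chain certificate for the uniqueness of the Steiner system S(5,6,12). -/

set_option autoImplicit false

namespace CfsgLib.Mathieu.Chain12

def steps0 : List ChainStep := [
  (79, [0], 207, [(335, 407900403699648544), (591, 407832233978726432), (1103, 404560087374465056), (2127, 264948498925979680)]),
  (271, [0, 1], 783, [(1295, 406810753316784160), (2319, 337004959092541472)]),
  (1039, [0, 1, 2], 3087, []),
  (87, [2, 3], 343, [(599, 407867383991076896), (1111, 333664642767357984), (2135, 298761745655236640)]),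
  (1047, [0, 1, 4], 1175, [(1559, 407828971951065120)]),
  (535, [0, 1, 5], 2583, []),
  (2119, [0, 2, 3, 5], 2151, []),
  (647, [1, 2, 5, 6], 679, []),
  (2183, [0, 3, 7], 2439, []),
  (1287, [0, 5, 7], 1319, []),
  (1543, [0, 2, 4, 7], 1607, []),
  (91, [7, 10, 11], 603, [(1115, 259321201636247584), (2139, 224418196182108192)]),
  (1051, [0, 7, 9, 12], 1307, []),
  (2075, [0, 1, 13], 2203, []),
  (1099, [1, 3, 11, 13], 1131, []),
  (2123, [0, 1, 3, 8], 2379, []),
  (395, [0, 3, 14], 427, []),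
  (651, [0, 3, 16], 1675, []),
  (2571, [0, 2, 12], 2603, []),
  (115, [4, 7, 12, 15], 243, []),
  (1107, [0, 7, 9], 3155, []),
  (403, [1, 7, 16], 915, []),
  (2323, [0, 1, 6, 13], 2355, []),
  (1555, [1, 2, 5, 12], 1587, []),
  (355, [1, 7, 14], 867, []),
  (1187, [1, 5, 8, 15], 3235, []),
  (451, [1, 10, 22], 1475, []),
  (707, [0, 7, 26], 2755, []),
  (1795, [1, 4, 26], 3843, []),
  (93, [17, 25, 28, 29], 1117, [(2141, 372964486878923808)]),
  (541, [0, 24, 28, 30], 669, []),
  (2077, [0, 1, 31], 2333, []),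
  (301, [0, 15, 22, 30], 365, []),
  (557, [0, 2, 14], 1581, []),
  (2093, [0, 1, 34], 2221, []),
  (589, [1, 4, 33], 2637, []),
  (397, [1, 5, 35], 1421, []),
  (117, [4, 7, 17, 30], 629, []),
  (181, [0, 3, 33], 437, []),
  (1077, [0, 1, 39], 3125, [])]

def steps1 : List ChainStep := [
  (213, [1, 9, 35], 2261, []),
  (789, [2, 9, 37], 1813, []),
  (229, [1, 9, 34], 1253, []),
  (805, [1, 10, 35], 2853, []),
  (453, [1, 3, 43], 965, []),
  (1349, [0, 12, 41], 3397, []),
  (1669, [1, 12, 41], 3717, []),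
  (121, [9, 14, 17, 27], 2169, []),
  (185, [0, 9, 17, 28], 1209, []),
  (313, [0, 1, 49], 825, []),
  (217, [1, 9, 38], 473, []),
  (1561, [1, 20, 39], 3609, []),
  (233, [1, 4, 9, 32], 745, []),
  (1321, [3, 16, 38], 3369, []),
  (1225, [1, 3, 53], 3273, []),
  (841, [2, 19, 43], 1865, []),
  (905, [0, 6, 54], 2953, []),
  (369, [6, 19, 34], 1393, []),
  (689, [5, 19, 34], 2737, []),
  (721, [0, 8, 14, 31], 1745, []),
  (849, [0, 10, 56], 2897, []),
  (1425, [1, 12, 56], 3473, []),
  (481, [4, 9, 17, 35], 2529, []),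
  (1633, [3, 7, 52], 3681, []),
  (929, [1, 14, 56], 1953, []),
  (94, [35, 53, 61, 64, 65], 2142, []),
  (158, [0, 35, 61, 66], 414, []),
  (542, [0, 1, 67], 1566, []),
  (110, [2, 35, 53, 67], 622, []),
  (174, [0, 2, 34], 1198, []),
  (302, [0, 1, 70], 2350, []),
  (334, [0, 4, 69], 1358, []),
  (654, [2, 5, 71], 2702, []),
  (118, [4, 7, 53, 69], 1142, []),
  (182, [0, 7, 66], 2230, []),
  (310, [0, 1, 75], 822, []),
  (214, [1, 9, 71], 726, []),
  (1302, [1, 5, 72], 3350, []),
  (230, [1, 8, 71], 486, []),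
  (1574, [3, 9, 68], 3622, [])]

def steps2 : List ChainStep := [
  (1222, [1, 3, 79], 3270, []),
  (838, [2, 9, 77], 2886, []),
  (902, [0, 6, 80], 1926, []),
  (122, [9, 14, 35, 63], 378, []),
  (186, [0, 9, 35], 698, []),
  (1082, [0, 1, 85], 3130, []),
  (218, [1, 19, 72], 1242, []),
  (794, [2, 19, 75], 2842, []),
  (234, [1, 9, 35], 2282, []),
  (810, [1, 20, 72], 1834, []),
  (458, [1, 3, 89], 970, []),
  (1610, [0, 22, 79], 3658, []),
  (1418, [1, 22, 79], 3466, []),
  (626, [8, 17, 69], 2674, []),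
  (434, [9, 15, 71], 1458, []),
  (466, [0, 4, 91], 2514, []),
  (850, [0, 12, 92], 1874, []),
  (1682, [0, 12, 92], 3730, []),
  (738, [4, 7, 90], 1762, []),
  (1378, [0, 15, 89], 3426, []),
  (930, [1, 15, 92], 2978, []),
  (124, [17, 27, 32, 53], 252, []),
  (316, [0, 26, 70], 1340, []),
  (572, [0, 1, 103], 2620, []),
  (348, [1, 37, 72], 860, []),
  (1180, [2, 18, 74], 3228, []),
  (1132, [3, 36, 72], 3180, []),
  (428, [4, 28, 72], 940, []),
  (460, [0, 36, 57], 2508, []),
  (716, [0, 7, 108], 1740, []),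
  (1804, [0, 7, 108], 3852, []),
  (372, [6, 32, 53], 2420, []),
  (692, [4, 35, 53], 1716, []),
  (468, [1, 8, 109], 1492, []),
  (1620, [0, 40, 84], 3668, []),
  (916, [1, 7, 93], 2964, []),
  (740, [3, 8, 108], 2788, []),
  (868, [0, 12, 92], 1892, []),
  (1444, [0, 15, 108], 3492, []),
  (632, [14, 25, 66], 1656, [])]

def steps3 : List ChainStep := [
  (440, [12, 25, 69], 2488, []),
  (728, [1, 16, 109], 2776, []),
  (1368, [2, 8, 109], 3416, []),
  (920, [1, 15, 101], 1944, []),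
  (488, [3, 16, 107], 1512, []),
  (872, [0, 20, 100], 2920, []),
  (1704, [1, 13, 108], 3752, []),
  (496, [2, 15, 107], 1008, []),
  (1264, [0, 26, 108], 3312, []),
  (1840, [1, 26, 105], 3888, []),
  (1984, [2, 20, 103], 4032, [])]

def steps : List ChainStep := steps0 ++ steps1 ++ steps2 ++ steps3

set_option maxRecDepth 20000 in
theorem check : checkChain 12 5 6 steps [2 ^ 6 - 1] = true := by decide +kernel

theorem unique {α β : Type*} [Fintype α] [DecidableEq α] [Fintype β] [DecidableEq β]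
    (hα : Fintype.card α = 12) (hβ : Fintype.card β = 12) {B : Set (Finset α)}
    {B' : Set (Finset β)} (hB : Cfsg.IsSteinerSystem 5 6 B) (hB' : Cfsg.IsSteinerSystem 5 6 B') :
    Cfsg.SetSystemIso B B' :=
  setSystemIso_of_checkChain_two (by norm_num) (by norm_num) (by norm_num) check hα hβ hB hB'

end CfsgLib.Mathieu.Chain12
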