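import Cfsg.Agent.Lib.Mathieu.Unique

/-! Chain certificate for the uniqueness of the Steiner system S(2,3,9). -/

set_option autoImplicit false

namespace CfsgLib.Mathieu.Chain9

def steps0 : List ChainStep := [
  (9, [0], 25, [(41, 9043193202720), (73, 9041112827936), (137, 8941254838304), (265, 4680647280672)]),
  (33, [0, 1], 97, [(161, 9009939712032), (289, 6879635933216)]),
  (129, [0, 1, 2], 385, []),
  (10, [2, 3], 42, [(74, 9042185521184), (138, 6777697568800), (266, 5712545679392)]),
  (130, [0, 1, 4], 146, [(194, 9041013278752)]),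
  (66, [0, 1, 5], 322, []),
  (264, [0, 2, 3, 5], 268, []),
  (80, [1, 2, 5, 6], 84, []),
  (272, [0, 3, 7], 304, []),
  (160, [0, 5, 7], 164, []),
  (192, [0, 2, 4, 7], 200, [])]

def steps : List ChainStep := steps0

set_option maxRecDepth 20000 in
theorem check : checkChain 9 2 3 steps [2 ^ 3 - 1] = true := by decide +kernel

theorem unique {α β : Type*} [Fintype α] [DecidableEq α] [Fintype β] [DecidableEq β]
    (hα : Fintype.card α = 9) (hβ : Fintype.card β = 9) {B : Set (Finset α)}
    {B' : Set (Finset β)} (hB : Cfsg.IsSteinerSystem 2 3 B) (hB' : Cfsg.IsSteinerSystem 2 3 B') :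
    Cfsg.SetSystemIso B B' :=
  setSystemIso_of_checkChain_two (by norm_num) (by norm_num) (by norm_num) check hα hβ hB hB'

end CfsgLib.Mathieu.Chain9
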