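import Cfsg.Agent.Lib.Mathieu.CoOneEleven
import Cfsg.Agent.Lib.Fischer2.LeechXi

/-!
Lines determined by their stabilisers in the axis stabiliser, and the consequences for an
automorphism fixing the axis stabiliser pointwise.
-/

set_option autoImplicit false

namespace CfsgLib.Mathieu.CoOneOut

open MulAction Cfsg CfsgLib.GolayStructure CfsgLib.Leech CfsgLib.Fischer2 CfsgLib.Mathieu.CoThreeOut
open scoped Pointwise Classical

local instance fact_prime_eleven_cl : Fact (Nat.Prime 11) := ⟨by norm_num⟩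

/-- An embedding of five distinct points. -/
theorem exists_emb {a b c d e : GolayPt} (h : [a, b, c, d, e].Nodup) :
    ∃ x : Fin 5 ↪ GolayPt, x 0 = a ∧ x 1 = b ∧ x 2 = c ∧ x 3 = d ∧ x 4 = e := by
  simp only [List.nodup_cons, List.mem_cons, List.not_mem_nil, not_or, not_false_eq_true,
    List.nodup_nil, and_true] at h
  refine ⟨⟨![a, b, c, d, e], fun i j hij => ?_⟩, rfl, rfl, rfl, rfl, rfl⟩
  fin_cases i <;> fin_cases j <;> simp at hij ⊢ <;> simp_all

theorem exists_perm_five {a b c d e a' b' c' d' e' : GolayPt} (h : [a, b, c, d, e].Nodup)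
    (h' : [a', b', c', d', e'].Nodup) :
    ∃ σ : M24, (σ : Equiv.Perm GolayPt) a = a' ∧ (σ : Equiv.Perm GolayPt) b = b' ∧
      (σ : Equiv.Perm GolayPt) c = c' ∧ (σ : Equiv.Perm GolayPt) d = d' ∧
      (σ : Equiv.Perm GolayPt) e = e' := by
  obtain ⟨x, x0, x1, x2, x3, x4⟩ := exists_emb h
  obtain ⟨y, y0, y1, y2, y3, y4⟩ := exists_emb h'
  obtain ⟨g, hg, hxy⟩ := CfsgLib.Golay.exists_M24_map x y
  exact ⟨⟨g, hg⟩, by rw [← x0, ← y0]; exact hxy 0, by rw [← x1, ← y1]; exact hxy 1,
    by rw [← x2, ← y2]; exact hxy 2, by rw [← x3, ← y3]; exact hxy 3,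
    by rw [← x4, ← y4]; exact hxy 4⟩

theorem exists_axis (p : GolayPt) :
    ∃ σ : M24, SameLine (axisVec p) (permAut σ • axisVec none) := by
  obtain ⟨o, ho⟩ := exists_ne (none : GolayPt)
  obtain ⟨o', ho'⟩ := exists_ne p
  obtain ⟨g, hg, h1, -⟩ := exists_M24_pair (c := p) (d := o') ho.symm ho'.symm
  refine ⟨⟨g, hg⟩, ?_⟩
  have := monoAut_axis 0 ⟨g, hg⟩ none
  rwa [← permAut_eq_monoAut, show (((⟨g, hg⟩ : M24)) : Equiv.Perm GolayPt) none = p from h1] at this

/-- Four coordinates of absolute value four. -/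
def FourOn (w : leechLattice) (T : Finset GolayPt) : Prop :=
  T.card = 4 ∧ (∀ p ∈ T, |coordVec w p| = 4) ∧ ∀ p ∉ T, coordVec w p = 0

/-- The lines kept by a map on the cosets of the axis group. -/
def Img (δ : MulAut Spor.Co1) (w : leechLattice) : Prop :=
  ∀ h h' : Co0, SameLine w (h • axisVec none) → toCoOne h' = δ (toCoOne h) →
    SameLine w (h' • axisVec none)

variable {δ : MulAut Spor.Co1} (hδ : ∀ b ∈ lineStab, δ (toCoOne b) = toCoOne b)

include hδ in
theorem trans_stab {h h' b : Co0} (hh : toCoOne h' = δ (toCoOne h)) (hb : b ∈ lineStab)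
    (hw : SameLine (h • axisVec none) (b • h • axisVec none)) :
    SameLine (h' • axisVec none) (b • h' • axisVec none) := by
  rw [← mul_smul] at hw ⊢
  rw [← same_coset] at hw ⊢
  obtain ⟨c, hc, e⟩ := hw
  refine ⟨c, hc, ?_⟩
  rw [← hδ c hc, e, map_mul, map_mul toCoOne, map_inv, map_mul δ, hδ b hb, ← hh, map_mul toCoOne]

include hδ in
theorem eq_line_of_eq {h₁ h₁' h₂ h₂' : Co0} (e₁ : toCoOne h₁' = δ (toCoOne h₁))
    (e₂ : toCoOne h₂' = δ (toCoOne h₂))
    (h : SameLine (h₁' • axisVec none) (h₂' • axisVec none)) :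
    SameLine (h₁ • axisVec none) (h₂ • axisVec none) := by
  rw [← same_coset] at h ⊢
  obtain ⟨c, hc, e⟩ := h
  refine ⟨c, hc, δ.injective ?_⟩
  rw [hδ c hc, e, e₁, e₂, map_mul, map_inv]

theorem norm_single {w : leechLattice} {p : GolayPt} (hn : sqNorm (coordVec w) = 64)
    (h0 : ∀ r, r ≠ p → coordVec w r = 0) : SameLine (axisVec p) w := by
  rw [sqNorm, ← Finset.add_sum_erase _ _ (Finset.mem_univ p),
    Finset.sum_eq_zero fun r hr => by rw [h0 r (Finset.mem_erase.1 hr).1]; rfl, add_zero] at hn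
  have h8 : coordVec w p = 8 ∨ coordVec w p = -8 := by
    rcases sq_eq_sq_iff_eq_or_eq_neg.1 (show coordVec w p ^ 2 = 8 ^ 2 by rw [hn]; norm_num) with e | e
    · exact Or.inl e
    · exact Or.inr e
  rcases h8 with e | e
  · refine Or.inl (leech_ext fun r => ?_)
    rw [coordVec_axisVec]
    by_cases hr : r = p
    · rw [hr, if_pos rfl, e]
    · rw [if_neg hr, h0 r hr]
  · refine Or.inr (leech_ext fun r => ?_)
    show _ = -coordVec (axisVec p) r
    rw [coordVec_axisVec]
    by_cases hr : r = p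
    · rw [hr, if_pos rfl, e]
    · rw [if_neg hr, h0 r hr, neg_zero]

/-- A vector whose sign changes on a code word give the same line: the word is constant on the
support. -/
theorem signs_const {d : golayCode} {w : leechLattice} (h : SameLine w (signAut d • w))
    {p p' : GolayPt} (hp : coordVec w p ≠ 0) (hp' : coordVec w p' ≠ 0) :
    (d : GolayPt → ZMod 2) p = (d : GolayPt → ZMod 2) p' := by
  have key : ∀ r, coordVec w r ≠ 0 →
      ((signAut d • w = w) ↔ (d : GolayPt → ZMod 2) r = 0) := fun r hr => by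
    constructor
    · intro e
      have := congrArg (fun v => coordVec v r) e
      rw [coordVec_signAut] at this
      by_contra hne
      rw [if_neg hne] at this
      omega
    · intro e
      rcases h with h | h
      · exact h
      · exfalso
        have := congrArg (fun v => coordVec v r) h
        change coordVec (signAut d • w) r = -coordVec w r at this
        rw [coordVec_signAut, if_pos e] at this
        omega
  rcases CfsgLib.Leech.zmod2_cases ((d : GolayPt → ZMod 2) p) with a | a <;>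
    rcases CfsgLib.Leech.zmod2_cases ((d : GolayPt → ZMod 2) p') with b | b
  · rw [a, b]
  · exact absurd ((key p' hp').1 ((key p hp).2 a)) (by rw [b]; exact one_ne_zero)
  · exact absurd ((key p hp).1 ((key p' hp').2 b)) (by rw [a]; exact one_ne_zero)
  · rw [a, b]

/-- Signs vanishing on the support fix the vector. -/
theorem signs_fix {d : golayCode} {w : leechLattice} {T : Finset GolayPt}
    (hd : ∀ p ∈ T, (d : GolayPt → ZMod 2) p = 0) (h0 : ∀ p ∉ T, coordVec w p = 0) :
    signAut d • w = w := by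
  refine leech_ext fun p => ?_
  rw [coordVec_signAut]
  by_cases hp : p ∈ T
  · rw [if_pos (hd p hp)]
  · rw [h0 p hp, neg_zero, ite_self]

include hδ in
/-- The image of a vector with small support has small support, or a single entry. -/
theorem support_image {h h' : Co0} (hh : toCoOne h' = δ (toCoOne h)) {T : Finset GolayPt}
    (hT : T.card ≤ 5) (hw : ∀ p ∉ T, coordVec (h • axisVec none) p = 0) {p₁ p₂ : GolayPt}
    (h1 : p₁ ∉ T) (h12 : p₁ ≠ p₂) (hp₁ : coordVec (h' • axisVec none) p₁ ≠ 0) :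
    coordVec (h' • axisVec none) p₂ = 0 := by
  by_contra hp₂
  obtain ⟨d, hd, hdv⟩ := exists_code_on (T := insert p₁ (insert p₂ T))
    ((Finset.card_insert_le _ _).trans (by
      have := Finset.card_insert_le p₂ T
      omega)) (fun p => if p = p₁ then 1 else 0)
  have hfix : ∀ p ∈ T, ((⟨d, hd⟩ : golayCode) : GolayPt → ZMod 2) p = 0 := fun p hp => by
    show d p = 0
    rw [hdv p (by simp [hp]), if_neg (fun e : p = p₁ => h1 (e ▸ hp))]
  have hb : signAut ⟨d, hd⟩ ∈ lineStab := by
    rw [signAut_eq_monoAut]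
    exact monoAut_mem_lineStab _ rfl
  have := signs_const (trans_stab hδ hh hb (Or.inl (signs_fix hfix hw))) hp₁ hp₂
  change d p₁ = d p₂ at this
  rw [hdv p₁ (by simp), hdv p₂ (by simp), if_pos rfl, if_neg h12.symm] at this
  exact one_ne_zero this

include hδ in
theorem ne_none_of_image {h h' : Co0} (hh : toCoOne h' = δ (toCoOne h))
    (e : SameLine (axisVec none) (h' • axisVec none)) :
    SameLine (axisVec none) (h • axisVec none) := by
  have h1 := eq_line_of_eq hδ (h₁ := 1) (h₁' := 1) (by rw [map_one, map_one]) hh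
    (by rwa [one_smul])
  rwa [one_smul] at h1

include hδ in
theorem img_axis {p : GolayPt} (hp : p ≠ none) : Img δ (axisVec p) := by
  intro h h' hw hh
  have hsupp : ∀ r ∉ ({p} : Finset GolayPt), coordVec (h • axisVec none) r = 0 := fun r hr => by
    have := hw.abs_eq r
    rw [coordVec_axisVec, if_neg (by simpa using hr), abs_zero] at this
    exact abs_eq_zero.1 this
  have hn : sqNorm (coordVec (h' • axisVec none)) = 64 := by rw [sqNorm_smul', sqNorm_axisVec]
  by_cases hex : ∃ p₁, p₁ ≠ p ∧ coordVec (h' • axisVec none) p₁ ≠ 0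
  · obtain ⟨p₁, hp₁, hne⟩ := hex
    have hline := norm_single hn (p := p₁) fun r hr =>
      support_image hδ hh (T := {p}) (by simp) hsupp (by simpa using hp₁) (Ne.symm hr) hne
    exfalso
    have hp₁n : p₁ ≠ none := by
      rintro rfl
      exact hp (axis_injective ((ne_none_of_image hδ hh hline).trans hw.symm))
    have hcard : Nat.card (stabilizer M24 (none : GolayPt) ⊓ stabilizer M24 p : Subgroup M24)
        = 443520 := CfsgLib.Golay.card_stabilizer_two (Ne.symm hp)
    obtain ⟨⟨τ, hτ⟩, hτo⟩ := exists_prime_orderOf_dvd_card'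
      (G := (stabilizer M24 (none : GolayPt) ⊓ stabilizer M24 p : Subgroup M24)) 11
      (by rw [hcard]; norm_num)
    obtain ⟨hτn, hτp⟩ := Subgroup.mem_inf.1 hτ
    have hτo' : orderOf τ = 11 := (Subgroup.orderOf_coe ⟨τ, hτ⟩).trans hτo
    have hb : permAut τ ∈ lineStab := by
      rw [permAut_eq_monoAut]; exact monoAut_mem_lineStab 0 hτn
    have hax : SameLine (axisVec p) (permAut τ • axisVec p) := by
      have := monoAut_axis 0 τ p
      rwa [← permAut_eq_monoAut, show (τ : Equiv.Perm GolayPt) p = p from hτp] at this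
    have h2 := trans_stab hδ hh hb (hw.symm.trans (hax.trans (hw.smul _)))
    have h3 := hline.trans (h2.trans (hline.smul (permAut τ)).symm)
    have h4 := monoAut_axis 0 τ p₁
    rw [← permAut_eq_monoAut] at h4
    have hfix : τ • p₁ = p₁ := axis_injective (h3.trans h4.symm)
    rcases eleven_fixed (Ne.symm hp) ⟨hτn, hτp⟩ hτo' hfix with e | e
    · exact hp₁n e
    · exact hp₁ e
  · push Not at hex
    exact norm_single hn hex

/-- A sign word realising a transposition of four entries of absolute value four. -/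
theorem exists_stab_swap {w : leechLattice} {T : Finset GolayPt} (hw : FourOn w T)
    (hT : (none : GolayPt) ∉ T) {a b : GolayPt} (ha : a ∈ T) (hb : b ∈ T) (hab : a ≠ b) :
    ∃ (d : golayCode) (σ : M24), monoAut d σ ∈ lineStab ∧ monoAut d σ • w = w ∧
      (σ : Equiv.Perm GolayPt).symm b = a ∧
      ((d : GolayPt → ZMod 2) b = if coordVec w a = coordVec w b then 0 else 1) ∧
      ∀ c ∈ T, c ≠ a → c ≠ b →
        (σ : Equiv.Perm GolayPt).symm c = c ∧ (d : GolayPt → ZMod 2) c = 0 := by
  obtain ⟨hcard, hfour, hzero⟩ := hw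
  have hrest : ((T.erase a).erase b).card = 2 := by
    rw [Finset.card_erase_of_mem (Finset.mem_erase.2 ⟨hab.symm, hb⟩), Finset.card_erase_of_mem ha,
      hcard]
  obtain ⟨c, e, hce, hset⟩ := Finset.card_eq_two.1 hrest
  have hc : c ≠ b ∧ c ≠ a ∧ c ∈ T := by
    have : c ∈ (T.erase a).erase b := by rw [hset]; simp
    simpa using this
  have he : e ≠ b ∧ e ≠ a ∧ e ∈ T := by
    have : e ∈ (T.erase a).erase b := by rw [hset]; simp
    simpa using this
  have hmem : ∀ r ∈ T, r = a ∨ r = b ∨ r = c ∨ r = e := by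
    intro r hr
    by_cases h1 : r = a
    · exact Or.inl h1
    by_cases h2 : r = b
    · exact Or.inr (Or.inl h2)
    have : r ∈ ({c, e} : Finset GolayPt) :=
      hset ▸ Finset.mem_erase.2 ⟨h2, Finset.mem_erase.2 ⟨h1, hr⟩⟩
    simp only [Finset.mem_insert, Finset.mem_singleton] at this
    rcases this with h | h
    exacts [Or.inr (Or.inr (Or.inl h)), Or.inr (Or.inr (Or.inr h))]
  have hn : ∀ r ∈ T, (none : GolayPt) ≠ r := fun r hr h => hT (h ▸ hr)
  obtain ⟨σ, s0, s1, s2, s3, s4⟩ := exists_perm_five (a := none) (b := a) (c := b) (d := c) (e := e)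
    (a' := none) (b' := b) (c' := a) (d' := c) (e' := e)
    (by simp [hn a ha, hn b hb, hn c hc.2.2, hn e he.2.2, hab, Ne.symm hc.2.1, Ne.symm he.2.1,
      Ne.symm hc.1, Ne.symm he.1, hce])
    (by simp [hn a ha, hn b hb, hn c hc.2.2, hn e he.2.2, hab.symm, Ne.symm hc.2.1, Ne.symm he.2.1,
      Ne.symm hc.1, Ne.symm he.1, hce])
  obtain ⟨d, hd, hdv⟩ := exists_code_on (T := T) (by omega)
    (fun r => if coordVec w ((σ : Equiv.Perm GolayPt).symm r) = coordVec w r then 0 else 1)
  have sa : (σ : Equiv.Perm GolayPt).symm a = b := (Equiv.symm_apply_eq _).2 s2.symm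
  have sb : (σ : Equiv.Perm GolayPt).symm b = a := (Equiv.symm_apply_eq _).2 s1.symm
  have sc : (σ : Equiv.Perm GolayPt).symm c = c := (Equiv.symm_apply_eq _).2 s3.symm
  have se : (σ : Equiv.Perm GolayPt).symm e = e := (Equiv.symm_apply_eq _).2 s4.symm
  refine ⟨⟨d, hd⟩, σ, monoAut_mem_lineStab _ s0, leech_ext fun r => ?_, sb, ?_, fun r hr h1 h2 => ?_⟩
  · rw [coordVec_monoAut]
    show (if d r = 0 then _ else _) = _
    by_cases hr : r ∈ T
    · have hT' : (σ : Equiv.Perm GolayPt).symm r ∈ T := by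
        rcases hmem r hr with rfl | rfl | rfl | rfl
        exacts [by rw [sa]; exact hb, by rw [sb]; exact ha, by rw [sc]; exact hr,
          by rw [se]; exact hr]
      rw [hdv r hr]
      by_cases heq : coordVec w ((σ : Equiv.Perm GolayPt).symm r) = coordVec w r
      · rw [if_pos heq, if_pos rfl, heq]
      · rw [if_neg heq, if_neg one_ne_zero]
        rcases abs_eq_abs.1 ((hfour _ hT').trans (hfour _ hr).symm) with h | h
        · exact absurd h heq
        · rw [h, neg_neg]
    · have hT' : (σ : Equiv.Perm GolayPt).symm r ∉ T := by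
        intro h
        apply hr
        have hrr : r = (σ : Equiv.Perm GolayPt) ((σ : Equiv.Perm GolayPt).symm r) :=
          (Equiv.apply_symm_apply _ _).symm
        rcases hmem _ h with e' | e' | e' | e'
        · rw [hrr, e', s1]; exact hb
        · rw [hrr, e', s2]; exact ha
        · rw [hrr, e', s3]; exact hc.2.2
        · rw [hrr, e', s4]; exact he.2.2
      rw [hzero _ hT', hzero _ hr, neg_zero, ite_self]
  · show d b = _
    rw [hdv b hb, sb]
  · have : (σ : Equiv.Perm GolayPt).symm r = r := by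
      rcases hmem r hr with rfl | rfl | rfl | rfl
      exacts [absurd rfl h1, absurd rfl h2, sc, se]
    exact ⟨this, by show d r = 0; rw [hdv r hr, this, if_pos rfl]⟩

include hδ in
theorem img_four {w : leechLattice} {T : Finset GolayPt} (hw : FourOn w T)
    (hT : (none : GolayPt) ∉ T) : Img δ w := by
  intro h h' hwh hh
  obtain ⟨hcard, hfour, hzero⟩ := id hw
  have hsupp : ∀ r ∉ T, coordVec (h • axisVec none) r = 0 := fun r hr => by
    have := hwh.abs_eq r
    rw [hzero r hr, abs_zero] at this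
    exact abs_eq_zero.1 this
  set v := h' • axisVec none with hv
  have hn : sqNorm (coordVec v) = 64 := by rw [hv, sqNorm_smul', sqNorm_axisVec]
  have hout : ∀ r ∉ T, coordVec v r = 0 := by
    intro p₁ hp₁
    by_contra hne
    have hline := norm_single hn (p := p₁) fun r hr =>
      support_image hδ hh (by omega) hsupp hp₁ (Ne.symm hr) hne
    have hcon : ∀ q, SameLine (axisVec q) (h • axisVec none) → False := by
      intro q hq
      obtain ⟨r, hr, hrq⟩ := Finset.exists_mem_ne (show 1 < T.card by omega) q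
      have h1 := hwh.abs_eq r
      have h2 := hq.abs_eq r
      rw [h1, hfour r hr, coordVec_axisVec, if_neg hrq] at h2
      norm_num at h2
    by_cases hp : p₁ = none
    · subst hp
      exact hcon none (ne_none_of_image hδ hh hline)
    · obtain ⟨σ, hσ⟩ := exists_axis p₁
      obtain ⟨k, hk⟩ := toCoOne_surjective (δ (toCoOne (permAut σ)))
      have h3 := img_axis hδ hp (permAut σ) k hσ hk
      exact hcon p₁ (hσ.trans (eq_line_of_eq hδ hk hh (h3.symm.trans hline)))
  -- equal absolute values and proportional signs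
  have hswap : ∀ a ∈ T, ∀ b ∈ T, a ≠ b → |coordVec v a| = |coordVec v b| ∧
      ((∃ c ∈ T, c ≠ a ∧ c ≠ b ∧ coordVec v c ≠ 0) →
        coordVec v b = if coordVec w a = coordVec w b then coordVec v a else -coordVec v a) := by
    intro a ha b hb hab
    obtain ⟨d, σ, hm, hmw, hsb, hdb, hrest⟩ := exists_stab_swap hw hT ha hb hab
    have hwh' : SameLine (h • axisVec none) (monoAut d σ • h • axisVec none) := by
      have := hwh.smul (monoAut d σ)
      rw [hmw] at this
      exact hwh.symm.trans this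
    have h2 := trans_stab hδ hh hm hwh'
    refine ⟨?_, fun ⟨c, hcT, hca, hcb, hc0⟩ => ?_⟩
    · have h3 := h2.abs_eq b
      rw [coordVec_monoAut, hsb] at h3
      rw [← h3]
      split_ifs
      · rfl
      · exact (abs_neg _).symm
    · obtain ⟨hsc, hdc⟩ := hrest c hcT hca hcb
      rcases h2 with e | e
      · have := congrArg (fun x => coordVec x b) e
        rw [coordVec_monoAut, hsb, hdb] at this
        by_cases hab' : coordVec w a = coordVec w b
        · rw [if_pos hab'] at this ⊢
          rw [if_pos rfl] at this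
          exact this.symm
        · rw [if_neg hab'] at this ⊢
          rw [if_neg one_ne_zero] at this
          exact this.symm
      · exfalso
        have := congrArg (fun x => coordVec x c) e
        change coordVec (monoAut d σ • v) c = -coordVec v c at this
        rw [coordVec_monoAut, hsc, if_pos hdc] at this
        omega
  obtain ⟨a, ha⟩ := Finset.card_pos.1 (show 0 < T.card by omega)
  have hall : ∀ p ∈ T, |coordVec v p| = 4 := by
    have hsq : ∀ p ∈ T, coordVec v p ^ 2 = coordVec v a ^ 2 := fun p hp => by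
      by_cases hpa : p = a
      · rw [hpa]
      · rw [← sq_abs, ← (hswap a ha p hp (Ne.symm hpa)).1, sq_abs]
    have h64 : 4 * coordVec v a ^ 2 = 64 := by
      rw [sqNorm, ← Finset.sum_subset (Finset.subset_univ T)
        (fun r _ hr => by rw [hout r hr]; rfl), Finset.sum_congr rfl hsq, Finset.sum_const, hcard] at hn
      simpa using hn
    intro p hp
    have h16 : |coordVec v p| ^ 2 = 4 ^ 2 := by rw [sq_abs, hsq p hp]; linarith
    exact (sq_eq_sq₀ (abs_nonneg _) (by norm_num)).1 h16
  have hrel : ∀ b ∈ T, b ≠ a →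
      coordVec v b = if coordVec w a = coordVec w b then coordVec v a else -coordVec v a := by
    intro b hb hba
    obtain ⟨c, hc⟩ := Finset.card_pos.1 (show 0 < ((T.erase a).erase b).card by
      rw [Finset.card_erase_of_mem (Finset.mem_erase.2 ⟨hba, hb⟩), Finset.card_erase_of_mem ha,
        hcard]
      norm_num)
    simp only [Finset.mem_erase] at hc
    exact (hswap a ha b hb (Ne.symm hba)).2 ⟨c, hc.2.2, hc.2.1, hc.1, fun h0 => by
      have := hall c hc.2.2; rw [h0] at this; norm_num at this⟩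
  rcases abs_eq_abs.1 ((hall a ha).trans (hfour a ha).symm) with e | e
  · refine Or.inl (leech_ext fun r => ?_)
    by_cases hr : r ∈ T
    · by_cases hra : r = a
      · rw [hra, e]
      · rw [hrel r hr hra]
        split_ifs with hs
        · rw [e, hs]
        · rcases abs_eq_abs.1 ((hfour a ha).trans (hfour r hr).symm) with h | h
          · exact absurd h hs
          · rw [e, h, neg_neg]
    · rw [hout r hr, hzero r hr]
  · refine Or.inr (leech_ext fun r => ?_)
    show _ = -coordVec w r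
    by_cases hr : r ∈ T
    · by_cases hra : r = a
      · rw [hra, e]
      · rw [hrel r hr hra]
        split_ifs with hs
        · rw [e, hs]
        · rcases abs_eq_abs.1 ((hfour a ha).trans (hfour r hr).symm) with h | h
          · exact absurd h hs
          · rw [e, h, neg_neg]
    · rw [hout r hr, hzero r hr, neg_zero]

/-- An element of the lattice group with four tetrads of fours. -/
theorem exists_flip : ∃ (T₀ : Finset GolayPt) (S : Finset (Finset GolayPt)) (ξ : Co0),
    T₀.card = 4 ∧ (none : GolayPt) ∈ T₀ ∧ S = sextetOf T₀ ∧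
      ∀ v : leechLattice, ∀ U ∈ S, ∀ p ∈ U,
        |coordVec (ξ • v) p| = |coordVec v p - (∑ q ∈ U, coordVec v q) / 2| := by
  obtain ⟨T₀, hsub, -, hc⟩ := Finset.exists_subsuperset_card_eq (s := {(none : GolayPt)})
    (t := Finset.univ) (n := 4) (Finset.subset_univ _) (by simp) (by simp [GolayPt])
  obtain ⟨ξ, hξ⟩ := exists_xi hc
  exact ⟨T₀, _, ξ, hc, Finset.singleton_subset_iff.1 hsub, rfl, fun v U hU p hp => (hξ v).2 U hU p hp⟩

theorem flip_axis {T₀ : Finset GolayPt} {ξ : Co0} (hT₀ : T₀.card = 4)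
    (hξ : ∀ v : leechLattice, ∀ U ∈ sextetOf T₀, ∀ p ∈ U,
      |coordVec (ξ • v) p| = |coordVec v p - (∑ q ∈ U, coordVec v q) / 2|)
    {U : Finset GolayPt} (hU : U ∈ sextetOf T₀) {p : GolayPt} (hp : p ∈ U) :
    FourOn (ξ • axisVec p) U := by
  have hS := sextetOf_mem hT₀
  have hsum : ∀ V ∈ sextetOf T₀, ∑ q ∈ V, coordVec (axisVec p) q = if p ∈ V then 8 else 0 :=
    fun V _ => by simp [coordVec_axisVec]
  refine ⟨hS.2.1 U hU, fun r hr => ?_, fun r hr => ?_⟩
  · rw [hξ _ U hU r hr, hsum U hU, if_pos hp, coordVec_axisVec]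
    split_ifs <;> norm_num
  · obtain ⟨V, hV, hrV⟩ := exists_tetrad hS r
    have hpV : p ∉ V := fun h => by
      have hVU : V = U := by
        by_contra hne
        exact Finset.disjoint_left.1 (sextet_disjoint hS hV hU hne) h hp
      exact hr (hVU ▸ hrV)
    have := hξ (axisVec p) V hV r hrV
    rw [hsum V hV, if_neg hpV, coordVec_axisVec, if_neg (fun e : r = p => hpV (e ▸ hrV))] at this
    simpa using this

/-- Every positive vector of four fours is an image of the axis. -/
theorem exists_four {T : Finset GolayPt} (hT : T.card = 4) :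
    ∃ (m : Co0), ∀ p, coordVec (m • axisVec none) p = if p ∈ T then 4 else 0 := by
  obtain ⟨T₀, S, ξ, hT₀, -, rfl, hξ⟩ := exists_flip
  have hT₀S : T₀ ∈ sextetOf T₀ := Finset.mem_insert_self _ _
  obtain ⟨a', b', c', e', hab', hac', hae', hbc', hbe', hce', hseq'⟩ := Finset.card_eq_four.1 hT₀
  obtain ⟨a, b, c, e, hab, hac, hae, hbc, hbe, hce, hseq⟩ := Finset.card_eq_four.1 hT
  obtain ⟨x', hx'⟩ := Finset.card_pos.1 (show 0 < T₀ᶜ.card by
    rw [Finset.card_compl, hT₀]; simp [GolayPt])
  obtain ⟨x, hx⟩ := Finset.card_pos.1 (show 0 < Tᶜ.card by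
    rw [Finset.card_compl, hT]; simp [GolayPt])
  simp only [Finset.mem_compl, hseq', hseq, Finset.mem_insert, Finset.mem_singleton, not_or] at hx hx'
  obtain ⟨σ, s1, s2, s3, s4, -⟩ := exists_perm_five (a := a') (b := b') (c := c') (d := e') (e := x')
    (a' := a) (b' := b) (c' := c) (d' := e) (e' := x)
    (by simp [hab', hac', hae', hbc', hbe', hce', Ne.symm hx'.1, Ne.symm hx'.2.1, Ne.symm hx'.2.2.1,
      Ne.symm hx'.2.2.2])
    (by simp [hab, hac, hae, hbc, hbe, hce, Ne.symm hx.1, Ne.symm hx.2.1, Ne.symm hx.2.2.1,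
      Ne.symm hx.2.2.2])
  have ha' : a' ∈ T₀ := by rw [hseq']; simp
  obtain ⟨τ, hτ⟩ := exists_axis a'
  set u := permAut σ • ξ • permAut τ • axisVec none with hu
  have habs : ∀ p, |coordVec u p| = if p ∈ T then 4 else 0 := by
    intro p
    obtain ⟨-, h4, h0⟩ := flip_axis hT₀ hξ hT₀S ha'
    have hl := (hτ.smul ξ).abs_eq ((σ : Equiv.Perm GolayPt).symm p)
    rw [hu, coordVec_permAut, hl]
    have hiff : (σ : Equiv.Perm GolayPt).symm p ∈ T₀ ↔ p ∈ T := by
      rw [hseq', hseq]
      simp only [Finset.mem_insert, Finset.mem_singleton, Equiv.symm_apply_eq, s1, s2, s3, s4]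
    by_cases hp : p ∈ T
    · rw [if_pos hp, h4 _ (hiff.2 hp)]
    · rw [if_neg hp, h0 _ (fun h => hp (hiff.1 h)), abs_zero]
  obtain ⟨d, hd, hdv⟩ := exists_code_on (T := T) (by omega)
    (fun p => if coordVec u p = 4 then 0 else 1)
  refine ⟨signAut ⟨d, hd⟩ * (permAut σ * (ξ * permAut τ)), fun p => ?_⟩
  rw [mul_smul, mul_smul, mul_smul, ← hu, coordVec_signAut]
  show (if d p = 0 then _ else _) = _
  have hap := habs p
  by_cases hp : p ∈ T
  · rw [if_pos hp] at hap ⊢
    rw [hdv p hp]
    by_cases h4 : coordVec u p = 4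
    · rw [if_pos h4, if_pos rfl, h4]
    · rw [if_neg h4, if_neg one_ne_zero]
      rcases abs_choice (coordVec u p) with h | h <;> rw [h] at hap <;> omega
  · rw [if_neg hp] at hap ⊢
    rw [abs_eq_zero.1 hap, neg_zero, ite_self]

/-- The quotient of an element by its image fixes a line kept on both sides. -/
theorem key_line {h₀ k : Co0} (hk : toCoOne k = δ (toCoOne h₀)) {v : leechLattice} {m : Co0}
    (hm : SameLine v (m • axisVec none)) (h1 : Img δ v) (h2 : Img δ (h₀ • v)) :
    SameLine v ((h₀⁻¹ * k) • v) := by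
  obtain ⟨m', hm'⟩ := toCoOne_surjective (δ (toCoOne m))
  have e1 := h1 m m' hm hm'
  have e2 := h2 (h₀ * m) (k * m') (by rw [mul_smul]; exact hm.smul h₀)
    (by rw [map_mul, map_mul toCoOne h₀ m, map_mul, hk, hm'])
  rw [mul_smul] at e2
  have e3 := (e2.trans (e1.smul k).symm).smul h₀⁻¹
  rw [inv_smul_smul] at e3
  rwa [mul_smul]

/-- An element keeping the axes off four points acts by signs. -/
theorem exists_signs {r : Co0} {A : Finset GolayPt} (hA : Aᶜ.card ≤ 4)
    (hr : ∀ p ∈ A, SameLine (axisVec p) (r • axisVec p)) : ∃ d : golayCode, r = signAut d := by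
  obtain ⟨p₀, hp₀⟩ := Finset.card_pos.1 (show 0 < A.card by
    have := Finset.card_add_card_compl A
    rw [show Fintype.card GolayPt = 24 by simp [GolayPt]] at this
    omega)
  obtain ⟨d, σ, rfl⟩ := exists_monomial (mem_stabilizer_crossOf.1 (mono_of_axis (hr p₀ hp₀)))
  refine ⟨d, ?_⟩
  have hfix : ∀ p ∈ A, (σ : Equiv.Perm GolayPt) p = p := fun p hp =>
    axis_injective ((hr p hp).trans (monoAut_axis d σ p).symm)
  suffices hσ : σ = 1 by rw [hσ, ← permHom_apply, map_one, mul_one]
  refine eq_one_of_fix_code fun c => Or.inl fun i => ?_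
  let c' : golayCode := ⟨fun i => (c : GolayPt → ZMod 2) ((σ : Equiv.Perm GolayPt).symm i),
    comp_mem_golayCode (M24.inv_mem σ.2) c.2⟩
  have h0 := code_const (d := c + c') hA (c := 0) (fun p hp => by
    have hpA : p ∈ A := by simpa using hp
    show (c : GolayPt → ZMod 2) p + (c : GolayPt → ZMod 2) ((σ : Equiv.Perm GolayPt).symm p) = 0
    rw [(Equiv.symm_apply_eq _).2 (hfix p hpA).symm, CharTwo.add_self_eq_zero]) i
  exact (CharTwo.add_eq_zero.1 h0).symm

include hδ in
theorem perm_fix (σ : M24) : δ (toCoOne (permAut σ)) = toCoOne (permAut σ) := by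
  obtain ⟨k, hk⟩ := toCoOne_surjective (δ (toCoOne (permAut σ)))
  set s := (σ : Equiv.Perm GolayPt).symm none with hs
  set A := (({none, s} : Finset GolayPt))ᶜ with hA
  have hmemA : ∀ p, p ∈ A ↔ p ≠ none ∧ (σ : Equiv.Perm GolayPt) p ≠ none := fun p => by
    rw [hA, Finset.mem_compl, Finset.mem_insert, Finset.mem_singleton, hs, Equiv.eq_symm_apply,
      not_or]
  have hAc : Aᶜ.card ≤ 4 := by
    rw [hA, compl_compl]
    exact (Finset.card_insert_le _ _).trans (by simp)
  have hax : ∀ p ∈ A, SameLine (axisVec p) (((permAut σ)⁻¹ * k) • axisVec p) := by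
    intro p hp
    obtain ⟨hp1, hp2⟩ := (hmemA p).1 hp
    obtain ⟨τ, hτ⟩ := exists_axis p
    refine key_line hk hτ (img_axis hδ hp1) ?_
    have h1 := monoAut_axis 0 σ p
    rw [← permAut_eq_monoAut] at h1
    intro h h' hh hh'
    exact h1.symm.trans (img_axis hδ hp2 h h' (h1.trans hh) hh')
  obtain ⟨d, hd⟩ := exists_signs hAc hax
  obtain ⟨p₀, hp₀⟩ := Finset.card_pos.1 (show 0 < A.card by
    have := Finset.card_add_card_compl A
    rw [show Fintype.card GolayPt = 24 by simp [GolayPt]] at this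
    omega)
  have hconst : ∀ p ∉ Aᶜ, (d : GolayPt → ZMod 2) p = (d : GolayPt → ZMod 2) p₀ := by
    intro p hp
    rw [Finset.mem_compl, not_not] at hp
    obtain ⟨T, hsub, hTA, hTc⟩ := Finset.exists_subsuperset_card_eq (s := {p, p₀}) (t := A) (n := 4)
      (Finset.insert_subset hp (Finset.singleton_subset_iff.2 hp₀))
      ((Finset.card_insert_le _ _).trans (by simp)) (by
        have := Finset.card_add_card_compl A
        rw [show Fintype.card GolayPt = 24 by simp [GolayPt]] at this
        omega)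
    obtain ⟨m, hm⟩ := exists_four hTc
    set v := m • axisVec none with hv
    have hfour : FourOn v T := ⟨hTc, fun r hr => by rw [hm, if_pos hr]; rfl,
      fun r hr => by rw [hm, if_neg hr]⟩
    have hnT : (none : GolayPt) ∉ T := fun h => ((hmemA _).1 (hTA h)).1 rfl
    set T' := T.map ((σ : Equiv.Perm GolayPt).toEmbedding) with hT'
    have hfour' : FourOn (permAut σ • v) T' := by
      refine ⟨by rw [hT', Finset.card_map, hTc], fun r hr => ?_, fun r hr => ?_⟩
      · obtain ⟨x, hx, rfl⟩ := Finset.mem_map.1 hr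
        rw [coordVec_permAut]
        show |coordVec v (((σ : Equiv.Perm GolayPt).symm) ((σ : Equiv.Perm GolayPt) x))| = 4
        rw [Equiv.symm_apply_apply, hfour.2.1 x hx]
      · rw [coordVec_permAut]
        exact hfour.2.2 _ fun h => hr (Finset.mem_map.2 ⟨_, h, Equiv.apply_symm_apply _ _⟩)
    have hnT' : (none : GolayPt) ∉ T' := fun h => by
      obtain ⟨x, hx, e⟩ := Finset.mem_map.1 h
      exact ((hmemA _).1 (hTA hx)).2 e
    have h1 := key_line hk (SameLine.refl v) (img_four hδ hfour hnT) (img_four hδ hfour' hnT')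
    rw [hd] at h1
    have hne : ∀ r ∈ T, coordVec v r ≠ 0 := fun r hr => by rw [hm, if_pos hr]; norm_num
    exact signs_const h1 (hne p (hsub (by simp))) (hne p₀ (hsub (by simp)))
  have he : toCoOne ((permAut σ)⁻¹ * k) = 1 := by
    rw [hd, signAut_eq_monoAut, toCoOne_mono_const (code_const_cases (code_const hAc hconst)),
      ← permHom_apply, map_one, map_one]
  rw [map_mul, map_inv, inv_mul_eq_one] at he
  rw [← hk, ← he]

include hδ in
theorem flip_fix {T₀ : Finset GolayPt} {ξ : Co0} (hT₀ : T₀.card = 4) (hnone : (none : GolayPt) ∈ T₀)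
    (hξ : ∀ v : leechLattice, ∀ U ∈ sextetOf T₀, ∀ p ∈ U,
      |coordVec (ξ • v) p| = |coordVec v p - (∑ q ∈ U, coordVec v q) / 2|) :
    δ (toCoOne ξ) = toCoOne ξ := by
  obtain ⟨k, hk⟩ := toCoOne_surjective (δ (toCoOne ξ))
  have hS := sextetOf_mem hT₀
  have hT₀S : T₀ ∈ sextetOf T₀ := Finset.mem_insert_self _ _
  have hnU : ∀ U ∈ sextetOf T₀, U ≠ T₀ → (none : GolayPt) ∉ U := fun U hU hne h =>
    Finset.disjoint_left.1 (sextet_disjoint hS hU hT₀S hne) h hnone
  have hoff : ∀ p ∉ T₀, ∃ U ∈ sextetOf T₀, U ≠ T₀ ∧ p ∈ U := fun p hp => by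
    obtain ⟨U, hU, hpU⟩ := exists_tetrad hS p
    exact ⟨U, hU, fun e => hp (e ▸ hpU), hpU⟩
  have hax : ∀ p ∈ T₀ᶜ, SameLine (axisVec p) ((ξ⁻¹ * k) • axisVec p) := by
    intro p hp
    rw [Finset.mem_compl] at hp
    obtain ⟨U, hU, hne, hpU⟩ := hoff p hp
    obtain ⟨τ, hτ⟩ := exists_axis p
    exact key_line hk hτ (img_axis hδ (fun e => hp (e ▸ hnone)))
      (img_four hδ (flip_axis hT₀ hξ hU hpU) (hnU U hU hne))
  obtain ⟨d, hd⟩ := exists_signs (A := T₀ᶜ) (by rw [compl_compl, hT₀]) hax
  have hpair : ∀ U₁ ∈ sextetOf T₀, ∀ U₂ ∈ sextetOf T₀, U₁ ≠ T₀ → U₂ ≠ T₀ → U₁ ≠ U₂ →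
      ∀ a ∈ U₁, ∀ c ∈ U₂, (d : GolayPt → ZMod 2) a = (d : GolayPt → ZMod 2) c := by
    intro U₁ hU₁ U₂ hU₂ hn1 hn2 h12 a ha c hc
    obtain ⟨b, hb, hba⟩ := Finset.exists_mem_ne (show 1 < U₁.card by rw [hS.2.1 U₁ hU₁]; norm_num) a
    obtain ⟨e, he, hec⟩ := Finset.exists_mem_ne (show 1 < U₂.card by rw [hS.2.1 U₂ hU₂]; norm_num) c
    have hdis := sextet_disjoint hS hU₁ hU₂ h12
    set T := ({a, b} : Finset GolayPt) ∪ {c, e} with hT
    have hs1 : ({a, b} : Finset GolayPt) ⊆ U₁ :=
      Finset.insert_subset ha (Finset.singleton_subset_iff.2 hb)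
    have hs2 : ({c, e} : Finset GolayPt) ⊆ U₂ :=
      Finset.insert_subset hc (Finset.singleton_subset_iff.2 he)
    have hTc : T.card = 4 := by
      rw [hT, Finset.card_union_of_disjoint (hdis.mono hs1 hs2), Finset.card_pair (Ne.symm hba),
        Finset.card_pair (Ne.symm hec)]
    obtain ⟨m, hm⟩ := exists_four hTc
    set v := m • axisVec none with hv
    have hfour : FourOn v T := ⟨hTc, fun r hr => by rw [hm, if_pos hr]; rfl,
      fun r hr => by rw [hm, if_neg hr]⟩
    have hTsub : T ⊆ U₁ ∪ U₂ := Finset.union_subset_union hs1 hs2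
    have hnT : (none : GolayPt) ∉ T := fun h => by
      rcases Finset.mem_union.1 (hTsub h) with x | x
      exacts [hnU U₁ hU₁ hn1 x, hnU U₂ hU₂ hn2 x]
    have hsum : ∀ V ∈ sextetOf T₀, ∑ q ∈ V, coordVec v q = 4 * ((V ∩ T).card : ℤ) := fun V _ => by
      rw [Finset.sum_congr rfl (fun q _ => hm q), ← Finset.sum_filter, Finset.sum_const,
        Finset.filter_mem_eq_inter, nsmul_eq_mul, mul_comm]
    have hinter1 : U₁ ∩ T = {a, b} := by
      ext r
      simp only [hT, Finset.mem_inter, Finset.mem_union]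
      constructor
      · rintro ⟨h1, h2 | h2⟩
        · exact h2
        · exact absurd (hs2 h2) (Finset.disjoint_left.1 hdis h1)
      · exact fun h => ⟨hs1 h, Or.inl h⟩
    have hinter2 : U₂ ∩ T = {c, e} := by
      ext r
      simp only [hT, Finset.mem_inter, Finset.mem_union]
      constructor
      · rintro ⟨h1, h2 | h2⟩
        · exact absurd h1 (Finset.disjoint_left.1 hdis (hs1 h2))
        · exact h2
      · exact fun h => ⟨hs2 h, Or.inr h⟩
    set T' := (U₁ ∪ U₂) \ T with hT'
    have hnT' : (none : GolayPt) ∉ T' := fun h => by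
      rcases Finset.mem_union.1 (Finset.mem_sdiff.1 h).1 with x | x
      exacts [hnU U₁ hU₁ hn1 x, hnU U₂ hU₂ hn2 x]
    have hfour' : FourOn (ξ • v) T' := by
      refine ⟨?_, fun r hr => ?_, fun r hr => ?_⟩
      · rw [hT', Finset.card_sdiff_of_subset hTsub, Finset.card_union_of_disjoint hdis, hS.2.1 U₁ hU₁,
          hS.2.1 U₂ hU₂, hTc]
      · obtain ⟨h1, h2⟩ := Finset.mem_sdiff.1 hr
        rcases Finset.mem_union.1 h1 with x | x
        · rw [hξ v U₁ hU₁ r x, hsum U₁ hU₁, hinter1, Finset.card_pair (Ne.symm hba), hm, if_neg h2]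
          norm_num
        · rw [hξ v U₂ hU₂ r x, hsum U₂ hU₂, hinter2, Finset.card_pair (Ne.symm hec), hm, if_neg h2]
          norm_num
      · obtain ⟨V, hV, hrV⟩ := exists_tetrad hS r
        rw [← abs_eq_zero, hξ v V hV r hrV, hsum V hV]
        by_cases hV1 : V = U₁
        · subst hV1
          have : r ∈ T := by_contra fun h => hr (Finset.mem_sdiff.2 ⟨Finset.mem_union_left _ hrV, h⟩)
          rw [hinter1, Finset.card_pair (Ne.symm hba), hm, if_pos this]
          norm_num
        by_cases hV2 : V = U₂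
        · subst hV2
          have : r ∈ T := by_contra fun h => hr (Finset.mem_sdiff.2 ⟨Finset.mem_union_right _ hrV, h⟩)
          rw [hinter2, Finset.card_pair (Ne.symm hec), hm, if_pos this]
          norm_num
        have hempty : V ∩ T = ∅ := by
          rw [← Finset.disjoint_iff_inter_eq_empty]
          exact ((Finset.disjoint_union_right.2 ⟨sextet_disjoint hS hV hU₁ hV1,
            sextet_disjoint hS hV hU₂ hV2⟩)).mono_right hTsub
        have hrT : r ∉ T := fun h => by
          have : r ∈ V ∩ T := Finset.mem_inter.2 ⟨hrV, h⟩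
          rw [hempty] at this
          simp at this
        rw [hempty, hm, if_neg hrT]
        simp
    have h1 := key_line hk (SameLine.refl v) (img_four hδ hfour hnT) (img_four hδ hfour' hnT')
    rw [hd] at h1
    have hne : ∀ r ∈ T, coordVec v r ≠ 0 := fun r hr => by rw [hm, if_pos hr]; norm_num
    exact signs_const h1 (hne a (by simp [hT])) (hne c (by simp [hT]))
  obtain ⟨p₀, hp₀⟩ := Finset.card_pos.1 (show 0 < T₀ᶜ.card by
    rw [Finset.card_compl, hT₀]; simp [GolayPt])
  rw [Finset.mem_compl] at hp₀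
  obtain ⟨U₀, hU₀, hne₀, hpU₀⟩ := hoff p₀ hp₀
  have hconst : ∀ p ∉ T₀, (d : GolayPt → ZMod 2) p = (d : GolayPt → ZMod 2) p₀ := by
    intro p hp
    obtain ⟨U, hU, hne, hpU⟩ := hoff p hp
    by_cases hUU : U = U₀
    · subst hUU
      obtain ⟨V, hV⟩ := Finset.card_pos.1 (show 0 < (((sextetOf T₀).erase T₀).erase U).card by
        rw [Finset.card_erase_of_mem (Finset.mem_erase.2 ⟨hne, hU⟩), Finset.card_erase_of_mem hT₀S,
          hS.1]
        norm_num)
      simp only [Finset.mem_erase] at hV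
      obtain ⟨x, hx⟩ := Finset.card_pos.1 (show 0 < V.card by rw [hS.2.1 V hV.2.2]; norm_num)
      rw [hpair U hU V hV.2.2 hne hV.2.1 (Ne.symm hV.1) p hpU x hx,
        hpair U hU V hV.2.2 hne hV.2.1 (Ne.symm hV.1) p₀ hpU₀ x hx]
    · exact hpair U hU U₀ hU₀ hne hne₀ hUU p hpU p₀ hpU₀
  have he : toCoOne (ξ⁻¹ * k) = 1 := by
    rw [hd, signAut_eq_monoAut,
      toCoOne_mono_const (code_const_cases (code_const (by rw [hT₀]) hconst)),
      ← permHom_apply, map_one, map_one]
  rw [map_mul, map_inv, inv_mul_eq_one] at he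
  rw [← hk, ← he]

include hδ in
/-- An automorphism fixing the axis group pointwise is trivial. -/
theorem eq_one_of_fix_axisGroup : δ = 1 := by
  have := finite_Co0
  set L : Subgroup Spor.Co1 :=
    MonoidHom.eqLocus (δ : Spor.Co1 →* Spor.Co1) (MonoidHom.id Spor.Co1) with hL
  have hmono : monoGroup ≤ L.comap toCoOne := by
    intro g hg
    obtain ⟨d, σ, rfl⟩ := exists_monomial (mem_stabilizer_crossOf.1 hg)
    refine mul_mem ?_ (perm_fix hδ σ)
    exact hδ _ (by rw [signAut_eq_monoAut]; exact monoAut_mem_lineStab d rfl)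
  obtain ⟨T₀, S, ξ, hT₀, hnone, rfl, hξ⟩ := exists_flip
  have hξL : ξ ∈ L.comap toCoOne := flip_fix hδ hT₀ hnone hξ
  have hnot : ξ ∉ monoGroup := by
    intro h
    obtain ⟨d, σ, rfl⟩ := exists_monomial (mem_stabilizer_crossOf.1 h)
    obtain ⟨-, h4, -⟩ := flip_axis hT₀ hξ (Finset.mem_insert_self _ _) hnone
    have h1 := h4 none hnone
    change |coordVec (monoAut d σ • axisVec none) none| = 4 at h1
    rw [(monoAut_axis d σ none).abs_eq, coordVec_axisVec] at h1
    split_ifs at h1 <;> norm_num at h1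
  have htop : L.comap toCoOne = ⊤ :=
    isCoatom_monoGroup.2 _ (lt_of_le_of_ne hmono fun e => hnot (e ▸ hξL))
  refine MulEquiv.ext fun x => ?_
  obtain ⟨g, rfl⟩ := toCoOne_surjective x
  exact (show toCoOne g ∈ L from Subgroup.mem_comap.1 (htop ▸ Subgroup.mem_top g))

end CfsgLib.Mathieu.CoOneOut
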