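import Cfsg.Prelude.Def_KGroupFacts
import Cfsg.Agent.Lib.Mathieu.CoOneLines

/-!
Every automorphism of the lattice group modulo its centre is inner.
-/

set_option autoImplicit false

namespace CfsgLib.Mathieu.CoOneOut

open MulAction Cfsg CfsgLib.GolayStructure CfsgLib.Leech CfsgLib.Fischer2 CfsgLib.Mathieu.CoThreeOut
open scoped Pointwise Classical

local instance fact_prime_eleven_ca1 : Fact (Nat.Prime 11) := ⟨by norm_num⟩
local instance fact_prime_twentythree_ca1 : Fact (Nat.Prime 23) := ⟨by norm_num⟩

/-- The subgroup of order 23. -/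
noncomputable abbrev shiftImage : Subgroup Spor.Co1 := (Subgroup.zpowers shiftPt).map pointOne

theorem card_shiftImage : Nat.card shiftImage = 23 := by
  rw [Subgroup.card_map_of_injective pointOne_injective, Nat.card_zpowers, orderOf_shiftPt]

theorem normalizer_shiftImage : Subgroup.normalizer (shiftImage : Set Spor.Co1) =
    (Subgroup.normalizer ((Subgroup.zpowers shiftPt : Subgroup pointStab) : Set pointStab)).map
      pointOne := by
  rw [map_normalizer pointOne_injective]
  exact (inf_eq_left.2 norm_shift_le).symm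

theorem card_normalizer_shiftImage :
    Nat.card (Subgroup.normalizer (shiftImage : Set Spor.Co1)) = 253 := by
  rw [normalizer_shiftImage, Subgroup.card_map_of_injective pointOne_injective, card_normalizer_shift]

theorem word_data {g : M24} {q : GolayPt} {O O' : Finset GolayPt} (hO : Orbits g q O O')
    {d : golayCode} (hd : ∀ p, (d : GolayPt → ZMod 2) (g • p) = (d : GolayPt → ZMod 2) p)
    (h1 : (d : GolayPt → ZMod 2) none = 1) (hc : ∀ c, ¬ ∀ p, (d : GolayPt → ZMod 2) p = c) :
    (d : GolayPt → ZMod 2) q = 0 ∧ (support₂ (d : GolayPt → ZMod 2)).card = 12 := by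
  have hcases := hO.facts.1
  obtain ⟨⟨x, hx⟩, ⟨y, hy⟩⟩ :=
    hO.2.2.2.2.2.2 (fun p => (((d : GolayPt → ZMod 2) p).val : ℤ)) (fun p => by rw [hd p])
  have hbit : ∀ t : ZMod 2, (if t ≠ 0 then 1 else 0 : ℤ) = (t.val : ℤ) := fun t => by
    rcases CfsgLib.Leech.zmod2_cases t with rfl | rfl <;> simp [ZMod.val_one]
  have hsum : ((support₂ (d : GolayPt → ZMod 2)).card : ℤ) =
      ((d : GolayPt → ZMod 2) none).val + (((d : GolayPt → ZMod 2) q).val + (11 * x + 11 * y)) := by
    rw [show support₂ (d : GolayPt → ZMod 2) =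
        Finset.univ.filter fun p => (d : GolayPt → ZMod 2) p ≠ 0 by ext p; simp [support₂],
      Finset.natCast_card_filter, Finset.sum_congr rfl fun p _ => hbit _, hO.sum,
      Finset.sum_congr rfl hx, Finset.sum_congr rfl hy, Finset.sum_const, Finset.sum_const,
      hO.2.2.2.2.1, hO.2.2.2.2.2.1]
    simp
  have hrange : ∀ p, ((d : GolayPt → ZMod 2) p).val < 2 := fun p => ZMod.val_lt _
  obtain ⟨-, -, -, ⟨o, ho⟩, ⟨o', ho'⟩⟩ := hO.facts
  have hx2 : 0 ≤ x ∧ x ≤ 1 := by
    have := hrange o
    rw [← hx o ho]; omega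
  have hy2 : 0 ≤ y ∧ y ≤ 1 := by
    have := hrange o'
    rw [← hy o' ho']; omega
  rw [h1, ZMod.val_one] at hsum
  have hw := CfsgLib.Leech.card_mem_weights d.2
  rcases CfsgLib.Leech.zmod2_cases ((d : GolayPt → ZMod 2) q) with hq | hq
  · rw [hq, ZMod.val_zero] at hsum
    exact ⟨hq, by omega⟩
  · exfalso
    rw [hq, ZMod.val_one] at hsum
    have hxy : x = 1 ∧ y = 1 := by omega
    refine hc 1 fun p => ?_
    rcases hcases p with e | e | e | e
    · rw [e, h1]
    · rw [e, hq]
    · have := hx p e
      rcases CfsgLib.Leech.zmod2_cases ((d : GolayPt → ZMod 2) p) with a | a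
      · rw [a, ZMod.val_zero, hxy.1] at this; simp at this
      · exact a
    · have := hy p e
      rcases CfsgLib.Leech.zmod2_cases ((d : GolayPt → ZMod 2) p) with a | a
      · rw [a, ZMod.val_zero, hxy.2] at this; simp at this
      · exact a

/-- A permutation moving the second fixed point moves every invariant line other than the first
axis. -/
theorem moves_line {g : M24} {q : GolayPt} {O O' : Finset GolayPt} (hO : Orbits g q O O')
    {w : leechLattice} (hw : Fixed g w) (h8 : |coordVec w none| ≠ 8) {τ : M24}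
    (hτ : τ • (none : GolayPt) = none) (hq : τ • q ≠ q) : ¬ SameLine w (permAut τ • w) := by
  intro h
  obtain ⟨-, hax, huniq⟩ := hO.shapes w hw
  have hτq : coordVec (permAut τ • w) (τ • q) = coordVec w q := by
    rw [coordVec_permAut]
    exact congrArg _ (Equiv.symm_apply_apply _ _)
  by_cases h0 : coordVec w none = 0
  · have hl := hax h0
    have e1 := h.abs_eq (τ • q)
    rw [hτq, hl.abs_eq q, coordVec_axisVec, if_pos rfl, hl.abs_eq (τ • q), coordVec_axisVec,
      if_neg hq] at e1
    norm_num at e1
  · obtain ⟨-, hu⟩ := huniq h8 h0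
    rcases h with h | h
    · refine hq (hu _ (fun e => ?_) ?_)
      · exact hO.1.symm (MulAction.injective τ (e.trans hτ.symm) |>.symm)
      · rw [← hτq, h]
    · have e1 := congrArg (fun v => coordVec v none) h
      change coordVec (permAut τ • w) none = -coordVec w none at e1
      rw [coordVec_permAut, show (τ : Equiv.Perm GolayPt).symm none = none from
        (Equiv.symm_apply_eq _).2 hτ.symm] at e1
      omega

/-- An automorphism fixing the point stabiliser fixes the axis group. -/
theorem eq_one_of_fix (δ : MulAut Spor.Co1) (hM : ∀ x ∈ pointOne.range, δ x = x)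
    {R : Subgroup pointStab} (hR : Nat.card R = 11) : δ = 1 := by
  have := finite_Co0
  obtain ⟨a, ha, hgen, hao, hpow, hmap, q, O, O', hO, hnorm⟩ := exists_generator hR
  obtain ⟨-, d, heN, henot, hd1, hdc, hcomm, hsplit⟩ := inter_facts hR
  set e := toCoOne (signAut d) with he
  have hfixN : ∀ x ∈ elevenNorm R, δ x ∈ elevenNorm R := by
    intro x hx
    have hfix : (R.map pointOne).map (δ : Spor.Co1 →* Spor.Co1) = R.map pointOne := by
      rw [Subgroup.map_map]
      have hcomp : (δ : Spor.Co1 →* Spor.Co1).comp pointOne = pointOne :=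
        MonoidHom.ext fun y => hM _ ⟨y, rfl⟩
      rw [hcomp]
    exact (show (elevenNorm R).map (δ : Spor.Co1 →* Spor.Co1) = elevenNorm R by
      rw [elevenNorm, map_normalizer_equiv, hfix]).le ⟨x, hx, rfl⟩
  have hdinv : ∀ p, (d : GolayPt → ZMod 2) ((a : M24) • p) = (d : GolayPt → ZMod 2) p := by
    have hc := hcomm a (Subgroup.le_normalizer ha)
    intro p
    rw [Commute, SemiconjBy, he, pointOne_apply, ← map_mul, ← map_mul,
      permAut_mul_signAut] at hc
    rcases toCoOne_eq.1 hc with h | h
    · have h' := congrFun (congrArg Subtype.val (monomial_unique h).1) ((a : M24) • p)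
      rw [show (a : M24) • p = ((a : M24) : Equiv.Perm GolayPt) p from rfl] at h' ⊢
      simp only [Equiv.symm_apply_apply] at h'
      first | exact h' | exact h'.symm
    · exfalso
      rw [← signAut_oneWord, ← mul_assoc, signAut_mul] at h
      have h' := congrFun (congrArg Subtype.val (monomial_unique h).1) none
      change (d : GolayPt → ZMod 2) (((a : M24) : Equiv.Perm GolayPt).symm none) =
        1 + (d : GolayPt → ZMod 2) none at h'
      rw [show ((a : M24) : Equiv.Perm GolayPt).symm none = none from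
        (Equiv.symm_apply_eq _).2 (show ((a : M24) : Equiv.Perm GolayPt) none = none from a.2).symm,
        hd1] at h'
      exact absurd h' (by decide)
  obtain ⟨hdq, hd12⟩ := word_data hO hdinv hd1 hdc
  set D := support₂ (d : GolayPt → ZMod 2) with hD
  have hmemD : ∀ p, p ∈ D ↔ (d : GolayPt → ZMod 2) p = 1 := fun p => by
    rcases CfsgLib.Leech.zmod2_cases ((d : GolayPt → ZMod 2) p) with h | h <;>
      simp [hD, support₂, h]
  have hDd : D ∈ dodecads := ⟨⟨_, d.2, rfl⟩, hd12⟩
  obtain ⟨τ, hτ, hτq⟩ := CoTwoOut.exists_move hDd ((hmemD none).2 hd1)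
    (q := q) (fun h => by rw [(hmemD q).1 h] at hdq; exact one_ne_zero hdq)
  obtain ⟨hτD, hτn⟩ := Subgroup.mem_inf.1 hτ
  have hcommτ : Commute e (pointOne ⟨τ, hτn⟩) := by
    refine (signAut_commute (σ := τ) fun p => ?_).map toCoOne
    have h : τ⁻¹ • p ∈ D ↔ p ∈ D := by
      rw [Finset.inv_smul_mem_iff, mem_stabilizer_iff.1 hτD]
    rw [hmemD, hmemD] at h
    show (d : GolayPt → ZMod 2) (τ⁻¹ • p) = _
    rcases CfsgLib.Leech.zmod2_cases ((d : GolayPt → ZMod 2) p) with hp | hp
    · rcases CfsgLib.Leech.zmod2_cases ((d : GolayPt → ZMod 2) (τ⁻¹ • p)) with h' | h'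
      · rw [hp, h']
      · exact absurd (hp.symm.trans (h.1 h')) zero_ne_one
    · rw [hp, h.2 hp]
  -- the image of the sign change
  obtain ⟨h, hh⟩ := toCoOne_surjective (δ e)
  have hte : δ e ∈ elevenNorm R := hfixN e heN
  have hk' : toCoOne h ∈ Subgroup.normalizer
      (Subgroup.zpowers (toCoOne (permAut (a : M24))) : Set Spor.Co1) := by
    rw [← hmap, hh]; exact hte
  have hw := (image_fixed hpow hk').2
  have hline : h ∈ lineStab := by
    by_cases h8 : |coordVec (h • axisVec none) none| = 8
    · exact (hO.shapes _ hw).1 h8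
    · exfalso
      refine moves_line hO hw h8 hτn hτq ?_
      have hc := hcommτ.map δ
      rw [hM _ ⟨⟨τ, hτn⟩, rfl⟩, ← hh] at hc
      have h1 : toCoOne (h⁻¹ * (permAut τ * h)) ∈ axisGroup := by
        rw [map_mul, map_inv, map_mul toCoOne, ← pointOne_apply ⟨τ, hτn⟩, ← hc.eq,
          inv_mul_cancel_left]
        exact pointOne_mem_axisGroup _
      rw [map_mul, map_inv, same_coset, mul_smul] at h1
      exact h1
  have htE : δ e ∉ elevenSub R := by
    rintro ⟨σ, hσ, hσe⟩
    exact henot ⟨σ, hσ, δ.injective ((hM _ ⟨σ, rfl⟩).trans hσe)⟩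
  have hfixe : δ e = e := by
    rcases hsplit _ (Subgroup.mem_inf.2 ⟨hte, hh ▸ mem_axisGroup.2 hline⟩) with h' | h'
    · exact absurd h' htE
    · obtain ⟨σ, hσ, hσe⟩ := h'
      have hee : e * e = 1 := by rw [he, ← map_mul, signAut_sq, map_one]
      have ht : δ e = e * pointOne σ := by rw [hσe, ← mul_assoc, hee, one_mul]
      have h2 : pointOne σ * pointOne σ = 1 := by
        have := congrArg δ hee
        rw [map_mul, map_one, ht, mul_assoc, ← mul_assoc (pointOne σ), ← (hcomm σ hσ).eq,
          mul_assoc e (pointOne σ), ← mul_assoc, hee, one_mul] at this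
        exact this
      have h3 : pointOne σ = 1 := by
        have h55 : pointOne σ ^ 55 = 1 := by rw [← map_pow, pow_normalizer_eq_one hR hσ, map_one]
        rwa [show 55 = 2 * 27 + 1 from rfl, pow_succ, pow_mul, pow_two, h2, one_pow, one_mul] at h55
      rw [ht, h3, mul_one]
  -- all sign changes are fixed
  set L : Subgroup Spor.Co1 :=
    MonoidHom.eqLocus (δ : Spor.Co1 →* Spor.Co1) (MonoidHom.id Spor.Co1) with hL
  let C : AddSubgroup golayCode :=
    { carrier := {c | toCoOne (signAut c) ∈ L}
      zero_mem' := by show toCoOne (signAut 0) ∈ L; rw [signAut_zero, map_one]; exact one_mem _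
      add_mem' := fun {x y} hx hy => by
        show toCoOne (signAut (x + y)) ∈ L
        rw [← signAut_mul, map_mul]; exact mul_mem hx hy
      neg_mem' := fun {x} hx => by
        show toCoOne (signAut (-x)) ∈ L
        rw [show -x = x from Subtype.ext (funext fun i => CharTwo.neg_eq _)]
        exact hx }
  have hdC : d ∈ C := (show δ e = e from hfixe)
  have honeC : oneWord ∈ C := by
    show toCoOne (signAut oneWord) ∈ L
    rw [signAut_oneWord, toCoOne_negAut]; exact one_mem _
  have hconjC : ∀ s : pointStab, ∃ c ∈ C, ∀ p, (c : GolayPt → ZMod 2) p = if p ∈ s • D then 1 else 0 := by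
    intro s
    refine ⟨⟨fun i => (d : GolayPt → ZMod 2) (((s : M24) : Equiv.Perm GolayPt).symm i),
      comp_mem_golayCode (M24.inv_mem (s : M24).2) d.2⟩, ?_, fun p => ?_⟩
    · show toCoOne (signAut _) ∈ L
      have hs : pointOne s ∈ L := hM _ ⟨s, rfl⟩
      have := mul_mem (mul_mem hs (show toCoOne (signAut d) ∈ L from hdC)) (inv_mem hs)
      rw [pointOne_apply, ← map_mul, permAut_mul_signAut, map_mul, mul_inv_cancel_right] at this
      exact this
    · show (d : GolayPt → ZMod 2) ((s : M24)⁻¹ • p) = _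
      have h : p ∈ s • D ↔ (s : M24)⁻¹ • p ∈ D := by
        rw [show s • D = (s : M24) • D from rfl, ← Finset.inv_smul_mem_iff]
      rw [if_congr (h.trans (hmemD _)) rfl rfl]
      rcases CfsgLib.Leech.zmod2_cases ((d : GolayPt → ZMod 2) ((s : M24)⁻¹ • p)) with x | x <;>
        simp [x]
  have horb : 1288 ≤ (orbit pointStab D).ncard := by
    have hidx := (stabilizer pointStab D).index_mul_card
    rw [index_stabilizer, card_pointStab] at hidx
    have hle : Nat.card (stabilizer pointStab D) ≤ 7920 := by
      rw [← CfsgLib.Golay.card_stabilizer_dodecad_inf_point hDd ((hmemD none).2 hd1),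
        ← Subgroup.card_map_of_injective pointStab.subtype_injective]
      refine Subgroup.card_le_of_le ?_
      rintro _ ⟨s, hs, rfl⟩
      exact Subgroup.mem_inf.2 ⟨hs, s.2⟩
    by_contra hlt
    have : (orbit pointStab D).ncard * Nat.card (stabilizer pointStab D) ≤ 1287 * 7920 :=
      Nat.mul_le_mul (by omega) hle
    omega
  have hC : C = ⊤ := by
    let F : orbit pointStab D × ZMod 2 → C := fun x =>
      ⟨(hconjC x.1.2.choose).choose + (if x.2 = 0 then 0 else oneWord),
        add_mem (hconjC x.1.2.choose).choose_spec.1 (by split_ifs; exacts [zero_mem _, honeC])⟩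
    have hF : ∀ x p, ((F x : golayCode) : GolayPt → ZMod 2) p =
        (if p ∈ (x.1 : Finset GolayPt) then 1 else 0) + x.2 := by
      intro x p
      show ((hconjC x.1.2.choose).choose : GolayPt → ZMod 2) p +
        ((if x.2 = 0 then 0 else oneWord : golayCode) : GolayPt → ZMod 2) p = _
      rw [(hconjC x.1.2.choose).choose_spec.2 p]
      congr 1
      · exact if_congr (by rw [show x.1.2.choose • D = (x.1 : Finset GolayPt) from x.1.2.choose_spec]) rfl rfl
      · rcases CfsgLib.Leech.zmod2_cases x.2 with h | h <;> simp [h, oneWord]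
    have hnone : ∀ x : orbit pointStab D, (none : GolayPt) ∈ (x : Finset GolayPt) := by
      rintro ⟨_, s, rfl⟩
      exact Finset.mem_smul_finset.2 ⟨none, (hmemD none).2 hd1, s.2⟩
    have hinj : Function.Injective F := by
      intro x y hxy
      have h : ∀ p, (if p ∈ (x.1 : Finset GolayPt) then 1 else 0) + x.2 =
          (if p ∈ (y.1 : Finset GolayPt) then (1 : ZMod 2) else 0) + y.2 := fun p => by
        rw [← hF, ← hF, hxy]
      have h2 : x.2 = y.2 := by
        have := h none
        rw [if_pos (hnone _), if_pos (hnone _)] at this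
        exact add_left_cancel this
      refine Prod.ext (Subtype.ext (Finset.ext fun p => ?_)) h2
      have := h p
      rw [h2] at this
      have h3 := add_right_cancel this
      constructor <;> intro hp
      · by_contra hne; rw [if_pos hp, if_neg hne] at h3; exact one_ne_zero h3
      · by_contra hne; rw [if_neg hne, if_pos hp] at h3; exact one_ne_zero h3.symm
    have hle := Nat.card_le_card_of_injective F hinj
    rw [Nat.card_prod, Nat.card_zmod, Nat.card_coe_set_eq] at hle
    have hd := C.card_addSubgroup_dvd_card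
    rw [CfsgLib.Golay.natCard_golayCode] at hd
    refine AddSubgroup.eq_top_of_card_eq _ ?_
    rw [CfsgLib.Golay.natCard_golayCode]
    obtain ⟨j, hj⟩ := hd
    have : j = 1 := by
      rcases Nat.lt_or_ge j 2 with h | h
      · interval_cases j <;> omega
      · nlinarith
    rw [this, mul_one] at hj
    exact hj.symm
  refine eq_one_of_fix_axisGroup fun b hb => ?_
  obtain ⟨c, σ, hσ, rfl⟩ := exists_mono_lineStab hb
  rw [monoAut, map_mul, map_mul, show δ (toCoOne (signAut c)) = toCoOne (signAut c) from
    (show c ∈ C from hC ▸ AddSubgroup.mem_top c),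
    show δ (toCoOne (permAut σ)) = toCoOne (permAut σ) from hM _ ⟨⟨σ, hσ⟩, rfl⟩]

theorem mem_inn_of_fix_two (α : MulAut Spor.Co1)
    (h23 : shiftImage.map (α : Spor.Co1 →* Spor.Co1) = shiftImage)
    {R : Subgroup pointStab} (hR : Nat.card R = 11)
    (h11 : (R.map pointOne).map (α : Spor.Co1 →* Spor.Co1) = R.map pointOne) :
    α ∈ Inn Spor.Co1 := by
  have := finite_Co0
  set N := Subgroup.normalizer ((R.map pointOne : Subgroup Spor.Co1) : Set Spor.Co1) with hN
  set E := elevenSub R with hE
  have hNfix : N.map (α : Spor.Co1 →* Spor.Co1) = N := by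
    rw [hN, map_normalizer_equiv, h11]
  have hEfix : E.map (α : Spor.Co1 →* Spor.Co1) = E := by
    refine Subgroup.eq_of_le_of_card_ge ?_
      (le_of_eq (Subgroup.card_map_of_injective (f := (α : Spor.Co1 →* Spor.Co1)) α.injective).symm)
    rintro _ ⟨e, he, rfl⟩
    obtain ⟨heN, he55⟩ := (mem_elevenSub hR).1 he
    refine (mem_elevenSub hR).2 ⟨hNfix.le ⟨e, heN, rfl⟩, ?_⟩
    show (α e) ^ 55 = 1
    rw [← map_pow, he55, map_one]
  have hcomap : (pointOne.range.map (α : Spor.Co1 →* Spor.Co1)).comap pointOne = ⊤ := by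
    refine eq_top_of_normalizers hR ?_ ?_
    · rw [← Subgroup.map_le_iff_le_comap, ← normalizer_shiftImage,
        show Subgroup.normalizer (shiftImage : Set Spor.Co1) =
          (Subgroup.normalizer (shiftImage : Set Spor.Co1)).map
            (α : Spor.Co1 →* Spor.Co1) by rw [map_normalizer_equiv, h23]]
      exact Subgroup.map_mono norm_shift_le
    · rw [← Subgroup.map_le_iff_le_comap, map_normalizer pointOne_injective, ← hN]
      rw [show N ⊓ pointOne.range = E by
        rw [hE, elevenSub, map_normalizer pointOne_injective, hN], ← hEfix]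
      refine Subgroup.map_mono ?_
      rintro _ ⟨σ, -, rfl⟩
      exact ⟨σ, rfl⟩
  have hMfix : pointOne.range.map (α : Spor.Co1 →* Spor.Co1) = pointOne.range := by
    refine (Subgroup.eq_of_le_of_card_ge ?_
      (by rw [Subgroup.card_map_of_injective α.injective])).symm
    rintro _ ⟨τ, rfl⟩
    exact (hcomap.symm ▸ Subgroup.mem_top τ :
      τ ∈ (pointOne.range.map (α : Spor.Co1 →* Spor.Co1)).comap pointOne)
  let β : MulAut pointOne.range := (α.subgroupMap pointOne.range).trans (MulEquiv.subgroupCongr hMfix)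
  have hβ : ∀ x : pointOne.range, (β x : Spor.Co1) = α x := fun x => rfl
  obtain ⟨s, hs⟩ : (MonoidHom.ofInjective pointOne_injective).trans (β.trans (MonoidHom.ofInjective pointOne_injective).symm) ∈ Inn pointStab :=
    inn_pointStab.symm ▸ Subgroup.mem_top _
  have hα : ∀ x ∈ pointOne.range, α x = MulAut.conj (pointOne s) x := by
    rintro _ ⟨τ, rfl⟩
    have h : MulAut.conj s τ = (MonoidHom.ofInjective pointOne_injective).symm (β ((MonoidHom.ofInjective pointOne_injective) τ)) := DFunLike.congr_fun hs τ
    rw [MulEquiv.eq_symm_apply] at h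
    have h' := congrArg Subtype.val h
    rw [hβ] at h'
    change pointOne (s * τ * s⁻¹) = α (pointOne τ) at h'
    rw [← h', map_mul, map_mul, map_inv, MulAut.conj_apply]
  have hone : (MulAut.conj (pointOne s))⁻¹ * α = 1 := by
    refine eq_one_of_fix _ (fun x hx => ?_) hR
    rw [MulAut.mul_apply, hα x hx, ← MulAut.mul_apply, inv_mul_cancel, MulAut.one_apply]
  exact ⟨pointOne s, (inv_mul_eq_one.1 hone :)⟩

theorem inn_coOne : Inn Spor.Co1 = ⊤ := by
  have := finite_Co0
  rw [eq_top_iff]
  rintro α -
  obtain ⟨g, hg⟩ := exists_conj_eq (R := shiftImage.map (α : Spor.Co1 →* Spor.Co1))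
    (R' := shiftImage) (by rw [Subgroup.card_map_of_injective α.injective, card_shiftImage])
    (card_shiftImage) (by rw [natCard_coOne]; norm_num)
  suffices h : ∀ β : MulAut Spor.Co1,
      shiftImage.map (β : Spor.Co1 →* Spor.Co1) = shiftImage → β ∈ Inn Spor.Co1 by
    refine (Subgroup.mul_mem_cancel_left _
      (MonoidHom.mem_range.2 ⟨g, rfl⟩ : MulAut.conj g ∈ Inn Spor.Co1)).1
      (h (MulAut.conj g * α) ?_)
    show shiftImage.map ((MulAut.conj g : Spor.Co1 →* Spor.Co1).comp
      (α : Spor.Co1 →* Spor.Co1)) = _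
    rw [← Subgroup.map_map]
    exact hg
  intro β hβ
  obtain ⟨⟨r, hr⟩, hr11⟩ := exists_prime_orderOf_dvd_card'
    (G := Subgroup.normalizer ((Subgroup.zpowers shiftPt : Subgroup pointStab) : Set pointStab)) 11
    (by rw [card_normalizer_shift]; norm_num)
  have hR : Nat.card (Subgroup.zpowers r) = 11 := by
    rw [Nat.card_zpowers]; exact (Subgroup.orderOf_coe ⟨r, hr⟩).trans hr11
  set NP := Subgroup.normalizer (shiftImage : Set Spor.Co1) with hNP
  have hRN : (Subgroup.zpowers r).map pointOne ≤ NP := by
    rw [hNP, normalizer_shiftImage]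
    exact Subgroup.map_mono (Subgroup.zpowers_le.2 hr)
  have hβN : NP.map (β : Spor.Co1 →* Spor.Co1) = NP := by
    rw [hNP, map_normalizer_equiv, hβ]
  have hβR : ((Subgroup.zpowers r).map pointOne).map (β : Spor.Co1 →* Spor.Co1) ≤ NP :=
    hβN ▸ Subgroup.map_mono hRN
  obtain ⟨y, hy⟩ := exists_conj_eq (p := 11)
    (R := (((Subgroup.zpowers r).map pointOne).map
      (β : Spor.Co1 →* Spor.Co1)).subgroupOf NP)
    (R' := ((Subgroup.zpowers r).map pointOne).subgroupOf NP)
    (by rw [Nat.card_congr (Subgroup.subgroupOfEquivOfLe hβR).toEquiv,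
      Subgroup.card_map_of_injective β.injective,
      Subgroup.card_map_of_injective pointOne_injective, hR])
    (by rw [Nat.card_congr (Subgroup.subgroupOfEquivOfLe hRN).toEquiv,
      Subgroup.card_map_of_injective pointOne_injective, hR])
    (by rw [card_normalizer_shiftImage]; norm_num)
  refine (Subgroup.mul_mem_cancel_left _
    (MonoidHom.mem_range.2 ⟨(y : Spor.Co1), rfl⟩ :
      MulAut.conj (y : Spor.Co1) ∈ Inn Spor.Co1)).1
    (mem_inn_of_fix_two (MulAut.conj (y : Spor.Co1) * β) ?_ hR ?_)
  · show shiftImage.map ((MulAut.conj (y : Spor.Co1) : Spor.Co1 →* Spor.Co1).comp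
      (β : Spor.Co1 →* Spor.Co1)) = _
    rw [← Subgroup.map_map, hβ]
    exact map_conj_of_mem_normalizer y.2
  · show ((Subgroup.zpowers r).map pointOne).map
      ((MulAut.conj (y : Spor.Co1) : Spor.Co1 →* Spor.Co1).comp
        (β : Spor.Co1 →* Spor.Co1)) = _
    rw [← Subgroup.map_map]
    exact map_subtype_conj hβR hRN hy

theorem card_out_Co1 : Nat.card (Cfsg.Out Spor.Co1) = 1 := Subgroup.index_eq_one.2 inn_coOne

end CfsgLib.Mathieu.CoOneOut
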