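import Cfsg.Agent.Lib.Mathieu.CoThreeAut

/-!
A finite group containing the stabiliser of a point of the code group, with the same normaliser of
the subgroup of order 23 and with normalisers of order 110 of the subgroups of order 11, has no
outer automorphism as soon as these normalisers generate it.
-/

set_option autoImplicit false

namespace CfsgLib.Mathieu.PointExtension

open MulAction Cfsg CfsgLib.GolayStructure CfsgLib.Leech CfsgLib.Fischer2 CfsgLib.Mathieu.CoThreeOut
open scoped Pointwise Classical

universe u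

local instance fact_prime_eleven_pe : Fact (Nat.Prime 11) := ⟨by norm_num⟩
local instance fact_prime_twentythree_pe : Fact (Nat.Prime 23) := ⟨by norm_num⟩

/-- The hypotheses on an extension of the point stabiliser. -/
structure IsExt {K : Type u} [Group K] (f : pointStab →* K) : Prop where
  inj : Function.Injective f
  norm23 : Subgroup.normalizer (((Subgroup.zpowers shiftPt).map f : Subgroup K) : Set K) ≤ f.range
  not_sq23 : ¬ 23 * 23 ∣ Nat.card K
  norm11 : ∀ R : Subgroup pointStab, Nat.card R = 11 →
    Nat.card (Subgroup.normalizer ((R.map f : Subgroup K) : Set K)) = 110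
  gen : ∀ (R : Subgroup pointStab), Nat.card R = 11 → ∀ L : Subgroup K, f.range ≤ L →
    Subgroup.normalizer ((R.map f : Subgroup K) : Set K) ≤ L → L = ⊤

variable {K : Type u} [Group K] {f : pointStab →* K}

/-- The subgroup of order 23. -/
noncomputable abbrev shiftImage (f : pointStab →* K) : Subgroup K :=
  (Subgroup.zpowers shiftPt).map f

theorem card_shiftImage (hf : IsExt f) : Nat.card (shiftImage f) = 23 := by
  rw [Subgroup.card_map_of_injective hf.inj, Nat.card_zpowers, orderOf_shiftPt]

theorem normalizer_shiftImage (hf : IsExt f) :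
    Subgroup.normalizer (shiftImage f : Set K) =
      (Subgroup.normalizer ((Subgroup.zpowers shiftPt : Subgroup pointStab) : Set pointStab)).map f := by
  rw [map_normalizer hf.inj]
  exact (inf_eq_left.2 hf.norm23).symm

theorem card_normalizer_shiftImage (hf : IsExt f) :
    Nat.card (Subgroup.normalizer (shiftImage f : Set K)) = 253 := by
  rw [normalizer_shiftImage hf, Subgroup.card_map_of_injective hf.inj, card_normalizer_shift]

theorem card_inter (hf : Function.Injective f) {R : Subgroup pointStab} (hR : Nat.card R = 11) :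
    Nat.card (Subgroup.normalizer ((R.map f : Subgroup K) : Set K) ⊓ f.range : Subgroup K) = 55 := by
  rw [← map_normalizer hf, Subgroup.card_map_of_injective hf, card_normalizer_eleven R hR]

set_option maxHeartbeats 1600000 in
/-- An automorphism fixing the point stabiliser pointwise is trivial. -/
theorem eq_one_of_fix (hf : IsExt f) (δ : MulAut K) (hM : ∀ x ∈ f.range, δ x = x)
    {R : Subgroup pointStab} (hR : Nat.card R = 11) : δ = 1 := by
  set R' : Subgroup K := R.map f with hR'
  set N := Subgroup.normalizer (R' : Set K) with hN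
  have hN110 := hf.norm11 R hR
  have hE55 := card_inter hf.inj hR
  rw [← hR', ← hN] at hN110 hE55
  set E := N ⊓ f.range with hE
  have hR'M : R' ≤ f.range := by rintro _ ⟨r, -, rfl⟩; exact ⟨r, rfl⟩
  have hR'c : Nat.card R' = 11 := by rw [hR', Subgroup.card_map_of_injective hf.inj, hR]
  have hfixR : R'.map (δ : K →* K) = R' := by
    ext x
    constructor
    · rintro ⟨r, hr, rfl⟩
      show δ r ∈ R'
      rwa [hM r (hR'M hr)]
    · intro hx
      exact ⟨x, hx, hM x (hR'M hx)⟩
  have hfixN : ∀ x ∈ N, δ x ∈ N := fun x hx =>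
    (show N.map (δ : K →* K) = N by
      rw [hN, map_normalizer_equiv, hfixR]).le ⟨x, hx, rfl⟩
  have hidx : (E.subgroupOf N).index = 2 := by
    have h := (E.subgroupOf N).index_mul_card
    rw [Nat.card_congr (Subgroup.subgroupOfEquivOfLe (inf_le_left : E ≤ N)).toEquiv, hE55, hN110]
      at h
    omega
  have hiff : ∀ x ∈ N, ∀ y ∈ N, (x * y ∈ f.range ↔ (x ∈ f.range ↔ y ∈ f.range)) := by
    intro x hx y hy
    have h := Subgroup.mul_mem_iff_of_index_two hidx (a := (⟨x, hx⟩ : N)) (b := ⟨y, hy⟩)
    simpa only [Subgroup.mem_subgroupOf, Subgroup.coe_mul, hE, Subgroup.mem_inf, hx, hy,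
      mul_mem hx hy, true_and] using h
  obtain ⟨u, huN, huM⟩ : ∃ u ∈ N, u ∉ f.range := by
    by_contra hne
    push Not at hne
    rw [hE, inf_eq_left.2 hne] at hE55
    omega
  have hδu : δ u ∈ N := hfixN u huN
  have hδuM : δ u ∉ f.range := fun h => huM (δ.injective (hM _ h) ▸ h)
  have hrM : u⁻¹ * δ u ∈ f.range := (hiff _ (inv_mem huN) _ hδu).2
    (iff_of_false (fun h => huM (inv_inv u ▸ inv_mem h)) hδuM)
  obtain ⟨t, ht⟩ := hrM
  have htN : t ∈ Subgroup.normalizer (R : Set pointStab) := by
    have h1 : f t ∈ (Subgroup.normalizer (R : Set pointStab)).map f := by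
      rw [map_normalizer hf.inj]
      exact Subgroup.mem_inf.2 ⟨ht ▸ mul_mem (inv_mem huN) hδu, t, rfl⟩
    exact (Subgroup.mem_map_iff_mem hf.inj).1 h1
  have ht1 : t = 1 := by
    refine eq_one_of_commute hR htN fun x hx => hf.inj ?_
    have hxN : f x ∈ N ⊓ f.range := by
      rw [hN, hR', ← map_normalizer hf.inj]
      exact Subgroup.mem_map_of_mem _ hx
    obtain ⟨hxN, hxM⟩ := Subgroup.mem_inf.1 hxN
    have hux : u * f x * u⁻¹ ∈ f.range := by
      rw [hiff _ (mul_mem huN hxN) _ (inv_mem huN), hiff _ huN _ hxN]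
      exact iff_of_false (fun h => huM (h.2 hxM)) (fun h => huM (inv_inv u ▸ inv_mem h))
    have h1 := hM _ hux
    rw [map_mul, map_mul, map_inv, hM _ hxM] at h1
    rw [map_mul, map_mul, ht]
    calc u⁻¹ * δ u * f x
        = u⁻¹ * (δ u * f x * (δ u)⁻¹) * δ u := by group
      _ = u⁻¹ * (u * f x * u⁻¹) * δ u := by rw [h1]
      _ = f x * (u⁻¹ * δ u) := by group
  have hu : δ u = u := by
    rw [ht1, map_one] at ht
    exact (inv_mul_eq_one.1 ht.symm).symm
  set L := MonoidHom.eqLocus (δ : K →* K) (MonoidHom.id K) with hL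
  have hML : f.range ≤ L := fun x hx => hM x hx
  have hNL : N ≤ L := by
    intro x hx
    by_cases hxM : x ∈ f.range
    · exact hM x hxM
    · have h1 : u⁻¹ * x ∈ f.range := (hiff _ (inv_mem huN) _ hx).2
        (iff_of_false (fun h => huM (inv_inv u ▸ inv_mem h)) hxM)
      show δ x = x
      calc δ x = δ u * δ (u⁻¹ * x) := by rw [← map_mul, mul_inv_cancel_left]
        _ = x := by rw [hu, hM _ h1, mul_inv_cancel_left]
  have htop : L = ⊤ := hf.gen R hR L hML hNL
  refine MulEquiv.ext fun x => ?_
  exact (htop.symm ▸ Subgroup.mem_top x : x ∈ L)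

theorem mem_inn_of_fix_two [Finite K] (hf : IsExt f) (α : MulAut K)
    (h23 : (shiftImage f).map (α : K →* K) = (shiftImage f))
    {R : Subgroup pointStab} (hR : Nat.card R = 11)
    (h11 : (R.map f).map (α : K →* K) = R.map f) :
    α ∈ Inn K := by
  set N := Subgroup.normalizer ((R.map f : Subgroup K) : Set K) with hN
  have hN110 := hf.norm11 R hR
  have hE55 := card_inter hf.inj hR
  rw [← hN] at hN110 hE55
  set E := N ⊓ f.range with hE
  have hNfix : N.map (α : K →* K) = N := by
    rw [hN, map_normalizer_equiv, h11]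
  have hidx : (E.subgroupOf N).index = 2 := by
    have h := (E.subgroupOf N).index_mul_card
    rw [Nat.card_congr (Subgroup.subgroupOfEquivOfLe (inf_le_left : E ≤ N)).toEquiv, hE55, hN110]
      at h
    omega
  have hEfix : E.map (α : K →* K) = E := by
    refine Subgroup.eq_of_le_of_card_ge ?_ (by rw [Subgroup.card_map_of_injective α.injective])
    rintro _ ⟨e, he, rfl⟩
    have hxN : α e ∈ N := hNfix.le ⟨e, (Subgroup.mem_inf.1 he).1, rfl⟩
    have h55 : (α e) ^ 55 = 1 := by
      have h : (⟨e, he⟩ : E) ^ 55 = 1 := hE55 ▸ pow_card_eq_one'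
      rw [← map_pow, show e ^ 55 = 1 from congrArg Subtype.val h, map_one]
    have h2 := Subgroup.pow_mem _
      (Subgroup.sq_mem_of_index_two hidx (⟨α e, hxN⟩ : N)) 28
    rw [Subgroup.mem_subgroupOf] at h2
    have h56 : ((α e) ^ 2) ^ 28 = α e := by
      rw [← pow_mul, show 2 * 28 = 55 + 1 from rfl, pow_add, h55, one_mul, pow_one]
    simp only [SubgroupClass.coe_pow] at h2
    rw [h56] at h2
    exact h2
  have hcomap : (f.range.map (α : K →* K)).comap f = ⊤ := by
    refine eq_top_of_normalizers hR ?_ ?_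
    · rw [← Subgroup.map_le_iff_le_comap, ← normalizer_shiftImage hf,
        show Subgroup.normalizer ((shiftImage f) : Set K) =
          (Subgroup.normalizer ((shiftImage f) : Set K)).map
            (α : K →* K) by rw [map_normalizer_equiv, h23]]
      exact Subgroup.map_mono hf.norm23
    · rw [← Subgroup.map_le_iff_le_comap, map_normalizer hf.inj, ← hN]
      show E ≤ _
      rw [← hEfix]
      exact Subgroup.map_mono inf_le_right
  have hMfix : f.range.map (α : K →* K) = f.range := by
    refine (Subgroup.eq_of_le_of_card_ge ?_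
      (by rw [Subgroup.card_map_of_injective α.injective])).symm
    rintro _ ⟨τ, rfl⟩
    exact (hcomap.symm ▸ Subgroup.mem_top τ :
      τ ∈ (f.range.map (α : K →* K)).comap f)
  let β : MulAut f.range := (α.subgroupMap f.range).trans (MulEquiv.subgroupCongr hMfix)
  have hβ : ∀ x : f.range, (β x : K) = α x := fun x => rfl
  obtain ⟨s, hs⟩ : (MonoidHom.ofInjective hf.inj).trans (β.trans (MonoidHom.ofInjective hf.inj).symm) ∈ Inn pointStab :=
    inn_pointStab.symm ▸ Subgroup.mem_top _
  have hα : ∀ x ∈ f.range, α x = MulAut.conj (f s) x := by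
    rintro _ ⟨τ, rfl⟩
    have h : MulAut.conj s τ = (MonoidHom.ofInjective hf.inj).symm (β ((MonoidHom.ofInjective hf.inj) τ)) := DFunLike.congr_fun hs τ
    rw [MulEquiv.eq_symm_apply] at h
    have h' := congrArg Subtype.val h
    rw [hβ] at h'
    change f (s * τ * s⁻¹) = α (f τ) at h'
    rw [← h', map_mul, map_mul, map_inv, MulAut.conj_apply]
  have hone : (MulAut.conj (f s))⁻¹ * α = 1 := by
    refine eq_one_of_fix hf _ (fun x hx => ?_) hR
    rw [MulAut.mul_apply, hα x hx, ← MulAut.mul_apply, inv_mul_cancel, MulAut.one_apply]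
  exact ⟨f s, (inv_mul_eq_one.1 hone :)⟩

theorem inn_eq_top [Finite K] (hf : IsExt f) : Inn K = ⊤ := by
  rw [eq_top_iff]
  rintro α -
  obtain ⟨g, hg⟩ := exists_conj_eq (R := (shiftImage f).map (α : K →* K))
    (R' := (shiftImage f)) (by rw [Subgroup.card_map_of_injective α.injective, card_shiftImage hf])
    (card_shiftImage hf) hf.not_sq23
  suffices h : ∀ β : MulAut K,
      (shiftImage f).map (β : K →* K) = (shiftImage f) → β ∈ Inn K by
    refine (Subgroup.mul_mem_cancel_left _
      (MonoidHom.mem_range.2 ⟨g, rfl⟩ : MulAut.conj g ∈ Inn K)).1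
      (h (MulAut.conj g * α) ?_)
    show (shiftImage f).map ((MulAut.conj g : K →* K).comp
      (α : K →* K)) = _
    rw [← Subgroup.map_map]
    exact hg
  intro β hβ
  obtain ⟨⟨r, hr⟩, hr11⟩ := exists_prime_orderOf_dvd_card'
    (G := Subgroup.normalizer ((Subgroup.zpowers shiftPt : Subgroup pointStab) : Set pointStab)) 11
    (by rw [card_normalizer_shift]; norm_num)
  have hR : Nat.card (Subgroup.zpowers r) = 11 := by
    rw [Nat.card_zpowers]; exact (Subgroup.orderOf_coe ⟨r, hr⟩).trans hr11
  set NP := Subgroup.normalizer ((shiftImage f) : Set K) with hNP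
  have hRN : (Subgroup.zpowers r).map f ≤ NP := by
    rw [hNP, normalizer_shiftImage hf]
    exact Subgroup.map_mono (Subgroup.zpowers_le.2 hr)
  have hβN : NP.map (β : K →* K) = NP := by
    rw [hNP, map_normalizer_equiv, hβ]
  have hβR : ((Subgroup.zpowers r).map f).map (β : K →* K) ≤ NP :=
    hβN ▸ Subgroup.map_mono hRN
  obtain ⟨y, hy⟩ := exists_conj_eq (p := 11)
    (R := (((Subgroup.zpowers r).map f).map
      (β : K →* K)).subgroupOf NP)
    (R' := ((Subgroup.zpowers r).map f).subgroupOf NP)
    (by rw [Nat.card_congr (Subgroup.subgroupOfEquivOfLe hβR).toEquiv,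
      Subgroup.card_map_of_injective β.injective,
      Subgroup.card_map_of_injective hf.inj, hR])
    (by rw [Nat.card_congr (Subgroup.subgroupOfEquivOfLe hRN).toEquiv,
      Subgroup.card_map_of_injective hf.inj, hR])
    (by rw [card_normalizer_shiftImage hf]; norm_num)
  refine (Subgroup.mul_mem_cancel_left _
    (MonoidHom.mem_range.2 ⟨(y : K), rfl⟩ :
      MulAut.conj (y : K) ∈ Inn K)).1
    (mem_inn_of_fix_two hf (MulAut.conj (y : K) * β) ?_ hR ?_)
  · show (shiftImage f).map ((MulAut.conj (y : K) : K →* K).comp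
      (β : K →* K)) = _
    rw [← Subgroup.map_map, hβ]
    exact map_conj_of_mem_normalizer y.2
  · show ((Subgroup.zpowers r).map f).map
      ((MulAut.conj (y : K) : K →* K).comp
        (β : K →* K)) = _
    rw [← Subgroup.map_map]
    exact map_subtype_conj hβR hRN hy

end CfsgLib.Mathieu.PointExtension
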