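import Cfsg.Prelude.Def_Spor_Conway
import Cfsg.Agent.Lib.Mathieu.PointExtension
import Cfsg.Agent.Lib.GolayStructure.CoOneSimple

/-!
Lines of squared length 64 in the automorphism group of the lattice modulo its centre: the
stabiliser of the exceptional axis and the embedded point stabiliser.
-/

set_option autoImplicit false

namespace CfsgLib.Mathieu.CoOneOut

open MulAction Cfsg CfsgLib.GolayStructure CfsgLib.Leech CfsgLib.Fischer2 CfsgLib.Mathieu.CoThreeOut
open scoped Pointwise Classical

/-- The central quotient map. -/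
noncomputable abbrev toCoOne : Co0 →* Spor.Co1 := QuotientGroup.mk' (Subgroup.center Co0)

theorem toCoOne_surjective : Function.Surjective toCoOne := QuotientGroup.mk'_surjective _

theorem toCoOne_negAut : toCoOne negAut = 1 :=
  (QuotientGroup.eq_one_iff _).2 negAut_mem_center

theorem toCoOne_eq {g h : Co0} : toCoOne g = toCoOne h ↔ h = g ∨ h = negAut * g := by
  constructor
  · intro e
    obtain ⟨z, hz, rfl⟩ := (QuotientGroup.mk'_eq_mk' (Subgroup.center Co0)).1 e
    rcases center_co0 hz with rfl | rfl
    · exact Or.inl (mul_one g)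
    · exact Or.inr (Subgroup.mem_center_iff.1 hz g)
  · rintro (rfl | rfl)
    · rfl
    · rw [map_mul, toCoOne_negAut, one_mul]

theorem negAut_pow_odd {n : ℕ} (hn : n % 2 = 1) : (negAut : Co0) ^ n = negAut := by
  obtain ⟨k, rfl⟩ : ∃ k, n = 2 * k + 1 := ⟨n / 2, by omega⟩
  have h : (negAut : Co0) ^ 2 = 1 := co0_ext fun v p => by
    rw [pow_two, mul_smul, one_smul, coordVec_negAut, coordVec_negAut, neg_neg]
  rw [pow_add, pow_mul, h, one_pow, one_mul, pow_one]

/-- Lifts of odd order are unique. -/
theorem eq_of_odd {g h : Co0} {n : ℕ} (hn : n % 2 = 1) (hg : g ^ n = 1) (hh : h ^ n = 1)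
    (e : toCoOne g = toCoOne h) : g = h := by
  rcases toCoOne_eq.1 e with e' | e'
  · exact e'.symm
  · exfalso
    subst e'
    have hc : Commute negAut g := (Subgroup.mem_center_iff.1 negAut_mem_center g).symm
    rw [hc.mul_pow, hg, mul_one, negAut_pow_odd hn] at hh
    exact negAut_ne_one hh

/-- Lifts of elements normalising a cyclic group of odd order normalise its lift. -/
theorem lift_normalizes {g h : Co0} {n : ℕ} (hn : n % 2 = 1) (hg : g ^ n = 1)
    (hh : toCoOne h ∈ Subgroup.normalizer (Subgroup.zpowers (toCoOne g) : Set Spor.Co1)) :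
    h⁻¹ * g * h ∈ Subgroup.zpowers g := by
  have h1 := (Subgroup.mem_normalizer_iff.1 (inv_mem hh) (toCoOne g)).1 (Subgroup.mem_zpowers _)
  rw [inv_inv, ← map_inv, ← map_mul, ← map_mul, ← MonoidHom.map_zpowers] at h1
  obtain ⟨x, hx, e⟩ := h1
  refine (eq_of_odd hn ?_ ?_ e) ▸ hx
  · obtain ⟨i, rfl⟩ := Subgroup.mem_zpowers_iff.1 hx
    rw [← zpow_natCast, ← zpow_mul, mul_comm, zpow_mul, zpow_natCast, hg, one_zpow]
  · rw [show h⁻¹ * g * h = h⁻¹ * g * h⁻¹⁻¹ by rw [inv_inv], conj_pow, hg]
    group

/-- Two vectors spanning the same line. -/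
def SameLine (v w : leechLattice) : Prop := w = v ∨ w = -v

theorem SameLine.refl (v : leechLattice) : SameLine v v := Or.inl rfl

theorem SameLine.neg (v : leechLattice) : SameLine v (-v) := Or.inr rfl

theorem SameLine.symm {v w : leechLattice} (h : SameLine v w) : SameLine w v := by
  rcases h with rfl | rfl
  · exact Or.inl rfl
  · exact Or.inr (neg_neg v).symm

theorem SameLine.trans {u v w : leechLattice} (h : SameLine u v) (h' : SameLine v w) :
    SameLine u w := by
  rcases h with rfl | rfl <;> rcases h' with rfl | rfl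
  exacts [Or.inl rfl, Or.inr rfl, Or.inr rfl, Or.inl (neg_neg u)]

theorem SameLine.smul {v w : leechLattice} (g : Co0) (h : SameLine v w) :
    SameLine (g • v) (g • w) := by
  rcases h with rfl | rfl
  · exact Or.inl rfl
  · exact Or.inr (smul_neg_co0 g v)

theorem SameLine.abs_eq {v w : leechLattice} (h : SameLine v w) (p : GolayPt) :
    |coordVec w p| = |coordVec v p| := by
  rcases h with rfl | rfl
  · rfl
  · show |-coordVec v p| = _
    rw [abs_neg]

/-- The stabiliser of the exceptional axis up to sign. -/
noncomputable def lineStab : Subgroup Co0 where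
  carrier := {h | SameLine (axisVec none) (h • axisVec none)}
  one_mem' := Or.inl (one_smul _ _)
  mul_mem' {a b} ha hb := by
    show SameLine _ _
    rw [mul_smul]
    exact ha.trans (hb.smul a)
  inv_mem' {a} ha := by
    have h := SameLine.smul a⁻¹ ha
    rw [inv_smul_smul] at h
    exact h.symm

theorem mem_lineStab {h : Co0} : h ∈ lineStab ↔ SameLine (axisVec none) (h • axisVec none) :=
  Iff.rfl

theorem negAut_mem_lineStab : negAut ∈ lineStab := Or.inr (negAut_apply _)

/-- The image of the axis stabiliser. -/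
noncomputable abbrev axisGroup : Subgroup Spor.Co1 := lineStab.map toCoOne

theorem mem_axisGroup {h : Co0} : toCoOne h ∈ axisGroup ↔ h ∈ lineStab := by
  refine ⟨?_, Subgroup.mem_map_of_mem _⟩
  rintro ⟨x, hx, e⟩
  rcases toCoOne_eq.1 e with rfl | rfl
  · exact hx
  · exact mul_mem negAut_mem_lineStab hx

theorem same_coset {h h' : Co0} :
    (toCoOne h)⁻¹ * toCoOne h' ∈ axisGroup ↔ SameLine (h • axisVec none) (h' • axisVec none) := by
  rw [← map_inv, ← map_mul, mem_axisGroup, mem_lineStab, mul_smul]
  constructor
  · intro e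
    have := e.smul h
    rwa [smul_inv_smul] at this
  · intro e
    have := e.smul h⁻¹
    rwa [inv_smul_smul] at this

/-- An element sending an axis to an axis is monomial. -/
theorem mono_of_axis {h : Co0} {p q : GolayPt} (e : SameLine (axisVec q) (h • axisVec p)) :
    h ∈ monoGroup := by
  rw [mem_stabilizer_crossOf]
  have h1 : CongTwo (h • axisVec p) vecA := by
    refine congTwo_vecA_of_four_mul _ q ?_ fun r hr => ?_
    · rw [e.abs_eq, coordVec_axisVec, if_pos rfl]; norm_num
    · have := e.abs_eq r
      rw [coordVec_axisVec, if_neg hr, abs_zero] at this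
      exact abs_eq_zero.1 this
  exact ((congTwo_axisVec p).symm.smul h).trans h1

theorem monoAut_axis (d : golayCode) (σ : M24) (p : GolayPt) :
    SameLine (axisVec ((σ : Equiv.Perm GolayPt) p)) (monoAut d σ • axisVec p) := by
  have hiff : ∀ r, (σ : Equiv.Perm GolayPt).symm r = p ↔ r = (σ : Equiv.Perm GolayPt) p := fun r =>
    Equiv.symm_apply_eq _
  by_cases hd : (d : GolayPt → ZMod 2) ((σ : Equiv.Perm GolayPt) p) = 0
  · left
    refine leech_ext fun r => ?_
    rw [coordVec_monoAut, coordVec_axisVec, coordVec_axisVec]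
    simp only [hiff]
    by_cases hr : r = (σ : Equiv.Perm GolayPt) p
    · rw [hr, if_pos hd]
    · simp [hr]
  · right
    refine leech_ext fun r => ?_
    show _ = -coordVec (axisVec ((σ : Equiv.Perm GolayPt) p)) r
    rw [coordVec_monoAut, coordVec_axisVec, coordVec_axisVec]
    simp only [hiff]
    by_cases hr : r = (σ : Equiv.Perm GolayPt) p
    · rw [hr, if_neg hd]
    · simp [hr]

theorem axis_injective {p q : GolayPt} (h : SameLine (axisVec p) (axisVec q)) : q = p := by
  have h8 := h.abs_eq q
  rw [coordVec_axisVec, coordVec_axisVec, if_pos rfl] at h8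
  by_contra hne
  rw [if_neg hne] at h8
  norm_num at h8

/-- The elements of the axis stabiliser. -/
theorem exists_mono_lineStab {h : Co0} (hh : h ∈ lineStab) :
    ∃ (d : golayCode) (σ : M24), (σ : Equiv.Perm GolayPt) none = none ∧ h = monoAut d σ := by
  obtain ⟨d, σ, rfl⟩ := exists_monomial (mem_stabilizer_crossOf.1 (mono_of_axis hh))
  exact ⟨d, σ, axis_injective (hh.trans (monoAut_axis d σ none).symm), rfl⟩

theorem monoAut_mem_lineStab (d : golayCode) {σ : M24}
    (hσ : (σ : Equiv.Perm GolayPt) none = none) : monoAut d σ ∈ lineStab := by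
  have := monoAut_axis d σ none
  rwa [hσ] at this

theorem signAut_eq_monoAut (d : golayCode) : signAut d = monoAut d 1 := by
  rw [monoAut, ← permHom_apply, map_one, mul_one]

theorem permAut_eq_monoAut (σ : M24) : permAut σ = monoAut 0 σ := by
  rw [monoAut, signAut_zero, one_mul]

/-- The point stabiliser in the central quotient. -/
noncomputable def pointOne : pointStab →* Spor.Co1 :=
  toCoOne.comp (permHom.comp pointStab.subtype)

theorem pointOne_apply (τ : pointStab) : pointOne τ = toCoOne (permAut (τ : M24)) := rfl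

theorem monoAut_neg (d : golayCode) (σ : M24) : negAut * monoAut d σ = monoAut (oneWord + d) σ := by
  rw [monoAut, monoAut, ← signAut_oneWord, ← mul_assoc, signAut_mul]

theorem oneWord_ne_zero : oneWord ≠ (0 : golayCode) := fun h => by
  have := congrArg (fun d : golayCode => (d : GolayPt → ZMod 2) none) h
  exact one_ne_zero this

theorem pointOne_injective : Function.Injective pointOne := fun a b h => by
  rcases toCoOne_eq.1 (h : toCoOne (permAut (a : M24)) = toCoOne (permAut (b : M24))) with e | e
  · change permAut (b : M24) = permAut (a : M24) at e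
    exact Subtype.ext (monomial_unique (d := 0) (d' := 0) (by rw [e])).2.symm
  · exfalso
    change permAut (b : M24) = negAut * permAut (a : M24) at e
    rw [permAut_eq_monoAut, permAut_eq_monoAut, monoAut_neg, add_zero] at e
    exact oneWord_ne_zero (monomial_unique e).1.symm

theorem pointOne_le : pointOne.range ≤ axisGroup := by
  rintro _ ⟨τ, rfl⟩
  rw [pointOne_apply, mem_axisGroup, permAut_eq_monoAut]
  exact monoAut_mem_lineStab 0 τ.2

theorem pointOne_mem_axisGroup (τ : pointStab) : pointOne τ ∈ axisGroup := pointOne_le ⟨τ, rfl⟩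

/-- A code word constant off four points is constant. -/
theorem code_const {d : golayCode} {S : Finset GolayPt} (hS : S.card ≤ 4) {c : ZMod 2}
    (h : ∀ p ∉ S, (d : GolayPt → ZMod 2) p = c) : ∀ p, (d : GolayPt → ZMod 2) p = c := by
  have hmem : (fun p => (d : GolayPt → ZMod 2) p + c) ∈ golayCode := by
    have := golayCode.add_mem d.2 (golayCode.smul_mem c one_mem_golayCode)
    convert this using 1
    funext p
    simp
  have hsub : support₂ (fun p => (d : GolayPt → ZMod 2) p + c) ⊆ S := by
    intro p hp
    by_contra hpS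
    simp [support₂, h p hpS, CharTwo.add_self_eq_zero] at hp
  have hle := (Finset.card_le_card hsub).trans hS
  have h0 : (support₂ (fun p => (d : GolayPt → ZMod 2) p + c)).card = 0 := by
    rcases CfsgLib.Leech.card_mem_weights hmem with e | e | e | e | e <;> omega
  intro p
  by_contra hne
  have hp : p ∈ support₂ (fun p => (d : GolayPt → ZMod 2) p + c) := by
    simpa [support₂, CharTwo.add_eq_zero] using hne
  rw [Finset.card_eq_zero.1 h0] at hp
  simp at hp

theorem code_const_cases {d : golayCode} {c : ZMod 2} (h : ∀ p, (d : GolayPt → ZMod 2) p = c) :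
    d = 0 ∨ d = oneWord := by
  rcases CfsgLib.Leech.zmod2_cases c with rfl | rfl
  · exact Or.inl (Subtype.ext (funext h))
  · exact Or.inr (Subtype.ext (funext h))

theorem toCoOne_mono_const {d : golayCode} (h : d = 0 ∨ d = oneWord) (σ : M24) :
    toCoOne (monoAut d σ) = toCoOne (permAut σ) := by
  rcases h with rfl | rfl
  · rw [permAut_eq_monoAut]
  · rw [monoAut, map_mul, signAut_oneWord, toCoOne_negAut, one_mul]

/-- A monomial element normalising the group of a permutation. -/
theorem mono_normalizes {τ σ : M24} {d : golayCode}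
    (hn : (monoAut d σ)⁻¹ * permAut τ * monoAut d σ ∈ Subgroup.zpowers (permAut τ)) :
    σ⁻¹ * τ * σ ∈ Subgroup.zpowers τ ∧
      ∀ p, (d : GolayPt → ZMod 2) ((τ : Equiv.Perm GolayPt) p) = (d : GolayPt → ZMod 2) p := by
  obtain ⟨i, hi⟩ := Subgroup.mem_zpowers_iff.1 hn
  rw [eq_comm, mul_assoc, inv_mul_eq_iff_eq_mul, monoAut, ← mul_assoc, permAut_mul_signAut,
    ← permHom_apply, ← permHom_apply, ← map_zpow, mul_assoc, ← map_mul, mul_assoc, ← map_mul] at hi
  obtain ⟨h1, h2⟩ := monomial_unique (σ := τ * σ) (σ' := σ * τ ^ i) hi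
  refine ⟨Subgroup.mem_zpowers_iff.2 ⟨i, ?_⟩, fun p => ?_⟩
  · rw [mul_assoc, h2, inv_mul_cancel_left]
  · have := congrFun (congrArg Subtype.val h1) ((τ : Equiv.Perm GolayPt) p)
    simp only [Equiv.symm_apply_apply] at this
    exact this.symm

theorem norm_shift_le : Subgroup.normalizer
    (((Subgroup.zpowers shiftPt).map pointOne : Subgroup Spor.Co1) : Set Spor.Co1) ≤
      pointOne.range := by
  intro k hk
  obtain ⟨h, rfl⟩ := toCoOne_surjective k
  rw [MonoidHom.map_zpowers] at hk
  have hg : permAut shiftOne ^ 23 = 1 := by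
    rw [← permHom_apply, ← map_pow, show shiftOne ^ 23 = 1 from Subtype.ext shiftPerm_one_pow,
      map_one]
  have hn := lift_normalizes (by norm_num) hg hk
  set w := h • axisVec none with hw
  have hfix := axis_image_fixed (h := h) shiftOne_none hn
  have hshift : ∀ i : ZMod 23, coordVec w (some (i + 1)) = coordVec w (some i) := fun i => by
    rw [← shiftOne_some i]; exact hfix (some i)
  have hconst : ∀ i : ZMod 23, coordVec w (some i) = coordVec w (some 0) := by
    have h : ∀ n : ℕ, coordVec w (some (n : ZMod 23)) = coordVec w (some 0) := by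
      intro n
      induction n with
      | zero => simp
      | succ n ih => rw [Nat.cast_succ, hshift, ih]
    intro i
    rw [← ZMod.natCast_zmod_val i]
    exact h _
  have hnorm : sqNorm (coordVec w) = 64 := by rw [hw, sqNorm_smul', sqNorm_axisVec]
  have hall : ∀ p ∈ (Finset.univ : Finset GolayPt).erase none,
      coordVec w p = coordVec w (some 0) := by
    rintro (_ | i) hp
    · simp at hp
    · exact hconst i
  rw [sqNorm, ← Finset.add_sum_erase _ _ (Finset.mem_univ (none : GolayPt)),
    Finset.sum_congr rfl fun p hp => show coordVec w p ^ 2 = coordVec w (some 0) ^ 2 by rw [hall p hp],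
    Finset.sum_const, Finset.card_erase_of_mem (Finset.mem_univ _), card_univ_golayPt] at hnorm
  norm_num at hnorm
  generalize ha : coordVec w none = a at hnorm
  generalize hb : coordVec w (some 0) = b at hnorm
  have hb2 : -1 ≤ b ∧ b ≤ 1 := by constructor <;> nlinarith
  have ha2 : -8 ≤ a ∧ a ≤ 8 := by constructor <;> nlinarith
  obtain ⟨h1, h2⟩ := hb2
  obtain ⟨h3, h4⟩ := ha2
  have hab : (a = 8 ∨ a = -8) ∧ b = 0 := by
    interval_cases b <;> interval_cases a <;> first | (norm_num at hnorm; done) | norm_num
  have hline : h ∈ lineStab := by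
    rcases hab.1 with e | e
    · refine Or.inl (leech_ext fun p => ?_)
      rw [coordVec_axisVec]
      rcases p with _ | i
      · rw [if_pos rfl, ← hw, ha, e]
      · rw [if_neg (by simp), ← hw, hconst, hb, hab.2]
    · refine Or.inr (leech_ext fun p => ?_)
      show coordVec w p = -coordVec (axisVec none) p
      rw [coordVec_axisVec]
      rcases p with _ | i
      · rw [if_pos rfl, ha, e]
      · rw [if_neg (by simp), hconst, hb, hab.2, neg_zero]
  obtain ⟨d, σ, hσ, rfl⟩ := exists_mono_lineStab hline
  obtain ⟨-, hinv⟩ := mono_normalizes hn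
  have hd : ∀ p, p ∉ ({none} : Finset GolayPt) →
      (d : GolayPt → ZMod 2) p = (d : GolayPt → ZMod 2) (some 0) := by
    have hstep : ∀ n : ℕ, (d : GolayPt → ZMod 2) (some (n : ZMod 23)) =
        (d : GolayPt → ZMod 2) (some 0) := by
      intro n
      induction n with
      | zero => simp
      | succ n ih => rw [Nat.cast_succ, ← shiftOne_some, hinv, ih]
    rintro (_ | i) hp
    · simp at hp
    · rw [← ZMod.natCast_zmod_val i]; exact hstep _
  exact ⟨⟨σ, hσ⟩, (toCoOne_mono_const (code_const_cases (code_const (by simp) hd)) σ).symm⟩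

end CfsgLib.Mathieu.CoOneOut
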