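import Cfsg.Agent.Lib.Mathieu.PointExtension
import Cfsg.Agent.Lib.GolayStructure.CoTwoSimple
import Cfsg.Agent.Lib.Fischer2.LeechCoTwo
import Cfsg.Agent.Lib.Golay.Stab

/-!
Every automorphism of the second Conway group is inner.
-/

set_option autoImplicit false

namespace CfsgLib.Mathieu.CoTwoOut

open MulAction Cfsg CfsgLib.GolayStructure CfsgLib.Leech CfsgLib.Fischer2 CfsgLib.Mathieu.CoThreeOut
open scoped Pointwise Classical

local instance fact_prime_eleven_ct : Fact (Nat.Prime 11) := ⟨by norm_num⟩
local instance fact_prime_twentythree_ct : Fact (Nat.Prime 23) := ⟨by norm_num⟩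

/-- The vector with `-3` at the exceptional point and ones elsewhere. -/
noncomputable def vecP : leechLattice := vecU - axisVec none

theorem coordVec_vecP (p : GolayPt) : coordVec vecP p = if p = none then -3 else 1 := by
  show coordVec vecU p - coordVec (axisVec none) p = _
  rw [coordVec_vecU, coordVec_axisVec]
  split_ifs <;> norm_num

theorem sqNorm_vecP : sqNorm (coordVec vecP) = 32 := by
  rw [sqNorm, ← Finset.add_sum_erase _ _ (Finset.mem_univ (none : GolayPt)),
    Finset.sum_congr rfl fun i hi => show coordVec vecP i ^ 2 = 1 by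
      rw [coordVec_vecP, if_neg (Finset.mem_erase.1 hi).1]; norm_num,
    Finset.sum_const, Finset.card_erase_of_mem (Finset.mem_univ _), card_univ_golayPt,
    coordVec_vecP, if_pos rfl]
  norm_num

theorem dot_vecP (x : leechLattice) :
    dotInt (coordVec vecP) (coordVec x) = (-3) * coordVec x none +
      ∑ i ∈ (Finset.univ : Finset GolayPt).erase none, coordVec x i := by
  rw [dotInt, ← Finset.add_sum_erase _ _ (Finset.mem_univ none)]
  refine congrArg₂ (· + ·) (by rw [coordVec_vecP, if_pos rfl]) (Finset.sum_congr rfl fun i hi => ?_)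
  rw [coordVec_vecP, if_neg (Finset.mem_erase.1 hi).1, one_mul]

/-- The stabiliser of `vecP`. -/
noncomputable abbrev coTwoStd : Subgroup Co0 := MulAction.stabilizer Co0 vecP

theorem card_coTwoStd : Nat.card coTwoStd = 42305421312000 := (coTwo_simple_order sqNorm_vecP).2

theorem permAut_smul_vecP {σ : M24} (hσ : (σ : Equiv.Perm GolayPt) none = none) :
    permAut σ • vecP = vecP := by
  refine leech_ext fun p => ?_
  rw [coordVec_permAut, coordVec_vecP, coordVec_vecP]
  have h : (σ : Equiv.Perm GolayPt).symm p = none ↔ p = none := by rw [Equiv.symm_apply_eq, hσ]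
  exact if_congr h rfl rfl

/-- The point stabiliser inside the stabiliser of `vecP`. -/
noncomputable def pointTwo : pointStab →* coTwoStd :=
  (permHom.comp pointStab.subtype).codRestrict coTwoStd fun τ => permAut_smul_vecP τ.2

theorem pointTwo_injective : Function.Injective pointTwo := fun a b h => by
  have h' : permAut (a : M24) = permAut (b : M24) := congrArg Subtype.val h
  exact Subtype.ext (monomial_unique (d := 0) (d' := 0) (by rw [h'])).2

theorem fix_vecU {h : Co0} (hP : h • vecP = vecP) (hh : h • axisVec none = axisVec none) :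
    h • vecU = vecU := by
  have e : vecP + axisVec none = vecU := sub_add_cancel _ _
  rw [← e, smul_add_co0, hP, hh]

theorem axis_stab_two {h : coTwoStd} (hh : (h : Co0) • axisVec none = axisVec none) :
    h ∈ pointTwo.range := by
  obtain ⟨τ, hτ⟩ := axis_stab (h := ⟨(h : Co0), fix_vecU h.2 hh⟩) hh
  exact ⟨τ, Subtype.ext (show permAut (τ : M24) = (h : Co0) from congrArg Subtype.val hτ)⟩

theorem point_fix_axis_two {h : coTwoStd} (hh : h ∈ pointTwo.range) :
    (h : Co0) • axisVec none = axisVec none := by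
  obtain ⟨τ, rfl⟩ := hh
  exact point_fix_axis (h := pointHom τ) ⟨τ, rfl⟩

theorem axis_image_two (h : coTwoStd) :
    sqNorm (coordVec ((h : Co0) • axisVec none)) = 64 ∧
      dotInt (coordVec vecP) (coordVec ((h : Co0) • axisVec none)) = -24 := by
  refine ⟨by rw [sqNorm_smul', sqNorm_axisVec], ?_⟩
  rw [dot_axis_image (h := (h : Co0)) h.2, coordVec_vecP, if_pos rfl]
  norm_num

theorem norm_shift_le : Subgroup.normalizer
    (((Subgroup.zpowers shiftPt).map pointTwo : Subgroup coTwoStd) : Set coTwoStd) ≤
      pointTwo.range := by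
  intro h hh
  have h2 : pointTwo shiftPt ∈ (Subgroup.zpowers shiftPt).map pointTwo :=
    Subgroup.mem_map_of_mem _ (Subgroup.mem_zpowers _)
  have h1 := (Subgroup.mem_normalizer_iff.1 (inv_mem hh) (pointTwo shiftPt)).1 h2
  rw [inv_inv, MonoidHom.map_zpowers] at h1
  refine axis_stab_two ?_
  set w := (h : Co0) • axisVec none with hw
  have hfix := axis_image_fixed (h := (h : Co0)) shiftOne_none (permAut_mem_zpowers_of_val h1)
  have hshift : ∀ i : ZMod 23, coordVec w (some (i + 1)) = coordVec w (some i) := fun i => by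
    rw [← shiftOne_some i]; exact hfix (some i)
  have hconst : ∀ i : ZMod 23, coordVec w (some i) = coordVec w (some 0) := by
    have h : ∀ n : ℕ, coordVec w (some (n : ZMod 23)) = coordVec w (some 0) := by
      intro n
      induction n with
      | zero => simp
      | succ n ih => rw [Nat.cast_succ, hshift, ih]
    intro i
    rw [← ZMod.natCast_zmod_val i]
    exact h _
  obtain ⟨hn, hd⟩ := axis_image_two h
  rw [← hw] at hn hd
  have hall : ∀ p ∈ (Finset.univ : Finset GolayPt).erase none,
      coordVec w p = coordVec w (some 0) := by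
    rintro (_ | i) hp
    · simp at hp
    · exact hconst i
  rw [dot_vecP, Finset.sum_congr rfl hall, Finset.sum_const,
    Finset.card_erase_of_mem (Finset.mem_univ _), card_univ_golayPt] at hd
  rw [sqNorm, ← Finset.add_sum_erase _ _ (Finset.mem_univ (none : GolayPt)),
    Finset.sum_congr rfl fun p hp => show coordVec w p ^ 2 = coordVec w (some 0) ^ 2 by rw [hall p hp],
    Finset.sum_const, Finset.card_erase_of_mem (Finset.mem_univ _), card_univ_golayPt] at hn
  norm_num at hd hn
  generalize ha : coordVec w none = a at hd hn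
  generalize hb : coordVec w (some 0) = b at hd hn
  have hb2 : -1 ≤ b ∧ b ≤ 1 := by constructor <;> nlinarith
  obtain ⟨h1, h2⟩ := hb2
  have hab : a = 8 ∧ b = 0 := by interval_cases b <;> constructor <;> nlinarith
  refine leech_ext fun p => ?_
  rw [coordVec_axisVec]
  rcases p with _ | i
  · rw [if_pos rfl, ha, hab.1]
  · rw [if_neg (by simp), hconst, hb, hab.2]

/-- Norm 64 vectors in the relation -24 to `vecP` fixed by an element of order 11. -/
theorem classify_eleven_two {g : M24} (hg : g ∈ pointStab) (ho : orderOf g = 11) :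
    ∃ (q : GolayPt) (O O' : Finset GolayPt), q ≠ none ∧ g • q = q ∧ Disjoint O O' ∧
      ((Finset.univ : Finset GolayPt).erase none).erase q = O ∪ O' ∧ O.card = 11 ∧ O'.card = 11 ∧
      ∀ w : leechLattice, sqNorm (coordVec w) = 64 → dotInt (coordVec vecP) (coordVec w) = -24 →
        (∀ p, coordVec w (g • p) = coordVec w p) →
          (w = axisVec none ∨ (coordVec w none = 2 ∧ coordVec w q = 4 ∧
            (((∀ p ∈ O, coordVec w p = -2) ∧ ∀ p ∈ O', coordVec w p = 0) ∨
              ((∀ p ∈ O, coordVec w p = 0) ∧ ∀ p ∈ O', coordVec w p = -2)))) := by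
  obtain ⟨q, O, O', hqne, hq, hdis, hpart, hO, hO', hconst⟩ := two_orbits hg ho
  refine ⟨q, O, O', hqne, hq, hdis, hpart, hO, hO', fun w hn hd hinv => ?_⟩
  obtain ⟨⟨c, hc⟩, ⟨d, hd'⟩⟩ := hconst (coordVec w) hinv
  have hsum : ∀ f : GolayPt → ℤ,
      ∑ p, f p = f none + (f q + (∑ p ∈ O, f p + ∑ p ∈ O', f p)) := by
    intro f
    rw [← Finset.add_sum_erase _ _ (Finset.mem_univ (none : GolayPt)),
      ← Finset.add_sum_erase _ _ (show q ∈ (Finset.univ : Finset GolayPt).erase none from
        Finset.mem_erase.2 ⟨hqne, Finset.mem_univ _⟩), hpart, Finset.sum_union hdis]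
  have hU : (-3) * coordVec w none + (coordVec w q + (11 * c + 11 * d)) = -24 := by
    rw [dot_vecP, ← Finset.add_sum_erase _ _ (show q ∈ (Finset.univ : Finset GolayPt).erase none from
      Finset.mem_erase.2 ⟨hqne, Finset.mem_univ _⟩), hpart, Finset.sum_union hdis,
      Finset.sum_congr rfl hc, Finset.sum_congr rfl hd', Finset.sum_const, Finset.sum_const, hO,
      hO'] at hd
    simpa using hd
  have hN : coordVec w none ^ 2 + (coordVec w q ^ 2 + (11 * c ^ 2 + 11 * d ^ 2)) = 64 := by
    rw [sqNorm, hsum, Finset.sum_congr rfl fun p hp => show coordVec w p ^ 2 = c ^ 2 by rw [hc p hp],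
      Finset.sum_congr rfl fun p hp => show coordVec w p ^ 2 = d ^ 2 by rw [hd' p hp],
      Finset.sum_const, Finset.sum_const, hO, hO'] at hn
    simpa using hn
  generalize ha : coordVec w none = a at hU hN
  generalize hb : coordVec w q = b at hU hN
  have ha' : -8 ≤ a ∧ a ≤ 8 := by constructor <;> nlinarith
  have hc' : -2 ≤ c ∧ c ≤ 2 := by constructor <;> nlinarith
  have hd'' : -2 ≤ d ∧ d ≤ 2 := by constructor <;> nlinarith
  have hb' : b = -24 + 3 * a - 11 * c - 11 * d := by omega
  subst hb'
  obtain ⟨h1, h2⟩ := ha'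
  obtain ⟨h3, h4⟩ := hc'
  obtain ⟨h5, h6⟩ := hd''
  have hpar : ∀ p, coordVec w p % 2 = a % 2 := fun p => by
    rcases even_or_odd_coords w with h | h <;> rw [← ha, h p, h none]
  have hb2 := hpar q
  rw [hb] at hb2
  have hO0 : O.Nonempty := Finset.card_pos.1 (by omega)
  have hc2 := hpar hO0.choose
  rw [hc _ hO0.choose_spec] at hc2
  have hsol : (a = 8 ∧ c = 0 ∧ d = 0) ∨ (a = 2 ∧ ((c = -2 ∧ d = 0) ∨ (c = 0 ∧ d = -2))) := by
    interval_cases c <;> interval_cases d <;> interval_cases a <;> first | (norm_num at hN; done) | (exfalso; omega) | norm_num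
  rcases hsol with ⟨rfl, rfl, rfl⟩ | ⟨rfl, ⟨rfl, rfl⟩ | ⟨rfl, rfl⟩⟩
  · left
    refine leech_ext fun p => ?_
    rw [coordVec_axisVec]
    by_cases hp : p = none
    · rw [if_pos hp, hp, ha]
    rw [if_neg hp]
    by_cases hpq : p = q
    · rw [hpq, hb]; norm_num
    have : p ∈ O ∪ O' := hpart ▸ Finset.mem_erase.2 ⟨hpq, Finset.mem_erase.2 ⟨hp, Finset.mem_univ _⟩⟩
    rcases Finset.mem_union.1 this with h | h
    exacts [hc p h, hd' p h]
  · exact Or.inr ⟨rfl, by norm_num, Or.inl ⟨hc, hd'⟩⟩
  · exact Or.inr ⟨rfl, by norm_num, Or.inr ⟨hc, hd'⟩⟩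


section Eleven

variable (R : Subgroup pointStab) (hR : Nat.card R = 11)

include hR in
/-- The normaliser of a subgroup of order 11 of the point stabiliser. -/
theorem normalizer_eleven_two :
    Nat.card (Subgroup.normalizer ((R.map pointTwo : Subgroup coTwoStd) : Set coTwoStd))
        = 110 ∧
      Nat.card (Subgroup.normalizer ((R.map pointTwo : Subgroup coTwoStd) : Set coTwoStd)
          ⊓ pointTwo.range : Subgroup coTwoStd) = 55 := by
  have := finite_Co0
  set N := Subgroup.normalizer ((R.map pointTwo : Subgroup coTwoStd) : Set coTwoStd) with hN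
  have hNM : Nat.card (N ⊓ pointTwo.range : Subgroup coTwoStd) = 55 := by
    rw [hN, ← map_normalizer pointTwo_injective, Subgroup.card_map_of_injective pointTwo_injective,
      card_normalizer_eleven R hR]
  refine ⟨?_, hNM⟩
  obtain ⟨a, ha⟩ := exists_prime_orderOf_dvd_card' (G := R) 11 (dvd_of_eq hR.symm)
  have hao : orderOf ((a : pointStab) : M24) = 11 := by
    rw [Subgroup.orderOf_coe, Subgroup.orderOf_coe, ha]
  obtain ⟨q, O, O', hqne, -, hdis, hpart, -, hO', hcl⟩ := classify_eleven_two (a : pointStab).2 hao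
  -- the orbit of the axis under the normaliser
  let W : Set leechLattice := orbit N (axisVec none)
  have hWinv : ∀ w ∈ W, ∀ p, coordVec w (((a : pointStab) : M24) • p) = coordVec w p := by
    rintro _ ⟨⟨h, hh⟩, rfl⟩ p
    have hm : h⁻¹ * pointTwo (a : pointStab) * h ∈ R.map pointTwo := by
      have := (Subgroup.mem_normalizer_iff.1 (inv_mem hh) (pointTwo (a : pointStab))).1 ⟨_, a.2, rfl⟩
      simpa using this
    have hgen : R.map pointTwo = Subgroup.zpowers (pointTwo (a : pointStab)) := by
      rw [← MonoidHom.map_zpowers]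
      congr 1
      refine (Subgroup.eq_of_le_of_card_ge (Subgroup.zpowers_le.2 a.2) ?_).symm
      rw [hR, Nat.card_zpowers, Subgroup.orderOf_coe, ha]
    exact axis_image_fixed (σ := ((a : pointStab) : M24)) (a : pointStab).2
      (permAut_mem_zpowers_of_val (hgen.le hm)) p
  have hW : W.ncard ≤ 3 := by
    refine le_trans (Set.ncard_le_ncard_of_injOn
      (t := ({(8, 0), (2, -2), (2, 0)} : Set (ℤ × ℤ)))
      (fun w => (coordVec w none, if h : O.Nonempty then coordVec w h.choose else 0)) ?_ ?_) ?_
    · intro w hw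
      obtain ⟨⟨h, hh⟩, rfl⟩ := id hw
      rcases hcl _ (axis_image_two h).1 (axis_image_two h).2 (hWinv _ hw) with e | ⟨e4, -, he⟩
      · change ((h : Co0) • axisVec none : leechLattice) = _ at e
        show ((coordVec ((h : Co0) • axisVec none) none,
          if hne : O.Nonempty then coordVec ((h : Co0) • axisVec none) hne.choose else 0) : ℤ × ℤ) ∈ _
        rw [e]
        split_ifs with hne
        · have hne' : hne.choose ≠ none := fun e' => by
            have := Finset.mem_union_left O' hne.choose_spec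
            rw [← hpart, e'] at this
            simp at this
          simp [coordVec_axisVec, hne']
        · simp [coordVec_axisVec]
      · show ((coordVec ((h : Co0) • axisVec none) none,
          if hne : O.Nonempty then coordVec ((h : Co0) • axisVec none) hne.choose else 0) : ℤ × ℤ) ∈ _
        rw [e4]
        split_ifs with hne
        · rcases he with ⟨h1, -⟩ | ⟨h1, -⟩ <;> rw [h1 _ hne.choose_spec] <;> simp
        · simp
    · intro w hw w' hw' he
      simp only [Prod.mk.injEq] at he
      obtain ⟨⟨h, hh⟩, rfl⟩ := id hw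
      obtain ⟨⟨h', hh'⟩, rfl⟩ := id hw'
      obtain ⟨he1, he2⟩ := he
      rcases hcl _ (axis_image_two h).1 (axis_image_two h).2 (hWinv _ hw) with e | ⟨e4, eq, e⟩ <;>
        rcases hcl _ (axis_image_two h').1 (axis_image_two h').2 (hWinv _ hw') with e' | ⟨e4', eq', e'⟩
      · exact e.trans e'.symm
      · exfalso
        have h8 : coordVec ((h : Co0) • axisVec none) none = 8 := by
          rw [e, coordVec_axisVec, if_pos rfl]
        have : (8 : ℤ) = 2 := h8.symm.trans (he1.trans e4')
        norm_num at this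
      · exfalso
        have h8 : coordVec ((h' : Co0) • axisVec none) none = 8 := by
          rw [e', coordVec_axisVec, if_pos rfl]
        have : (2 : ℤ) = 8 := e4.symm.trans (he1.trans h8)
        norm_num at this
      · have hne : O.Nonempty := by
          rw [Finset.nonempty_iff_ne_empty]
          intro h0
          have hc := congrArg Finset.card hpart
          rw [h0, Finset.empty_union, hO', Finset.card_erase_of_mem (Finset.mem_erase.2
            ⟨hqne, Finset.mem_univ _⟩), Finset.card_erase_of_mem (Finset.mem_univ _),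
            card_univ_golayPt] at hc
          norm_num at hc
        rw [dif_pos hne, dif_pos hne] at he2
        change coordVec ((h : Co0) • axisVec none) _ = coordVec ((h' : Co0) • axisVec none) _ at he2
        refine leech_ext fun p => ?_
        show coordVec ((h : Co0) • axisVec none) p = coordVec ((h' : Co0) • axisVec none) p
        by_cases hp : p = none
        · rw [hp]; exact e4.trans e4'.symm
        by_cases hpq : p = q
        · rw [hpq]; exact eq.trans eq'.symm
        have hm : p ∈ O ∪ O' :=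
          hpart ▸ Finset.mem_erase.2 ⟨hpq, Finset.mem_erase.2 ⟨hp, Finset.mem_univ _⟩⟩
        rcases e with ⟨a1, a2⟩ | ⟨a1, a2⟩ <;> rcases e' with ⟨b1, b2⟩ | ⟨b1, b2⟩ <;>
          rw [a1 _ hne.choose_spec, b1 _ hne.choose_spec] at he2 <;>
          first
          | (norm_num at he2; done)
          | (rcases Finset.mem_union.1 hm with h0 | h0
             · exact (a1 p h0).trans (b1 p h0).symm
             · exact (a2 p h0).trans (b2 p h0).symm)
    · exact (Set.ncard_insert_le _ _).trans (Nat.succ_le_succ ((Set.ncard_insert_le _ _).trans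
        (by rw [Set.ncard_singleton])))
  have hidx := (stabilizer N (axisVec none)).index_mul_card
  rw [index_stabilizer] at hidx
  have hst : Nat.card (stabilizer N (axisVec none)) = 55 := by
    rw [← hNM]
    refine Nat.card_congr
      { toFun := fun h => ⟨(h : N), Subgroup.mem_inf.2 ⟨(h : N).2, axis_stab_two h.2⟩⟩
        invFun := fun h => ⟨⟨h, (Subgroup.mem_inf.1 h.2).1⟩, point_fix_axis_two (Subgroup.mem_inf.1 h.2).2⟩
        left_inv := fun h => rfl
        right_inv := fun h => rfl }
  rw [hst] at hidx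
  change W.ncard * 55 = Nat.card N at hidx
  have hR' : Nat.card (R.map pointTwo) = 11 := by
    rw [Subgroup.card_map_of_injective pointTwo_injective, hR]
  obtain ⟨-, n, hn, hmul⟩ := sylow_arith hR' (by rw [card_coTwoStd]; norm_num)
  rw [card_coTwoStd, ← hN] at hmul
  rw [← hidx] at hmul ⊢
  have hpos : 0 < W.ncard := by
    rcases Nat.eq_zero_or_pos W.ncard with h | h
    · rw [h, zero_mul] at hidx
      exact absurd hidx.symm Nat.card_pos.ne'
    · exact h
  interval_cases W.ncard <;> omega

end Eleven

/-- The stabiliser of a dodecad and one of its points moves every outside point. -/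
theorem exists_move {d : Finset GolayPt} (hd : d ∈ dodecads) {p q : GolayPt} (hp : p ∈ d)
    (hq : q ∉ d) : ∃ g ∈ stabilizer M24 d ⊓ stabilizer M24 p, g • q ≠ q := by
  have hc : 1 < (((Finset.univ : Finset GolayPt) \ d).erase q).card := by
    rw [Finset.card_erase_of_mem (Finset.mem_sdiff.2 ⟨Finset.mem_univ _, hq⟩),
      Finset.card_sdiff_of_subset (Finset.subset_univ _), card_univ_golayPt,
      show d.card = 12 from hd.2]
    norm_num
  obtain ⟨a, ha, b, hb, hab⟩ := Finset.one_lt_card.1 hc
  obtain ⟨haq, ha'⟩ := Finset.mem_erase.1 ha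
  obtain ⟨hbq, hb'⟩ := Finset.mem_erase.1 hb
  have had : a ∉ d := (Finset.mem_sdiff.1 ha').2
  have hbd : b ∉ d := (Finset.mem_sdiff.1 hb').2
  let x : Fin 3 ↪ GolayPt := ⟨![q, a, b], by
    intro i j h; fin_cases i <;> fin_cases j <;>
      simp [haq, Ne.symm haq, hbq, Ne.symm hbq, hab, Ne.symm hab] at h ⊢⟩
  let y : Fin 3 ↪ GolayPt := ⟨![a, q, b], by
    intro i j h; fin_cases i <;> fin_cases j <;>
      simp [haq, Ne.symm haq, hbq, Ne.symm hbq, hab, Ne.symm hab] at h ⊢⟩
  obtain ⟨g, hg, hg'⟩ := CfsgLib.Golay.three_transitive_outside hd hp x y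
    (by intro i; fin_cases i; exacts [hq, had, hbd])
    (by intro i; fin_cases i; exacts [had, hq, hbd])
  refine ⟨g, hg, fun e => haq ?_⟩
  exact (hg' 0).symm.trans e

/-- The orbit of a vector of the second shape under the point stabiliser is large. -/
theorem orbit_big {w : leechLattice} {q : GolayPt} {O O' : Finset GolayPt} (hqne : q ≠ none)
    (hdis : Disjoint O O') (hpart : ((Finset.univ : Finset GolayPt).erase none).erase q = O ∪ O')
    (hO : O.card = 11) (h2 : coordVec w none = 2) (h4 : coordVec w q = 4)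
    (hOv : ∀ p ∈ O, coordVec w p = -2) (hO'v : ∀ p ∈ O', coordVec w p = 0)
    {L : Subgroup coTwoStd} (hL : pointTwo.range ≤ L) (hw : w ∈ orbit L (axisVec none)) :
    2576 ≤ (orbit L (axisVec none)).ncard := by
  have hcases : ∀ p, p = none ∨ p = q ∨ p ∈ O ∨ p ∈ O' := by
    intro p
    by_cases hp : p = none
    · exact Or.inl hp
    by_cases hpq : p = q
    · exact Or.inr (Or.inl hpq)
    exact Or.inr (Or.inr (Finset.mem_union.1
      (hpart ▸ Finset.mem_erase.2 ⟨hpq, Finset.mem_erase.2 ⟨hp, Finset.mem_univ _⟩⟩)))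
  set d := twoSet w with hd
  have hnoneO : none ∉ O := fun h => by
    have := hOv none h
    omega
  have hdeq : d = insert none O := by
    ext p
    rw [hd, mem_twoSet, Finset.mem_insert]
    rcases hcases p with rfl | rfl | h | h
    · simp [h2]
    · rw [h4]
      simp only [show ((4 : ℤ) % 4 = 2) = False by norm_num, false_iff, not_or]
      exact ⟨hqne, fun h => by have := hOv p h; omega⟩
    · simp [hOv p h, h]
    · rw [hO'v p h]
      simp only [show ((0 : ℤ) % 4 = 2) = False by norm_num, false_iff, not_or]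
      exact ⟨fun e => by subst e; have := hO'v none h; omega, Finset.disjoint_right.1 hdis h⟩
  have hdc : d.card = 12 := by rw [hdeq, Finset.card_insert_of_notMem hnoneO, hO]
  have hdd : d ∈ dodecads := ⟨twoSet_mem w, hdc⟩
  have hnd : none ∈ d := by rw [hdeq]; exact Finset.mem_insert_self _ _
  have hqd : q ∉ d := by rw [hd, mem_twoSet, h4]; norm_num
  set S₀ : Subgroup M24 := stabilizer M24 d ⊓ stabilizer M24 (none : GolayPt) with hS₀
  have hS₀c : Nat.card S₀ = 7920 := CfsgLib.Golay.card_stabilizer_dodecad_inf_point hdd hnd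
  obtain ⟨g, hg, hgq⟩ := exists_move hdd hnd hqd
  let φ : pointStab →* Co0 := coTwoStd.subtype.comp pointTwo
  let _ : MulAction pointStab leechLattice := MulAction.compHom leechLattice φ
  set H := stabilizer pointStab w with hH
  have hfix : ∀ τ ∈ H, ∀ p, coordVec w ((τ : M24) • p) = coordVec w p := by
    intro τ hτ p
    have h1 := congrArg (fun x => coordVec x ((τ : M24) • p))
      (show permAut (τ : M24) • w = w from hτ)
    rw [coordVec_permAut] at h1
    rw [← h1]
    exact congrArg _ (Equiv.symm_apply_apply _ _)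
  set S : Subgroup M24 := S₀ ⊓ stabilizer M24 q with hS
  have hHS : H.map pointStab.subtype ≤ S := by
    rintro _ ⟨τ, hτ, rfl⟩
    refine Subgroup.mem_inf.2 ⟨Subgroup.mem_inf.2 ⟨?_, τ.2⟩, ?_⟩
    · rw [mem_stabilizer_iff]
      refine Finset.eq_of_subset_of_card_le (fun p hp => ?_) (by rw [Finset.card_smul_finset])
      obtain ⟨r, hr, rfl⟩ := Finset.mem_smul_finset.1 hp
      rw [hd, mem_twoSet] at hr ⊢
      show coordVec w ((τ : M24) • r) % 4 = 2
      rwa [hfix τ hτ]
    · rw [mem_stabilizer_iff]
      have h1 := (hfix τ hτ q).trans h4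
      show (τ : M24) • q = q
      rcases hcases ((τ : M24) • q) with e | e | e | e
      · rw [e, h2] at h1; norm_num at h1
      · exact e
      · rw [hOv _ e] at h1; norm_num at h1
      · rw [hO'v _ e] at h1; norm_num at h1
  have hne : S < S₀ := lt_of_le_of_ne inf_le_left fun e => hgq (e.symm.le hg).2
  have hSd := Subgroup.card_dvd_of_le hne.le
  rw [hS₀c] at hSd
  have hSle : Nat.card S * 2 ≤ 7920 := by
    obtain ⟨j, hj⟩ := hSd
    rcases Nat.lt_or_ge j 2 with h | h
    · interval_cases j
      · simp at hj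
      · exact absurd (Subgroup.eq_of_le_of_card_ge hne.le (by omega)) hne.ne
    · calc Nat.card S * 2 ≤ Nat.card S * j := Nat.mul_le_mul_left _ h
        _ = 7920 := hj.symm
  have hHle : Nat.card H ≤ Nat.card S := by
    rw [← Subgroup.card_map_of_injective pointStab.subtype_injective]
    exact Subgroup.card_le_of_le hHS
  have hidx := H.index_mul_card
  rw [hH, index_stabilizer, card_pointStab, ← hH] at hidx
  have hsub : orbit pointStab w ⊆ orbit L (axisVec none) := by
    rintro _ ⟨τ, rfl⟩
    exact mem_orbit_of_mem_orbit (⟨pointTwo τ, hL ⟨τ, rfl⟩⟩ : L) hw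
  have := finite_Co0
  have hle := Set.ncard_le_ncard hsub (Set.finite_range _)
  refine le_trans ?_ hle
  by_contra hlt
  have : (orbit pointStab w).ncard * Nat.card H ≤ 2575 * 3960 :=
    Nat.mul_le_mul (by omega) (by omega)
  omega

theorem gen_two (R : Subgroup pointStab) (hR : Nat.card R = 11) (L : Subgroup coTwoStd)
    (hM : pointTwo.range ≤ L)
    (hN : Subgroup.normalizer ((R.map pointTwo : Subgroup coTwoStd) : Set coTwoStd) ≤ L) :
    L = ⊤ := by
  have := finite_Co0
  set N := Subgroup.normalizer ((R.map pointTwo : Subgroup coTwoStd) : Set coTwoStd) with hNdef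
  obtain ⟨hN110, hN55⟩ := normalizer_eleven_two R hR
  rw [← hNdef] at hN110 hN55
  obtain ⟨u, huN, huM⟩ : ∃ u ∈ N, u ∉ pointTwo.range := by
    by_contra hne
    push Not at hne
    rw [inf_eq_left.2 hne] at hN55
    omega
  obtain ⟨a, ha⟩ := exists_prime_orderOf_dvd_card' (G := R) 11 (dvd_of_eq hR.symm)
  have hao : orderOf ((a : pointStab) : M24) = 11 := by
    rw [Subgroup.orderOf_coe, Subgroup.orderOf_coe, ha]
  have hgen : R.map pointTwo = Subgroup.zpowers (pointTwo (a : pointStab)) := by
    rw [← MonoidHom.map_zpowers]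
    congr 1
    refine (Subgroup.eq_of_le_of_card_ge (Subgroup.zpowers_le.2 a.2) ?_).symm
    rw [hR, Nat.card_zpowers, Subgroup.orderOf_coe, ha]
  have hm : u⁻¹ * pointTwo (a : pointStab) * u ∈ R.map pointTwo := by
    have := (Subgroup.mem_normalizer_iff.1 (inv_mem huN) (pointTwo (a : pointStab))).1 ⟨_, a.2, rfl⟩
    simpa using this
  obtain ⟨q, O, O', hqne, -, hdis, hpart, hO, hO', hcl⟩ :=
    classify_eleven_two (a : pointStab).2 hao
  have hw : (u : Co0) • axisVec none ∈ orbit L (axisVec none) :=
    ⟨⟨u, hN huN⟩, rfl⟩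
  have hbig : 2576 ≤ (orbit L (axisVec none)).ncard := by
    rcases hcl _ (axis_image_two u).1 (axis_image_two u).2
        (axis_image_fixed (σ := ((a : pointStab) : M24)) (a : pointStab).2
          (permAut_mem_zpowers_of_val (hgen.le hm))) with e | ⟨h2, h4, h⟩
    · exact absurd (axis_stab_two e) huM
    rcases h with ⟨a1, a2⟩ | ⟨a1, a2⟩
    · exact orbit_big hqne hdis hpart hO h2 h4 a1 a2 hM hw
    · exact orbit_big hqne hdis.symm (hpart.trans (Finset.union_comm _ _)) hO' h2 h4 a2 a1 hM hw
  have hidx := (stabilizer L (axisVec none)).index_mul_card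
  have hst : Nat.card (stabilizer L (axisVec none)) = 10200960 := by
    have hc : Nat.card pointTwo.range = 10200960 :=
      (Nat.card_congr (MonoidHom.ofInjective pointTwo_injective).toEquiv).symm.trans card_pointStab
    rw [← hc]
    exact Nat.card_congr
      { toFun := fun h => ⟨(h : L), axis_stab_two h.2⟩
        invFun := fun h => ⟨⟨h, hM h.2⟩, point_fix_axis_two h.2⟩
        left_inv := fun h => rfl
        right_inv := fun h => rfl }
  rw [index_stabilizer, hst] at hidx
  generalize hm' : (orbit L (axisVec none)).ncard = m at hidx hbig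
  have hlocal : ∀ (p : ℕ) (_ : Fact p.Prime) (Q : Subgroup coTwoStd), Nat.card Q = p →
      ¬ p * p ∣ Nat.card coTwoStd → Subgroup.normalizer (Q : Set coTwoStd) ≤ L →
      ∃ n, n % p = 1 ∧ n * Nat.card (Subgroup.normalizer (Q : Set coTwoStd)) = Nat.card L := by
    intro p _ Q hQ h2 hle
    have hQL : Q ≤ L := Subgroup.le_normalizer.trans hle
    obtain ⟨-, n, hn, hmul⟩ := sylow_arith (R := Q.subgroupOf L)
      (by rw [Nat.card_congr (Subgroup.subgroupOfEquivOfLe hQL).toEquiv, hQ])
      (fun h => h2 (h.trans L.card_subgroup_dvd_card))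
    refine ⟨n, hn, ?_⟩
    rw [← hmul, ← Subgroup.subgroupOf_normalizer_eq hQL,
      Nat.card_congr (Subgroup.subgroupOfEquivOfLe hle).toEquiv]
  obtain ⟨n, hn, hn'⟩ := hlocal 23 inferInstance ((Subgroup.zpowers shiftPt).map pointTwo)
    (by rw [Subgroup.card_map_of_injective pointTwo_injective, Nat.card_zpowers, orderOf_shiftPt])
    (by rw [card_coTwoStd]; norm_num) (norm_shift_le.trans hM)
  have h253 : Nat.card (Subgroup.normalizer
      (((Subgroup.zpowers shiftPt).map pointTwo : Subgroup coTwoStd) : Set coTwoStd)) = 253 := by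
    have h := map_normalizer pointTwo_injective (Subgroup.zpowers shiftPt)
    rw [inf_eq_left.2 norm_shift_le] at h
    rw [← h, Subgroup.card_map_of_injective pointTwo_injective, card_normalizer_shift]
  obtain ⟨k, hk, hk'⟩ := hlocal 11 inferInstance (R.map pointTwo)
    (by rw [Subgroup.card_map_of_injective pointTwo_injective, hR])
    (by rw [card_coTwoStd]; norm_num) hN
  rw [h253, ← hidx] at hn'
  rw [← hNdef, hN110, ← hidx] at hk'
  have hn2 : n = 40320 * m := by
    refine Nat.eq_of_mul_eq_mul_right (by norm_num : 0 < 253) ?_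
    rw [hn']; ring
  have hk2 : k = 92736 * m := by
    refine Nat.eq_of_mul_eq_mul_right (by norm_num : 0 < 110) ?_
    rw [hk']; ring
  have h23 : m % 23 = 1 := by rw [hn2, Nat.mul_mod] at hn; norm_num at hn; exact hn
  have h11 : m % 11 = 2 := by
    rw [hk2, Nat.mul_mod] at hk
    norm_num at hk
    clear hk2 hn2 hn' hk' hidx hm'
    omega
  have hdK := L.card_subgroup_dvd_card
  rw [card_coTwoStd, ← hidx, mul_comm m,
    show (42305421312000 : ℕ) = 10200960 * (2048 * 2025) by norm_num] at hdK
  obtain ⟨a', b', ha', hb', rfl⟩ :=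
    Nat.dvd_mul.1 (Nat.dvd_of_mul_dvd_mul_left (by norm_num : 0 < 10200960) hdK)
  have hall : ∀ a ∈ Nat.divisors 2048, ∀ b ∈ Nat.divisors 2025, (a * b) % 23 = 1 →
      (a * b) % 11 = 2 → a * b ≤ 2048 ∨ a * b = 2048 * 2025 := by decide +kernel
  rcases hall a' (Nat.mem_divisors.2 ⟨ha', by norm_num⟩) b' (Nat.mem_divisors.2 ⟨hb', by norm_num⟩)
    h23 h11 with e | e
  · omega
  · refine Subgroup.eq_top_of_card_eq _ ?_
    rw [← hidx, e, card_coTwoStd]

theorem inn_coTwoStd : Inn coTwoStd = ⊤ := by
  have := finite_Co0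
  exact PointExtension.inn_eq_top (f := pointTwo)
    { inj := pointTwo_injective
      norm23 := norm_shift_le
      not_sq23 := by rw [card_coTwoStd]; norm_num
      norm11 := fun R hR => (normalizer_eleven_two R hR).1
      gen := gen_two }

theorem inn_coTwo : Inn Spor.Co2 = ⊤ := by
  obtain ⟨g, hg⟩ := sameOrbit_norm32 (sqNorm_vecP) ptP_ne_ptQ
  obtain ⟨g', hg'⟩ := sameOrbit_norm32 (v := Spor.leechU) sqNorm_leechU ptP_ne_ptQ
  have e1 : coTwoStd ≃* stabilizer Co0 Spor.leechU :=
    (stabilizerEquivStabilizer (g := g'⁻¹ * g) (show Spor.leechU = (g'⁻¹ * g) • vecP by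
      rw [mul_smul, show g • vecP = g' • Spor.leechU from hg.trans hg'.symm, inv_smul_smul]))
  have e2 : Spor.Co2 = (stabilizer Co0 Spor.leechU).map Co0.subtype := by
    ext x
    exact ⟨fun h => ⟨⟨x, h.1⟩, h.2, rfl⟩, by rintro ⟨g, hg, rfl⟩; exact ⟨g.2, hg⟩⟩
  exact inn_eq_top_congr (e1.trans (((stabilizer Co0 Spor.leechU).equivMapOfInjective _
    Co0.subtype_injective).trans (MulEquiv.subgroupCongr e2.symm))) inn_coTwoStd

theorem card_out_Co2 : Nat.card (Cfsg.Out Spor.Co2) = 1 := Subgroup.index_eq_one.2 inn_coTwo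

end CfsgLib.Mathieu.CoTwoOut
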