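import Cfsg.Agent.Lib.Mathieu.CoOneBase
import Cfsg.Agent.Lib.Mathieu.CoTwoOut

/-!
The normaliser of a subgroup of order 11 of the point stabiliser in the lattice group modulo
its centre: the fixed vectors of squared length 64, and the unique subgroup of order 55.
-/

set_option autoImplicit false

namespace CfsgLib.Mathieu.CoOneOut

set_option synthInstance.maxSize 4000 in
set_option synthInstance.maxHeartbeats 400000 in
/-- Three weights of invariant words with a common value at the first point. -/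
theorem word_table : ∀ n a a' x x' y y' : ZMod 2,
      ((if n = 0 then 0 else 1) + (if a = 0 then 0 else 1) + (if x = 0 then 0 else 11) +
        (if y = 0 then 0 else 11) : ℕ) ∈ [0, 8, 12, 16, 24] →
      ((if n = 0 then 0 else 1) + (if a' = 0 then 0 else 1) + (if x' = 0 then 0 else 11) +
        (if y' = 0 then 0 else 11) : ℕ) ∈ [0, 8, 12, 16, 24] →
      ((if n + n = 0 then 0 else 1) + (if a + a' = 0 then 0 else 1) +
        (if x + x' = 0 then 0 else 11) + (if y + y' = 0 then 0 else 11) : ℕ) ∈ [0, 8, 12, 16, 24] →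
      (a = a' ∧ x = x' ∧ y = y') ∨ (a = n ∧ x = n ∧ y = n) ∨ (a' = n ∧ x' = n ∧ y' = n) := by
  decide +kernel

open MulAction Cfsg CfsgLib.GolayStructure CfsgLib.Leech CfsgLib.Fischer2 CfsgLib.Mathieu.CoThreeOut
open scoped Pointwise Classical

local instance fact_prime_eleven_c1 : Fact (Nat.Prime 11) := ⟨by norm_num⟩

/-- The two entries at the fixed points determine the two orbit values. -/
def entryOK (a b c d : ℤ) : Bool :=
  decide ((a.natAbs = 8 ∧ b = 0 ∧ c = 0 ∧ d = 0) ∨ (a = 0 ∧ b.natAbs = 8 ∧ c = 0 ∧ d = 0) ∨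
    (a.natAbs = 2 ∧ b.natAbs = 4 ∧ ((c = -a ∧ d = 0) ∨ (c = 0 ∧ d = -a))) ∨
    (a.natAbs = 4 ∧ b.natAbs = 2 ∧ ((c = -b ∧ d = 0) ∨ (c = 0 ∧ d = -b))))

/-- The necessary conditions. -/
def entryHyp (a b c d : ℤ) : Bool :=
  decide (a ^ 2 + b ^ 2 + 11 * c ^ 2 + 11 * d ^ 2 = 64 ∧ a % 2 = b % 2 ∧ a % 2 = c % 2 ∧
    a % 2 = d % 2 ∧ (a % 2 = 0 → (a + b + 11 * c + 11 * d) % 8 = 0) ∧
    ((if a % 4 = 2 then 1 else 0) + (if b % 4 = 2 then 1 else 0) + (if c % 4 = 2 then 11 else 0)
      + (if d % 4 = 2 then 11 else 0) : ℕ) ∈ [0, 8, 12, 16, 24])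

theorem entry_table : ((List.range 17).all fun i => (List.range 17).all fun j =>
    (List.range 5).all fun k => (List.range 5).all fun l =>
      !entryHyp ((i : ℤ) - 8) ((j : ℤ) - 8) ((k : ℤ) - 2) ((l : ℤ) - 2) ||
        entryOK ((i : ℤ) - 8) ((j : ℤ) - 8) ((k : ℤ) - 2) ((l : ℤ) - 2)) = true := by
  decide +kernel

theorem entry_cases {a b c d : ℤ} (h : entryHyp a b c d = true) : entryOK a b c d = true := by
  have hh := h
  simp only [entryHyp, decide_eq_true_eq] at hh
  obtain ⟨hn, -⟩ := hh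
  have ha : -8 ≤ a ∧ a ≤ 8 := by constructor <;> nlinarith
  have hb : -8 ≤ b ∧ b ≤ 8 := by constructor <;> nlinarith
  have hc : -2 ≤ c ∧ c ≤ 2 := by constructor <;> nlinarith
  have hd : -2 ≤ d ∧ d ≤ 2 := by constructor <;> nlinarith
  obtain ⟨i, hi, rfl⟩ : ∃ i : ℕ, i < 17 ∧ a = (i : ℤ) - 8 := ⟨(a + 8).toNat, by omega, by omega⟩
  obtain ⟨j, hj, rfl⟩ : ∃ i : ℕ, i < 17 ∧ b = (i : ℤ) - 8 := ⟨(b + 8).toNat, by omega, by omega⟩
  obtain ⟨k, hk, rfl⟩ : ∃ i : ℕ, i < 5 ∧ c = (i : ℤ) - 2 := ⟨(c + 2).toNat, by omega, by omega⟩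
  obtain ⟨l, hl, rfl⟩ : ∃ i : ℕ, i < 5 ∧ d = (i : ℤ) - 2 := ⟨(d + 2).toNat, by omega, by omega⟩
  have ht := entry_table
  simp only [List.all_eq_true, List.mem_range, Bool.or_eq_true, Bool.not_eq_true'] at ht
  rcases ht i hi j hj k hk l hl with e | e
  · rw [h] at e
    exact absurd e (by decide)
  · exact e


/-- The invariant vectors of squared length 64. -/
def Fixed (g : M24) (w : leechLattice) : Prop :=
  sqNorm (coordVec w) = 64 ∧ ∀ p, coordVec w (g • p) = coordVec w p

section Orbits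

variable {g : M24} {q : GolayPt} {O O' : Finset GolayPt}

/-- The data attached to an element of order 11: the second fixed point and the two orbits. -/
def Orbits (g : M24) (q : GolayPt) (O O' : Finset GolayPt) : Prop :=
  q ≠ none ∧ g • q = q ∧ Disjoint O O' ∧
    ((Finset.univ : Finset GolayPt).erase none).erase q = O ∪ O' ∧ O.card = 11 ∧ O'.card = 11 ∧
    ∀ f : GolayPt → ℤ, (∀ p, f (g • p) = f p) →
      (∃ c, ∀ p ∈ O, f p = c) ∧ ∃ d, ∀ p ∈ O', f p = d

theorem Orbits.facts (h : Orbits g q O O') :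
    (∀ p, p = none ∨ p = q ∨ p ∈ O ∨ p ∈ O') ∧ (none ∉ O ∧ none ∉ O') ∧ (q ∉ O ∧ q ∉ O') ∧
      O.Nonempty ∧ O'.Nonempty := by
  obtain ⟨hqne, hq, hdis, hpart, hO, hO', hconst⟩ := h
  have hcases : ∀ p, p = none ∨ p = q ∨ p ∈ O ∨ p ∈ O' := by
    intro p
    by_cases hp : p = none
    · exact Or.inl hp
    by_cases hpq : p = q
    · exact Or.inr (Or.inl hpq)
    exact Or.inr (Or.inr (Finset.mem_union.1
      (hpart ▸ Finset.mem_erase.2 ⟨hpq, Finset.mem_erase.2 ⟨hp, Finset.mem_univ _⟩⟩)))
  have hOne : O.Nonempty := Finset.card_pos.1 (by omega)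
  have hO'ne : O'.Nonempty := Finset.card_pos.1 (by omega)
  have hnone : none ∉ O ∧ none ∉ O' := by
    constructor <;> intro h
    · have := Finset.mem_union_left O' h
      rw [← hpart] at this; simp at this
    · have := Finset.mem_union_right O h
      rw [← hpart] at this; simp at this
  have hqO : q ∉ O ∧ q ∉ O' := by
    constructor <;> intro h
    · have := Finset.mem_union_left O' h
      rw [← hpart] at this; simp at this
    · have := Finset.mem_union_right O h
      rw [← hpart] at this; simp at this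
  exact ⟨hcases, hnone, hqO, hOne, hO'ne⟩

theorem Orbits.sum (h : Orbits g q O O') {M : Type} [AddCommMonoid M] (f : GolayPt → M) :
    ∑ p, f p = f none + (f q + (∑ p ∈ O, f p + ∑ p ∈ O', f p)) := by
  obtain ⟨hqne, hq, hdis, hpart, hO, hO', hconst⟩ := h
  rw [← Finset.add_sum_erase _ _ (Finset.mem_univ (none : GolayPt)),
    ← Finset.add_sum_erase _ _ (show q ∈ (Finset.univ : Finset GolayPt).erase none from
      Finset.mem_erase.2 ⟨hqne, Finset.mem_univ _⟩), hpart, Finset.sum_union hdis]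

theorem Orbits.entry (h : Orbits g q O O') : ∀ w, Fixed g w → ∃ c d : ℤ,
    (∀ p ∈ O, coordVec w p = c) ∧ (∀ p ∈ O', coordVec w p = d) ∧
      entryOK (coordVec w none) (coordVec w q) c d = true := by
  obtain ⟨hcases, hnone, hqO, hOne, hO'ne⟩ := h.facts
  have hsum : ∀ {M : Type} [AddCommMonoid M] (f : GolayPt → M),
      ∑ p, f p = f none + (f q + (∑ p ∈ O, f p + ∑ p ∈ O', f p)) := fun f => h.sum f
  obtain ⟨hqne, hq, hdis, hpart, hO, hO', hconst⟩ := h
  rintro w ⟨hn, hinv⟩
  obtain ⟨⟨c, hc⟩, ⟨d, hd⟩⟩ := hconst (coordVec w) hinv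
  refine ⟨c, d, hc, hd, entry_cases ?_⟩
  simp only [entryHyp, decide_eq_true_eq]
  have hpar : ∀ p, coordVec w none % 2 = coordVec w p % 2 := fun p => by
    rcases even_or_odd_coords w with h | h <;> rw [h none, h p]
  refine ⟨?_, hpar q, hc _ hOne.choose_spec ▸ hpar _, hd _ hO'ne.choose_spec ▸ hpar _, ?_, ?_⟩
  · rw [sqNorm, hsum, Finset.sum_congr rfl fun p hp => show coordVec w p ^ 2 = c ^ 2 by rw [hc p hp],
      Finset.sum_congr rfl fun p hp => show coordVec w p ^ 2 = d ^ 2 by rw [hd p hp],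
      Finset.sum_const, Finset.sum_const, hO, hO'] at hn
    simp only [nsmul_eq_mul] at hn
    push_cast at hn
    linarith
  · intro he
    have h8 := CfsgLib.Fischer2.sum_mod_eight w (fun p => by rw [← hpar p]; exact he)
    rw [hsum, Finset.sum_congr rfl hc, Finset.sum_congr rfl hd, Finset.sum_const, Finset.sum_const,
      hO, hO'] at h8
    simp only [nsmul_eq_mul] at h8
    push_cast at h8
    omega
  · have hc2 : (twoSet w).card = (if coordVec w none % 4 = 2 then 1 else 0) +
        (if coordVec w q % 4 = 2 then 1 else 0) + (if c % 4 = 2 then 11 else 0) +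
        (if d % 4 = 2 then 11 else 0) := by
      rw [twoSet, Finset.card_filter, hsum,
        Finset.sum_congr rfl fun p hp => show (if coordVec w p % 4 = 2 then 1 else 0) =
          (if c % 4 = 2 then 1 else 0) by rw [hc p hp],
        Finset.sum_congr rfl fun p hp => show (if coordVec w p % 4 = 2 then 1 else 0) =
          (if d % 4 = 2 then 1 else 0) by rw [hd p hp],
        Finset.sum_const, Finset.sum_const, hO, hO']
      split_ifs <;> simp
    rw [← hc2]
    rcases card_twoSet w with e | e | e | e | e <;> rw [e] <;> decide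

theorem Orbits.shapes (h : Orbits g q O O') (w : leechLattice) (hw : Fixed g w) :
    (|coordVec w none| = 8 → SameLine (axisVec none) w) ∧
      (coordVec w none = 0 → SameLine (axisVec q) w) ∧
      (|coordVec w none| ≠ 8 → coordVec w none ≠ 0 →
        coordVec w q ≠ 0 ∧ ∀ p, p ≠ none → coordVec w p = coordVec w q → p = q) := by
  have main := h.entry
  obtain ⟨hcases, hnone, hqO, hOne, hO'ne⟩ := h.facts
  have hsum : ∀ {M : Type} [AddCommMonoid M] (f : GolayPt → M),
      ∑ p, f p = f none + (f q + (∑ p ∈ O, f p + ∑ p ∈ O', f p)) := fun f => h.sum f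
  obtain ⟨hqne, hq, hdis, hpart, hO, hO', hconst⟩ := h
  obtain ⟨c, d, hc, hd, hok⟩ := main w hw
  simp only [entryOK, decide_eq_true_eq] at hok
  have habs : |coordVec w none| = 8 ↔ (coordVec w none).natAbs = 8 := by
    rw [Int.abs_eq_natAbs]; omega
  refine ⟨fun h8 => ?_, fun h0 => ?_, fun h8 h0 => ⟨by
    have h8' : (coordVec w none).natAbs ≠ 8 := fun e => h8 (habs.2 e)
    omega, fun p hp he => ?_⟩⟩
  · rw [habs] at h8
    have hz : coordVec w q = 0 ∧ c = 0 ∧ d = 0 := by omega
    rcases Int.natAbs_eq_iff.1 h8 with e | e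
    · refine Or.inl (leech_ext fun p => ?_)
      rw [coordVec_axisVec]
      rcases hcases p with rfl | rfl | h | h
      · rw [if_pos rfl, e]; rfl
      · rw [if_neg hqne, hz.1]
      · rw [if_neg (fun (x : p = none) => hnone.1 (x ▸ h)), hc p h, hz.2.1]
      · rw [if_neg (fun (x : p = none) => hnone.2 (x ▸ h)), hd p h, hz.2.2]
    · refine Or.inr (leech_ext fun p => ?_)
      show _ = -coordVec (axisVec none) p
      rw [coordVec_axisVec]
      rcases hcases p with rfl | rfl | h | h
      · rw [if_pos rfl, e]; rfl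
      · rw [if_neg hqne, hz.1, neg_zero]
      · rw [if_neg (fun (x : p = none) => hnone.1 (x ▸ h)), hc p h, hz.2.1, neg_zero]
      · rw [if_neg (fun (x : p = none) => hnone.2 (x ▸ h)), hd p h, hz.2.2, neg_zero]
  · have hz : (coordVec w q).natAbs = 8 ∧ c = 0 ∧ d = 0 := by omega
    rcases Int.natAbs_eq_iff.1 hz.1 with e | e
    · refine Or.inl (leech_ext fun p => ?_)
      rw [coordVec_axisVec]
      rcases hcases p with rfl | rfl | h | h
      · rw [if_neg (Ne.symm hqne), h0]
      · rw [if_pos rfl, e]; rfl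
      · rw [if_neg (fun (x : p = q) => hqO.1 (x ▸ h)), hc p h, hz.2.1]
      · rw [if_neg (fun (x : p = q) => hqO.2 (x ▸ h)), hd p h, hz.2.2]
    · refine Or.inr (leech_ext fun p => ?_)
      show _ = -coordVec (axisVec q) p
      rw [coordVec_axisVec]
      rcases hcases p with rfl | rfl | h | h
      · rw [if_neg (Ne.symm hqne), h0, neg_zero]
      · rw [if_pos rfl, e]; rfl
      · rw [if_neg (fun (x : p = q) => hqO.1 (x ▸ h)), hc p h, hz.2.1, neg_zero]
      · rw [if_neg (fun (x : p = q) => hqO.2 (x ▸ h)), hd p h, hz.2.2, neg_zero]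
  · have h8' : (coordVec w none).natAbs ≠ 8 := fun e => h8 (habs.2 e)
    rcases hcases p with e | e | h | h
    · exact absurd e hp
    · exact e
    · rw [hc p h] at he; omega
    · rw [hd p h] at he; omega

theorem Orbits.unique (h : Orbits g q O O') (w w' : leechLattice) (hw : Fixed g w)
    (hw' : Fixed g w') (e1 : coordVec w none = coordVec w' none)
    (e2 : coordVec w q = coordVec w' q) : w = w' := by
  have main := h.entry
  obtain ⟨hcases, hnone, hqO, hOne, hO'ne⟩ := h.facts
  have hsum : ∀ {M : Type} [AddCommMonoid M] (f : GolayPt → M),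
      ∑ p, f p = f none + (f q + (∑ p ∈ O, f p + ∑ p ∈ O', f p)) := fun f => h.sum f
  obtain ⟨hqne, hq, hdis, hpart, hO, hO', hconst⟩ := h
  obtain ⟨c, d, hc, hd, hok⟩ := main w hw
  obtain ⟨c', d', hc', hd', hok'⟩ := main w' hw'
  simp only [entryOK, decide_eq_true_eq] at hok hok'
  rw [← e1, ← e2] at hok'
  have hsame : (c = c' ∧ d = d') ∨ (c ≠ c' ∧ d ≠ d' ∧ c - c' = d' - d ∧ (c - c').natAbs = 2) := by
    omega
  rcases hsame with ⟨rfl, rfl⟩ | ⟨hne, hne', hcd, h2⟩
  · refine leech_ext fun p => ?_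
    rcases hcases p with rfl | rfl | h | h
    exacts [e1, e2, (hc p h).trans (hc' p h).symm, (hd p h).trans (hd' p h).symm]
  · exfalso
    have hset : twoSet (w - w') = O ∪ O' := by
      ext p
      rw [mem_twoSet, Finset.mem_union]
      show (coordVec w p - coordVec w' p) % 4 = 2 ↔ _
      rcases hcases p with rfl | rfl | h | h
      · rw [e1]; simp [hnone.1, hnone.2]
      · rw [e2]; simp [hqO.1, hqO.2]
      · simp only [h, true_or, iff_true, hc p h, hc' p h]; omega
      · simp only [h, or_true, iff_true, hd p h, hd' p h]; omega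
    have := card_twoSet (w - w')
    rw [hset, Finset.card_union_of_disjoint hdis, hO, hO'] at this
    omega

theorem Orbits.key (h : Orbits g q O O') (w : leechLattice) (hw : Fixed g w) :
    (coordVec w none, coordVec w q) ∈ ({(8, 0), (-8, 0), (0, 8), (0, -8), (2, 4), (2, -4),
      (-2, 4), (-2, -4), (4, 2), (4, -2), (-4, 2), (-4, -2)} : Finset (ℤ × ℤ)) := by
  have main := h.entry
  obtain ⟨c, d, -, -, hok⟩ := main w hw
  simp only [entryOK, decide_eq_true_eq] at hok
  generalize coordVec w none = a at hok ⊢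
  generalize coordVec w q = b at hok ⊢
  rcases hok with ⟨ha, hb, -⟩ | ⟨ha, hb, -⟩ | ⟨ha, hb, -⟩ | ⟨ha, hb, -⟩
  · rcases Int.natAbs_eq_iff.1 ha with rfl | rfl <;> subst hb <;> decide
  · rcases Int.natAbs_eq_iff.1 hb with rfl | rfl <;> subst ha <;> decide
  · rcases Int.natAbs_eq_iff.1 ha with rfl | rfl <;> rcases Int.natAbs_eq_iff.1 hb with rfl | rfl <;>
      decide
  · rcases Int.natAbs_eq_iff.1 ha with rfl | rfl <;> rcases Int.natAbs_eq_iff.1 hb with rfl | rfl <;>
      decide

set_option maxHeartbeats 1000000 in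
theorem Orbits.words (h : Orbits g q O O') (d d' : golayCode)
    (hd : ∀ p, (d : GolayPt → ZMod 2) (g • p) = (d : GolayPt → ZMod 2) p)
    (hd' : ∀ p, (d' : GolayPt → ZMod 2) (g • p) = (d' : GolayPt → ZMod 2) p)
    (he : (d : GolayPt → ZMod 2) none = (d' : GolayPt → ZMod 2) none) :
    d = d' ∨ (∃ c, ∀ p, (d : GolayPt → ZMod 2) p = c) ∨
      ∃ c, ∀ p, (d' : GolayPt → ZMod 2) p = c := by
  obtain ⟨hcases, hnone, hqO, hOne, hO'ne⟩ := h.facts
  have hsum : ∀ {M : Type} [AddCommMonoid M] (f : GolayPt → M),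
      ∑ p, f p = f none + (f q + (∑ p ∈ O, f p + ∑ p ∈ O', f p)) := fun f => h.sum f
  obtain ⟨hqne, hq, hdis, hpart, hO, hO', hconst⟩ := h
  have hbit : ∀ e : golayCode, (∀ p, (e : GolayPt → ZMod 2) (g • p) = (e : GolayPt → ZMod 2) p) →
      ∃ x y, (∀ p ∈ O, (e : GolayPt → ZMod 2) p = x) ∧ ∀ p ∈ O', (e : GolayPt → ZMod 2) p = y := by
    intro e he
    obtain ⟨⟨x, hx⟩, ⟨y, hy⟩⟩ := hconst (fun p => ((e : GolayPt → ZMod 2) p).val)
      (fun p => by rw [he p])
    refine ⟨(x : ZMod 2), (y : ZMod 2), fun p hp => ?_, fun p hp => ?_⟩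
    · rw [← hx p hp]; simp
    · rw [← hy p hp]; simp
  obtain ⟨x, y, hx, hy⟩ := hbit d hd
  obtain ⟨x', y', hx', hy'⟩ := hbit d' hd'
  have hweight : ∀ e : GolayPt → ZMod 2, e ∈ golayCode → ∀ u z : ZMod 2,
      (∀ p ∈ O, e p = u) → (∀ p ∈ O', e p = z) →
      ((if e none = 0 then 0 else 1) + (if e q = 0 then 0 else 1) + (if u = 0 then 0 else 11) +
        (if z = 0 then 0 else 11) : ℕ) ∈ [0, 8, 12, 16, 24] := by
    intro e he u z hu hz
    have hc2 : (support₂ e).card = (if e none = 0 then 0 else 1) +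
        (if e q = 0 then 0 else 1) + (if u = 0 then 0 else 11) + (if z = 0 then 0 else 11) := by
      rw [show support₂ e = Finset.univ.filter fun p => ¬ e p = 0 by ext p; simp [support₂],
        Finset.card_filter, hsum,
        Finset.sum_congr rfl fun p hp => show (if ¬ e p = 0 then 1 else 0) =
          (if u = 0 then 0 else 1) by rw [hu p hp]; split_ifs <;> rfl,
        Finset.sum_congr rfl fun p hp => show (if ¬ e p = 0 then 1 else 0) =
          (if z = 0 then 0 else 1) by rw [hz p hp]; split_ifs <;> rfl,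
        Finset.sum_const, Finset.sum_const, hO, hO']
      split_ifs <;> simp
    rw [← hc2]
    rcases CfsgLib.Leech.card_mem_weights he with h | h | h | h | h <;> rw [h] <;> decide
  have w1 := hweight _ d.2 x y hx hy
  have w2 := hweight _ d'.2 x' y' hx' hy'
  have w3 := hweight _ (d + d').2 (x + x') (y + y')
    (fun p hp => by show (d : GolayPt → ZMod 2) p + (d' : GolayPt → ZMod 2) p = _; rw [hx p hp, hx' p hp])
    (fun p hp => by show (d : GolayPt → ZMod 2) p + (d' : GolayPt → ZMod 2) p = _; rw [hy p hp, hy' p hp])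
  change ((if (d : GolayPt → ZMod 2) none + (d' : GolayPt → ZMod 2) none = 0 then 0 else 1) +
    (if (d : GolayPt → ZMod 2) q + (d' : GolayPt → ZMod 2) q = 0 then 0 else 1) + _ + _ : ℕ) ∈ _
    at w3
  have hkey := word_table
  rw [← he] at w2 w3
  rcases hkey _ _ _ _ _ _ _ w1 w2 w3 with ⟨ha, hb, hc⟩ | ⟨ha, hb, hc⟩ | ⟨ha, hb, hc⟩
  · refine Or.inl (Subtype.ext (funext fun p => ?_))
    rcases hcases p with rfl | rfl | h | h
    exacts [he, ha, by rw [hx p h, hx' p h, hb], by rw [hy p h, hy' p h, hc]]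
  · refine Or.inr (Or.inl ⟨(d : GolayPt → ZMod 2) none, fun p => ?_⟩)
    rcases hcases p with rfl | rfl | h | h
    exacts [rfl, ha, (hx p h).trans hb, (hy p h).trans hc]
  · refine Or.inr (Or.inr ⟨(d : GolayPt → ZMod 2) none, fun p => ?_⟩)
    rcases hcases p with rfl | rfl | h | h
    exacts [he.symm, ha, (hx' p h).trans hb, (hy' p h).trans hc]

end Orbits

theorem fixed_zpowers {g s : M24} {w : GolayPt → ℤ} (h : ∀ p, w (g • p) = w p)
    (hs : s ∈ Subgroup.zpowers g) : ∀ p, w (s • p) = w p := by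
  let H : Subgroup M24 :=
    { carrier := {s | ∀ p, w (s • p) = w p}
      one_mem' := fun p => by rw [one_smul]
      mul_mem' := fun {a b} ha hb p => by rw [mul_smul, ha, hb]
      inv_mem' := fun {a} ha p => by rw [← ha (a⁻¹ • p), smul_inv_smul] }
  exact (Subgroup.zpowers_le.2 (show g ∈ H from h)) hs

theorem fixed_zpowers_word {g s : M24} {d : GolayPt → ZMod 2} (h : ∀ p, d (g • p) = d p)
    (hs : s ∈ Subgroup.zpowers g) : ∀ p, d (s • p) = d p := fun p => by
  have h1 := fixed_zpowers (w := fun p => ((d p).val : ℤ)) (fun p => by rw [h p]) hs p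
  exact ZMod.val_injective 2 (by exact_mod_cast h1)

section Normalizer

variable (R : Subgroup pointStab)

/-- The image of the normaliser inside the point stabiliser. -/
noncomputable abbrev elevenSub : Subgroup Spor.Co1 :=
  (Subgroup.normalizer (R : Set pointStab)).map pointOne

/-- The normaliser of the image. -/
noncomputable abbrev elevenNorm : Subgroup Spor.Co1 :=
  Subgroup.normalizer ((R.map pointOne : Subgroup Spor.Co1) : Set Spor.Co1)

theorem elevenSub_le : elevenSub R ≤ elevenNorm R := by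
  rw [elevenSub, map_normalizer pointOne_injective]
  exact inf_le_left

theorem elevenSub_le_axis : elevenSub R ≤ axisGroup := by
  rintro _ ⟨τ, -, rfl⟩
  exact pointOne_mem_axisGroup τ

variable {R} (hR : Nat.card R = 11)

include hR in
theorem card_elevenSub : Nat.card (elevenSub R) = 55 := by
  rw [Subgroup.card_map_of_injective pointOne_injective, card_normalizer_eleven R hR]

include hR in
theorem exists_generator : ∃ a : pointStab, a ∈ R ∧ R = Subgroup.zpowers a ∧
    orderOf (a : M24) = 11 ∧ (permAut (a : M24)) ^ 11 = 1 ∧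
    R.map pointOne = Subgroup.zpowers (toCoOne (permAut (a : M24))) ∧
    ∃ q O O', Orbits (a : M24) q O O' ∧
      (∀ τ ∈ Subgroup.normalizer (R : Set pointStab),
        (τ : M24)⁻¹ * (a : M24) * (τ : M24) ∈ Subgroup.zpowers (a : M24) ∧ (τ : M24) • q = q) := by
  obtain ⟨⟨a, haR⟩, ha⟩ := exists_prime_orderOf_dvd_card' (G := R) 11 (dvd_of_eq hR.symm)
  have hao : orderOf (a : M24) = 11 := by
    rw [Subgroup.orderOf_coe, ← ha]; exact Subgroup.orderOf_coe ⟨a, haR⟩
  have hgen : R = Subgroup.zpowers a := by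
    refine (Subgroup.eq_of_le_of_card_ge (Subgroup.zpowers_le.2 haR) ?_).symm
    rw [hR, Nat.card_zpowers, ← ha]; exact (Subgroup.orderOf_coe ⟨a, haR⟩).ge
  obtain ⟨q, O, O', h⟩ := two_orbits a.2 hao
  refine ⟨a, haR, hgen, hao, ?_, ?_, q, O, O', h, fun τ hτ => ?_⟩
  · rw [← permHom_apply, ← map_pow, orderOf_dvd_iff_pow_eq_one.1 (dvd_of_eq hao), map_one]
  · rw [hgen, MonoidHom.map_zpowers]; rfl
  · have hm : τ⁻¹ * a * τ ∈ R := by
      have := (Subgroup.mem_normalizer_iff.1 (inv_mem hτ) a).1 haR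
      simpa using this
    rw [hgen] at hm
    obtain ⟨i, hi⟩ := Subgroup.mem_zpowers_iff.1 hm
    have hi' : (a : M24) ^ i = (τ : M24)⁻¹ * (a : M24) * (τ : M24) := by
      rw [← SubgroupClass.coe_zpow, hi]; rfl
    refine ⟨Subgroup.mem_zpowers_iff.2 ⟨i, hi'⟩, ?_⟩
    have hfix : ((τ : M24)⁻¹ * (a : M24) * (τ : M24)) • q = q := by
      have h1 : (a : M24) ^ i ∈ stabilizer M24 q :=
        Subgroup.zpow_mem _ (mem_stabilizer_iff.2 h.2.1) i
      rwa [hi'] at h1
    simp only [mul_smul, inv_smul_eq_iff] at hfix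
    rcases eleven_fixed (Ne.symm h.1) ⟨a.2, h.2.1⟩ hao hfix with e | e
    · exact absurd (MulAction.injective (τ : M24) (e.trans
        (show (τ : M24) • (none : GolayPt) = none from τ.2).symm)) h.1
    · exact e

/-- The normaliser in the point stabiliser fixes every invariant vector. -/
theorem normalizer_fixes {a τ : pointStab} {q : GolayPt} {O O' : Finset GolayPt}
    (hO : Orbits (a : M24) q O O')
    (hτ : (τ : M24)⁻¹ * (a : M24) * (τ : M24) ∈ Subgroup.zpowers (a : M24) ∧ (τ : M24) • q = q)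
    {w : leechLattice} (hw : Fixed (a : M24) w) : permAut (τ : M24) • w = w := by
  have key : ∀ p, coordVec (permAut (τ : M24) • w) p = coordVec w ((τ : M24)⁻¹ • p) := fun p => by
    rw [coordVec_permAut]; rfl
  refine (hO.unique _ _ hw ⟨by rw [sqNorm_smul', hw.1], fun p => ?_⟩ ?_ ?_).symm
  · rw [key, key, show (τ : M24)⁻¹ • (a : M24) • p =
      ((τ : M24)⁻¹ * (a : M24) * (τ : M24)) • (τ : M24)⁻¹ • p by
        rw [mul_smul, mul_smul, smul_inv_smul]]
    exact fixed_zpowers hw.2 hτ.1 _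
  · rw [key, show (τ : M24)⁻¹ • (none : GolayPt) = none from
      inv_smul_eq_iff.2 (show (τ : M24) • (none : GolayPt) = none from τ.2).symm]
  · rw [key, show (τ : M24)⁻¹ • q = q from inv_smul_eq_iff.2 hτ.2.symm]

/-- The image of the axis under an element of the normaliser is invariant. -/
theorem image_fixed {a : pointStab} (ha : (permAut (a : M24)) ^ 11 = 1) {h : Co0}
    (hh : toCoOne h ∈ Subgroup.normalizer (Subgroup.zpowers (toCoOne (permAut (a : M24))) : Set Spor.Co1)) :
    h⁻¹ * permAut (a : M24) * h ∈ Subgroup.zpowers (permAut (a : M24)) ∧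
      Fixed (a : M24) (h • axisVec none) := by
  have hn := lift_normalizes (by norm_num) ha hh
  exact ⟨hn, by rw [sqNorm_smul', sqNorm_axisVec], axis_image_fixed (h := h) a.2 hn⟩

include hR in
/-- An invariant code word which is not constant. -/
theorem exists_word {a : pointStab} (ha : a ∈ R) (hao : orderOf (a : M24) = 11)
    (hgen : R = Subgroup.zpowers a) :
    ∃ d : golayCode, (∀ p, (d : GolayPt → ZMod 2) ((a : M24) • p) = (d : GolayPt → ZMod 2) p) ∧
      (d : GolayPt → ZMod 2) none = 1 ∧ ∀ c, ¬ ∀ p, (d : GolayPt → ZMod 2) p = c := by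
  obtain ⟨hN110, hN55⟩ := CoTwoOut.normalizer_eleven_two R hR
  set N := Subgroup.normalizer
    ((R.map CoTwoOut.pointTwo : Subgroup CoTwoOut.coTwoStd) : Set CoTwoOut.coTwoStd) with hN
  obtain ⟨u, huN, huM⟩ : ∃ u ∈ N, u ∉ CoTwoOut.pointTwo.range := by
    by_contra hne
    push Not at hne
    rw [inf_eq_left.2 hne] at hN55
    omega
  have hm : u⁻¹ * CoTwoOut.pointTwo a * u ∈ R.map CoTwoOut.pointTwo := by
    have := (Subgroup.mem_normalizer_iff.1 (inv_mem huN) (CoTwoOut.pointTwo a)).1 ⟨_, ha, rfl⟩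
    simpa using this
  rw [hgen, MonoidHom.map_zpowers] at hm
  obtain ⟨q, O, O', hqne, -, -, -, -, -, hcl⟩ := CoTwoOut.classify_eleven_two a.2 hao
  have hfix := axis_image_fixed (σ := (a : M24)) a.2 (permAut_mem_zpowers_of_val hm)
  rcases hcl _ (CoTwoOut.axis_image_two u).1 (CoTwoOut.axis_image_two u).2 hfix with e | ⟨h2, h4, -⟩
  · exact absurd (CoTwoOut.axis_stab_two e) huM
  set w := (u : Co0) • axisVec none with hw
  refine ⟨⟨_, CfsgLib.Leech.mem_supports_iff.1 (twoSet_mem w)⟩, fun p => ?_, ?_, fun c hc => ?_⟩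
  · show (if (a : M24) • p ∈ twoSet w then (1 : ZMod 2) else 0) = if p ∈ twoSet w then 1 else 0
    refine if_congr ?_ rfl rfl
    rw [mem_twoSet, mem_twoSet, hfix p]
  · exact if_pos (mem_twoSet.2 (by rw [h2]; rfl))
  · have e1 := hc none
    have e2 := hc q
    change (if none ∈ twoSet w then (1 : ZMod 2) else 0) = c at e1
    change (if q ∈ twoSet w then (1 : ZMod 2) else 0) = c at e2
    rw [if_pos (mem_twoSet.2 (by rw [h2]; rfl))] at e1
    rw [if_neg (fun h => by have := mem_twoSet.1 h; rw [h4] at this; norm_num at this)] at e2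
    exact one_ne_zero (e1.trans e2.symm)

/-- Elements of the axis group normalising the image, in monomial form. -/
theorem exists_form {a : pointStab} (hgen : R = Subgroup.zpowers a)
    (hpow : (permAut (a : M24)) ^ 11 = 1) {k : Spor.Co1} (hk : k ∈ elevenNorm R ⊓ axisGroup) :
    ∃ (d : golayCode) (σ : pointStab), σ ∈ Subgroup.normalizer (R : Set pointStab) ∧
      (∀ p, (d : GolayPt → ZMod 2) ((a : M24) • p) = (d : GolayPt → ZMod 2) p) ∧
      k = toCoOne (monoAut d (σ : M24)) := by
  obtain ⟨hkN, h, hh, rfl⟩ := Subgroup.mem_inf.1 hk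
  rw [elevenNorm, hgen, MonoidHom.map_zpowers] at hkN
  obtain ⟨d, σ, hσ, rfl⟩ := exists_mono_lineStab hh
  obtain ⟨hconj, hinv⟩ := mono_normalizes (image_fixed hpow hkN).1
  refine ⟨d, ⟨σ, hσ⟩, ?_, hinv, rfl⟩
  set s : pointStab := ⟨σ, hσ⟩ with hs
  obtain ⟨i, hi⟩ := Subgroup.mem_zpowers_iff.1 hconj
  have hmap : R.map (MulAut.conj s⁻¹ : pointStab →* pointStab) = R := by
    refine Subgroup.eq_of_le_of_card_ge ?_ (Subgroup.card_map_of_injective
      (MulAut.conj s⁻¹).injective).ge
    rw [hgen, MonoidHom.map_zpowers, Subgroup.zpowers_le]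
    refine Subgroup.mem_zpowers_iff.2 ⟨i, Subtype.ext ?_⟩
    show ((a ^ i : pointStab) : M24) = ((s⁻¹ * a * s⁻¹⁻¹ : pointStab) : M24)
    rw [SubgroupClass.coe_zpow, hi, inv_inv]
    rfl
  refine inv_mem_iff.1 (Subgroup.mem_normalizer_iff.2 fun r => ⟨fun hr => ?_, fun hr => ?_⟩)
  · exact hmap.le ⟨r, hr, rfl⟩
  · obtain ⟨x, hx, e⟩ := hmap.ge hr
    rwa [← (MulAut.conj s⁻¹).injective (a₁ := x) (a₂ := r) e]

theorem signAut_commute {d : golayCode} {σ : M24}
    (h : ∀ p, (d : GolayPt → ZMod 2) ((σ : Equiv.Perm GolayPt).symm p) = (d : GolayPt → ZMod 2) p) :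
    Commute (signAut d) (permAut σ) := by
  rw [Commute, SemiconjBy, permAut_mul_signAut]
  congr 2
  exact Subtype.ext (funext fun p => (h p).symm)

/-- The image of a permutation of the normaliser keeps an invariant word. -/
theorem word_cases {a : pointStab} {q : GolayPt} {O O' : Finset GolayPt}
    (hO : Orbits (a : M24) q O O') {d : golayCode}
    (hd : ∀ p, (d : GolayPt → ZMod 2) ((a : M24) • p) = (d : GolayPt → ZMod 2) p) {σ : pointStab}
    (hσ : (σ : M24)⁻¹ * (a : M24) * (σ : M24) ∈ Subgroup.zpowers (a : M24)) :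
    (d = 0 ∨ d = oneWord) ∨ Commute (signAut d) (permAut (σ : M24)) := by
  let d' : golayCode := ⟨fun p => (d : GolayPt → ZMod 2) (((σ : M24) : Equiv.Perm GolayPt).symm p),
    comp_mem_golayCode (M24.inv_mem (σ : M24).2) d.2⟩
  have hd' : ∀ p, (d' : GolayPt → ZMod 2) ((a : M24) • p) = (d' : GolayPt → ZMod 2) p := fun p => by
    show (d : GolayPt → ZMod 2) ((σ : M24)⁻¹ • (a : M24) • p) =
      (d : GolayPt → ZMod 2) ((σ : M24)⁻¹ • p)
    rw [show (σ : M24)⁻¹ • (a : M24) • p =
      ((σ : M24)⁻¹ * (a : M24) * (σ : M24)) • (σ : M24)⁻¹ • p by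
        rw [mul_smul, mul_smul, smul_inv_smul]]
    exact fixed_zpowers_word hd hσ _
  have hnone : (d' : GolayPt → ZMod 2) none = (d : GolayPt → ZMod 2) none := by
    show (d : GolayPt → ZMod 2) ((σ : M24)⁻¹ • (none : GolayPt)) = _
    rw [show (σ : M24)⁻¹ • (none : GolayPt) = none from
      inv_smul_eq_iff.2 (show (σ : M24) • (none : GolayPt) = none from σ.2).symm]
  rcases hO.words d' d hd' hd hnone with e | ⟨c, hc⟩ | ⟨c, hc⟩
  · exact Or.inr (signAut_commute fun p => congrFun (congrArg Subtype.val e) p)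
  · refine Or.inl (code_const_cases (c := c) fun p => ?_)
    have := hc ((σ : M24) • p)
    rwa [show (d' : GolayPt → ZMod 2) ((σ : M24) • p) = (d : GolayPt → ZMod 2) p from
      congrArg _ (Equiv.symm_apply_apply _ _)] at this
  · exact Or.inl (code_const_cases hc)

theorem signAut_sq (d : golayCode) : signAut d * signAut d = 1 := by
  rw [signAut_mul, show d + d = 0 from Subtype.ext (funext fun i => CharTwo.add_self_eq_zero _),
    signAut_zero]

include hR in
theorem pow_normalizer_eq_one {σ : pointStab} (hσ : σ ∈ Subgroup.normalizer (R : Set pointStab)) :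
    σ ^ 55 = 1 := by
  have h : (⟨σ, hσ⟩ : Subgroup.normalizer (R : Set pointStab)) ^ 55 = 1 :=
    card_normalizer_eleven R hR ▸ pow_card_eq_one'
  exact congrArg Subtype.val h

include hR in
theorem mem_elevenSub_of_pow {k : Spor.Co1} (hk : k ∈ elevenNorm R ⊓ axisGroup)
    (h55 : k ^ 55 = 1) : k ∈ elevenSub R := by
  obtain ⟨a, ha, hgen, hao, hpow, -, q, O, O', hO, hnorm⟩ := exists_generator hR
  obtain ⟨d, σ, hσ, hinv, rfl⟩ := exists_form hgen hpow hk
  rcases word_cases hO hinv (hnorm σ hσ).1 with h | h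
  · rw [toCoOne_mono_const h]
    exact ⟨σ, hσ, rfl⟩
  · have h1 : toCoOne (signAut d) = 1 := by
      rw [monoAut, map_mul, (h.map toCoOne).mul_pow, ← map_pow, ← map_pow,
        show (55 : ℕ) = 2 * 27 + 1 from rfl, pow_succ, pow_mul, pow_two, signAut_sq, one_pow,
        one_mul, show 2 * 27 + 1 = 55 from rfl, ← permHom_apply, ← map_pow,
        ← SubgroupClass.coe_pow, pow_normalizer_eq_one hR hσ, OneMemClass.coe_one, map_one,
        map_one, mul_one] at h55
      exact h55
    rw [monoAut, map_mul, h1, one_mul]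
    exact ⟨σ, hσ, rfl⟩

include hR in
theorem inter_facts : Nat.card (elevenNorm R ⊓ axisGroup : Subgroup Spor.Co1) = 110 ∧
    ∃ d : golayCode, toCoOne (signAut d) ∈ elevenNorm R ∧ toCoOne (signAut d) ∉ elevenSub R ∧
      (d : GolayPt → ZMod 2) none = 1 ∧
      (∀ c, ¬ ∀ p, (d : GolayPt → ZMod 2) p = c) ∧
      (∀ τ ∈ Subgroup.normalizer (R : Set pointStab),
        Commute (toCoOne (signAut d)) (pointOne τ)) ∧
      ∀ k ∈ elevenNorm R ⊓ axisGroup,
        k ∈ elevenSub R ∨ toCoOne (signAut d) * k ∈ elevenSub R := by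
  obtain ⟨a, ha, hgen, hao, hpow, hmap, q, O, O', hO, hnorm⟩ := exists_generator hR
  obtain ⟨d, hd, hd1, hdc⟩ := exists_word hR ha hao hgen
  set e := toCoOne (signAut d) with he
  have hcomm : ∀ τ ∈ Subgroup.normalizer (R : Set pointStab), Commute e (pointOne τ) := fun τ hτ => by
    rcases word_cases hO hd (hnorm τ hτ).1 with h | h
    · rcases h with h | h
      · exact absurd (fun p => congrFun (congrArg Subtype.val h) p) (hdc 0)
      · exact absurd (fun p => congrFun (congrArg Subtype.val h) p) (hdc 1)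
    · exact h.map toCoOne
  have heN : e ∈ elevenNorm R := by
    refine Subgroup.mem_normalizer_iff.2 fun r => ?_
    have hc : ∀ r ∈ R.map pointOne, e * r * e⁻¹ = r := by
      rintro _ ⟨τ, hτ, rfl⟩
      rw [(hcomm τ (Subgroup.le_normalizer hτ)).eq, mul_inv_cancel_right]
    refine ⟨fun hr => (hc r hr).symm ▸ hr, fun hr => ?_⟩
    have h1 := hc _ hr
    have h2 : e * r * e⁻¹ = r := mul_left_cancel (a := e) (mul_right_cancel (b := e⁻¹) h1)
    rwa [h2] at hr
  have heB : e ∈ axisGroup := by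
    rw [he, mem_axisGroup, signAut_eq_monoAut]
    exact monoAut_mem_lineStab d rfl
  have henot : e ∉ elevenSub R := by
    rintro ⟨τ, -, hτ⟩
    have hh : toCoOne (permAut (τ : M24)) = toCoOne (signAut d) := hτ
    rw [permAut_eq_monoAut, signAut_eq_monoAut, toCoOne_eq, monoAut_neg, add_zero] at hh
    rcases hh with h | h
    · exact hdc 0 fun p => congrFun (congrArg Subtype.val (monomial_unique h).1) p
    · exact hdc 1 fun p => congrFun (congrArg Subtype.val (monomial_unique h).1) p
  have hsplit : ∀ k ∈ elevenNorm R ⊓ axisGroup, k ∈ elevenSub R ∨ e * k ∈ elevenSub R := by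
    intro k hk
    obtain ⟨d', σ, hσ, hinv, rfl⟩ := exists_form hgen hpow hk
    have main : ∀ d'' : golayCode,
        (∀ p, (d'' : GolayPt → ZMod 2) ((a : M24) • p) = (d'' : GolayPt → ZMod 2) p) →
        (d'' : GolayPt → ZMod 2) none = 1 →
        toCoOne (monoAut d'' (σ : M24)) ∈ elevenSub R ∨
          e * toCoOne (monoAut d'' (σ : M24)) ∈ elevenSub R := by
      intro d'' hd'' h1
      rcases hO.words d'' d hd'' hd (h1.trans hd1.symm) with h | ⟨c, hc⟩ | ⟨c, hc⟩
      · right
        rw [he, h, monoAut, ← map_mul, ← mul_assoc, signAut_sq, one_mul]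
        exact ⟨σ, hσ, rfl⟩
      · left
        rw [toCoOne_mono_const (code_const_cases hc)]
        exact ⟨σ, hσ, rfl⟩
      · exact absurd hc (hdc c)
    rcases CfsgLib.Leech.zmod2_cases ((d' : GolayPt → ZMod 2) none) with h0 | h0
    · have h := main (oneWord + d') (fun p => congrArg (fun x => (1 : ZMod 2) + x) (hinv p))
        (show (1 : ZMod 2) + (d' : GolayPt → ZMod 2) none = 1 by rw [h0, add_zero])
      rwa [← monoAut_neg, map_mul, toCoOne_negAut, one_mul] at h
    · exact main d' hinv h0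
  refine ⟨?_, d, heN, henot, hd1, hdc, hcomm, hsplit⟩
  have hle : elevenSub R ≤ elevenNorm R ⊓ axisGroup := le_inf (elevenSub_le R) (elevenSub_le_axis R)
  have hidx : ((elevenSub R).subgroupOf (elevenNorm R ⊓ axisGroup)).index = 2 := by
    refine Subgroup.index_eq_two_iff.2 ⟨⟨e, Subgroup.mem_inf.2 ⟨heN, heB⟩⟩, fun b => ?_⟩
    simp only [Subgroup.mem_subgroupOf, Subgroup.coe_mul]
    rcases hsplit b b.2 with hb | hb
    · exact Or.inr ⟨hb, fun h => henot ((mul_mem_cancel_left hb).1 h)⟩
    · obtain ⟨τ, hτ, hτe⟩ := hb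
      have hee : e * e = 1 := by rw [he, ← map_mul, signAut_sq, map_one]
      have hbe : (b : Spor.Co1) * e = pointOne τ := by
        rw [show (b : Spor.Co1) = e * pointOne τ by rw [hτe, ← mul_assoc, hee, one_mul],
          mul_assoc, ← (hcomm τ hτ).eq, ← mul_assoc, hee, one_mul]
      refine Or.inl ⟨hbe ▸ Subgroup.mem_map_of_mem _ hτ, fun h => henot ?_⟩
      have h2 : (b : Spor.Co1)⁻¹ * (b * e) ∈ elevenSub R :=
        mul_mem (inv_mem h) (hbe ▸ Subgroup.mem_map_of_mem _ hτ)
      rwa [inv_mul_cancel_left] at h2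
  have h := ((elevenSub R).subgroupOf (elevenNorm R ⊓ axisGroup)).index_mul_card
  rw [hidx, Nat.card_congr (Subgroup.subgroupOfEquivOfLe hle).toEquiv, card_elevenSub hR] at h
  exact h.symm

include hR in
theorem card_elevenNorm : Nat.card (elevenNorm R) = 660 := by
  have := finite_Co0
  obtain ⟨a, ha, hgen, hao, hpow, hmap, q, O, O', hO, hnorm⟩ := exists_generator hR
  set H := (elevenNorm R).comap toCoOne with hH
  let W : Set leechLattice := orbit H (axisVec none)
  have hfix : ∀ w ∈ W, Fixed (a : M24) w := by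
    rintro _ ⟨⟨h, hh⟩, rfl⟩
    refine (image_fixed hpow ?_).2
    rw [hH, Subgroup.mem_comap, elevenNorm, hmap] at hh
    exact hh
  have hW : W.ncard ≤ 12 := by
    refine le_trans (Set.ncard_le_ncard_of_injOn
      (t := (({(8, 0), (-8, 0), (0, 8), (0, -8), (2, 4), (2, -4), (-2, 4), (-2, -4), (4, 2), (4, -2),
        (-4, 2), (-4, -2)} : Finset (ℤ × ℤ)) : Set (ℤ × ℤ)))
      (fun w => (coordVec w none, coordVec w q)) (fun w hw => hO.key w (hfix w hw))
      (fun w hw w' hw' e => hO.unique w w' (hfix w hw) (hfix w' hw') (congrArg Prod.fst e)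
        (congrArg Prod.snd e))) ?_
    rw [Set.ncard_coe_finset]
    decide
  have hneg : negAut ∈ H := by
    rw [hH, Subgroup.mem_comap, toCoOne_negAut]
    exact one_mem _
  have hW2 : 2 ≤ W.ncard := by
    have hsub : ({axisVec none, -axisVec none} : Set leechLattice) ⊆ W := by
      rintro w (rfl | rfl)
      · exact mem_orbit_self _
      · exact ⟨⟨negAut, hneg⟩, negAut_apply _⟩
    have hne : axisVec none ≠ -axisVec none := fun h => by
      have := congrArg (fun v => coordVec v none) h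
      change coordVec (axisVec none) none = -coordVec (axisVec none) none at this
      rw [coordVec_axisVec, if_pos rfl] at this
      norm_num at this
    have := Set.ncard_le_ncard hsub (Set.finite_range _)
    rwa [Set.ncard_pair hne] at this
  have hst : Nat.card (stabilizer H (axisVec none)) = 110 := by
    rw [← (inter_facts hR).1]
    refine Nat.card_eq_of_bijective (fun h => (⟨toCoOne ((h : H) : Co0), Subgroup.mem_inf.2
      ⟨(h : H).2, mem_axisGroup.2 (Or.inl h.2)⟩⟩ : (elevenNorm R ⊓ axisGroup : Subgroup Spor.Co1)))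
      ⟨fun h h' e => ?_, fun k => ?_⟩
    · rcases toCoOne_eq.1 (congrArg Subtype.val e) with e' | e'
      · exact Subtype.ext (Subtype.ext e'.symm)
      · exfalso
        have h1 : ((h : H) : Co0) • axisVec none = axisVec none := h.2
        have h2 : ((h' : H) : Co0) • axisVec none = axisVec none := h'.2
        rw [e', mul_smul, h1, negAut_apply] at h2
        have := congrArg (fun v => coordVec v none) h2
        change -coordVec (axisVec none) none = coordVec (axisVec none) none at this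
        rw [coordVec_axisVec, if_pos rfl] at this
        norm_num at this
    · obtain ⟨hkN, h, hh, e⟩ := Subgroup.mem_inf.1 k.2
      have hhH : h ∈ H := by rw [hH, Subgroup.mem_comap, e]; exact hkN
      rcases hh with h1 | h1
      · exact ⟨⟨⟨h, hhH⟩, h1⟩, Subtype.ext e⟩
      · refine ⟨⟨⟨negAut * h, mul_mem hneg hhH⟩, ?_⟩, Subtype.ext ?_⟩
        · show (negAut * h) • axisVec none = axisVec none
          rw [mul_smul, h1, negAut_apply, neg_neg]
        · show toCoOne (negAut * h) = _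
          rw [map_mul, toCoOne_negAut, one_mul, e]
  have hidx := (stabilizer H (axisVec none)).index_mul_card
  rw [index_stabilizer, hst] at hidx
  change W.ncard * 110 = _ at hidx
  have hH2 : Nat.card H = 2 * Nat.card (elevenNorm R) := by
    have h1 := H.index_mul_card
    rw [hH, Subgroup.index_comap_of_surjective _ toCoOne_surjective, ← hH, natCard_Co0] at h1
    have h2 := (elevenNorm R).index_mul_card
    rw [natCard_coOne] at h2
    have hpos : 0 < (elevenNorm R).index :=
      Nat.pos_of_ne_zero Subgroup.index_ne_zero_of_finite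
    refine Nat.eq_of_mul_eq_mul_left hpos ?_
    rw [h1, mul_left_comm, h2]; norm_num
  have hR' : Nat.card (R.map pointOne) = 11 := by
    rw [Subgroup.card_map_of_injective pointOne_injective, hR]
  obtain ⟨-, n, hn, hmul⟩ := sylow_arith hR' (by rw [natCard_coOne]; norm_num)
  have hN : Nat.card (elevenNorm R) = W.ncard * 55 := by omega
  rw [natCard_coOne] at hmul
  change n * Nat.card (elevenNorm R) = _ at hmul
  rw [hN] at hmul ⊢
  have hall : ∀ s ∈ Finset.Icc 2 12, s ≠ 12 →
      ¬ ((4157776806543360000 : ℕ) % (s * 55) = 0 ∧ 4157776806543360000 / (s * 55) % 11 = 1) := by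
    decide +kernel
  by_contra hne
  have h1 : (4157776806543360000 : ℕ) % (W.ncard * 55) = 0 := by rw [← hmul, Nat.mul_mod_left]
  have h2 : (4157776806543360000 : ℕ) / (W.ncard * 55) = n := by
    rw [← hmul, Nat.mul_div_cancel _ (by omega)]
  exact hall _ (Finset.mem_Icc.2 ⟨hW2, hW⟩) (fun h => hne (by rw [h])) ⟨h1, h2 ▸ hn⟩

include hR in
theorem elevenSub_normal {k x : Spor.Co1} (hk : k ∈ elevenNorm R) (hx : x ∈ elevenSub R) :
    k⁻¹ * x * k ∈ elevenSub R := by
  obtain ⟨a, ha, hgen, hao, hpow, hmap, q, O, O', hO, hnorm⟩ := exists_generator hR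
  obtain ⟨τ, hτ, rfl⟩ := hx
  obtain ⟨h, rfl⟩ := toCoOne_surjective k
  have hk' := hk
  rw [elevenNorm, hmap] at hk'
  have hw := (image_fixed hpow hk').2
  have hfix := normalizer_fixes hO (hnorm τ hτ) hw
  refine mem_elevenSub_of_pow hR (Subgroup.mem_inf.2
    ⟨mul_mem (mul_mem (inv_mem hk) (elevenSub_le R ⟨τ, hτ, rfl⟩)) hk, ?_⟩) ?_
  · rw [pointOne_apply, ← map_inv, ← map_mul, ← map_mul, mem_axisGroup]
    refine Or.inl ?_
    rw [mul_smul, mul_smul, hfix, inv_smul_smul]
  · rw [show (toCoOne h)⁻¹ * pointOne τ * toCoOne h =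
      (toCoOne h)⁻¹ * pointOne τ * (toCoOne h)⁻¹⁻¹ by rw [inv_inv], conj_pow, ← map_pow,
      pow_normalizer_eq_one hR hτ, map_one, mul_one, mul_inv_cancel]

include hR in
/-- The subgroup of order 55 consists of all solutions of `x ^ 55 = 1` in the normaliser. -/
theorem mem_elevenSub {x : Spor.Co1} :
    x ∈ elevenSub R ↔ x ∈ elevenNorm R ∧ x ^ 55 = 1 := by
  constructor
  · rintro ⟨τ, hτ, rfl⟩
    exact ⟨elevenSub_le R ⟨τ, hτ, rfl⟩, by rw [← map_pow, pow_normalizer_eq_one hR hτ, map_one]⟩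
  · rintro ⟨hx, h55⟩
    set E := (elevenSub R).subgroupOf (elevenNorm R) with hE
    have hnor : E.Normal := ⟨fun y hy g => by
      rw [hE, Subgroup.mem_subgroupOf] at hy ⊢
      have := elevenSub_normal hR (inv_mem g.2) hy
      simpa using this⟩
    have hidx : E.index = 12 := by
      have h := E.index_mul_card
      rw [hE, Nat.card_congr (Subgroup.subgroupOfEquivOfLe (elevenSub_le R)).toEquiv,
        card_elevenSub hR, card_elevenNorm hR, ← hE] at h
      omega
    have h1 := Subgroup.pow_mem _ (Subgroup.pow_index_mem E (⟨x, hx⟩ : elevenNorm R)) 23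
    rw [hidx, ← pow_mul, show 12 * 23 = 55 * 5 + 1 from rfl, pow_succ, pow_mul, hE,
      Subgroup.mem_subgroupOf, Subgroup.coe_mul, SubgroupClass.coe_pow, SubgroupClass.coe_pow,
      h55, one_pow, one_mul] at h1
    exact h1

end Normalizer

end CfsgLib.Mathieu.CoOneOut
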