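import Cfsg.Prelude.Def_KGroupFacts
import Cfsg.Agent.Lib.GolayStructure.ConwaySimple
import Cfsg.Agent.Lib.GolayStructure.IndexM22
import Cfsg.Agent.Lib.OutMathieu.Outer
import Cfsg.Agent.Lib.OutMathieu.CertM23
import Cfsg.Agent.Lib.Jordan.MathieuSylowBounds

/-!
The point stabiliser inside the stabiliser of a vector of squared length 48: normalisers of the
subgroups of orders 23 and 11, the vectors fixed by an element of order 11, and generation.
-/

set_option autoImplicit false

namespace CfsgLib.Mathieu.CoThreeOut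

open MulAction Cfsg CfsgLib.GolayStructure CfsgLib.Leech CfsgLib.Fischer2
open scoped Pointwise Classical

local instance fact_prime_eleven_co : Fact (Nat.Prime 11) := ⟨by norm_num⟩
local instance fact_prime_twentythree_co : Fact (Nat.Prime 23) := ⟨by norm_num⟩

/-- The point stabiliser of the code group. -/
abbrev pointStab : Subgroup M24 := stabilizer M24 (none : GolayPt)

theorem card_pointStab : Nat.card pointStab = 10200960 := CfsgLib.Golay.card_stabilizer_point _

/-- A Sylow subgroup of prime order: the number of subgroups times the normaliser order. -/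
theorem sylow_arith {G : Type*} [Group G] [Finite G] {p : ℕ} [hp : Fact p.Prime] {R : Subgroup G}
    (hR : Nat.card R = p) (h2 : ¬ p * p ∣ Nat.card G) :
    p ∣ Nat.card (Subgroup.normalizer (R : Set G)) ∧
      ∃ n, n % p = 1 ∧ n * Nat.card (Subgroup.normalizer (R : Set G)) = Nat.card G := by
  refine ⟨(dvd_of_eq hR.symm).trans (Subgroup.card_dvd_of_le Subgroup.le_normalizer), ?_⟩
  obtain ⟨P, hP⟩ := (IsPGroup.of_card (n := 1) (hR.trans (pow_one p).symm) :
    IsPGroup p R).exists_le_sylow
  obtain ⟨k, hk⟩ := IsPGroup.iff_card.1 P.isPGroup'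
  have hk1 : k ≤ 1 := by
    by_contra hlt
    refine h2 (dvd_trans ?_ ((P : Subgroup G).card_subgroup_dvd_card))
    rw [hk, ← sq]
    exact pow_dvd_pow p (by omega)
  have hPR : R = (P : Subgroup G) := Subgroup.eq_of_le_of_card_ge hP (by
    rw [hR, hk]; exact (Nat.pow_le_pow_right hp.out.pos hk1).trans_eq (pow_one p))
  refine ⟨Nat.card (Sylow p G), ?_, ?_⟩
  · have := card_sylow_modEq_one p G
    rwa [Nat.ModEq, Nat.mod_eq_of_lt hp.out.one_lt] at this
  · rw [hPR, P.card_eq_index_normalizer]
    exact Subgroup.index_mul_card _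

/-- Two Sylow subgroups of prime order are conjugate. -/
theorem exists_conj_eq {G : Type*} [Group G] [Finite G] {p : ℕ} [hp : Fact p.Prime]
    {R R' : Subgroup G} (hR : Nat.card R = p) (hR' : Nat.card R' = p) (h2 : ¬ p * p ∣ Nat.card G) :
    ∃ g : G, R.map (MulAut.conj g : G →* G) = R' := by
  have key : ∀ S : Subgroup G, Nat.card S = p → ∃ P : Sylow p G, (P : Subgroup G) = S := by
    intro S hS
    obtain ⟨P, hP⟩ := (IsPGroup.of_card (n := 1) (hS.trans (pow_one p).symm) :
      IsPGroup p S).exists_le_sylow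
    obtain ⟨k, hk⟩ := IsPGroup.iff_card.1 P.isPGroup'
    refine ⟨P, (Subgroup.eq_of_le_of_card_ge hP ?_).symm⟩
    have hk1 : k ≤ 1 := by
      by_contra hlt
      refine h2 (dvd_trans ?_ ((P : Subgroup G).card_subgroup_dvd_card))
      rw [hk, ← sq]
      exact pow_dvd_pow p (by omega)
    rw [hS, hk]
    exact (Nat.pow_le_pow_right hp.out.pos hk1).trans_eq (pow_one p)
  obtain ⟨P, rfl⟩ := key R hR
  obtain ⟨P', rfl⟩ := key R' hR'
  obtain ⟨g, rfl⟩ := exists_smul_eq G P P'
  exact ⟨g, rfl⟩

/-! ### Inside the point stabiliser -/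

/-- The shift as an element of the point stabiliser. -/
noncomputable def shiftPt : pointStab := ⟨shiftOne, shiftOne_none⟩

theorem orderOf_shiftPt : orderOf shiftPt = 23 := by
  rw [← Subgroup.orderOf_coe]
  refine orderOf_eq_prime shiftOne_pow fun h => ?_
  have h1 : (some 1 : GolayPt) = some 0 := by
    have h2 := shiftOne_some 0
    rw [show (shiftOne : M24) = 1 from h, zero_add] at h2
    exact h2.symm
  exact some_one_ne h1

theorem commute_shift {τ : M24} (hc : τ * shiftOne = shiftOne * τ)
    (hτ : (τ : Equiv.Perm GolayPt) none = none) : ∃ n : ℕ, τ = shiftOne ^ n := by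
  have hpow : ∀ (n : ℕ) (i : ZMod 23),
      ((shiftOne ^ n : M24) : Equiv.Perm GolayPt) (some i) = some (i + n) := by
    intro n
    induction n with
    | zero => intro i; simp
    | succ n ih =>
      intro i
      rw [pow_succ']
      show (shiftOne : Equiv.Perm GolayPt) (((shiftOne ^ n : M24) : Equiv.Perm GolayPt) (some i)) = _
      rw [ih, shiftOne_some]
      push_cast
      rw [add_assoc]
  have hnone : ∀ n : ℕ, ((shiftOne ^ n : M24) : Equiv.Perm GolayPt) none = none := by
    intro n
    induction n with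
    | zero => simp
    | succ n ih =>
      rw [pow_succ']
      show (shiftOne : Equiv.Perm GolayPt) (((shiftOne ^ n : M24) : Equiv.Perm GolayPt) none) = _
      rw [ih, shiftOne_none]
  obtain ⟨z, hz⟩ : ∃ z : ZMod 23, (τ : Equiv.Perm GolayPt) (some 0) = some z := by
    cases h : (τ : Equiv.Perm GolayPt) (some 0) with
    | none => exact absurd ((τ : Equiv.Perm GolayPt).injective (h.trans hτ.symm)) (by simp)
    | some z => exact ⟨z, rfl⟩
  refine ⟨z.val, Subtype.ext (Equiv.ext fun p => ?_)⟩
  rcases p with _ | i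
  · exact hτ.trans (hnone _).symm
  · have hc' : Commute τ (shiftOne ^ i.val) := Commute.pow_right hc _
    have h1 := congrArg (fun σ : M24 => (σ : Equiv.Perm GolayPt) (some 0)) hc'.eq
    change (τ : Equiv.Perm GolayPt) (((shiftOne ^ i.val : M24) : Equiv.Perm GolayPt) (some 0)) =
      ((shiftOne ^ i.val : M24) : Equiv.Perm GolayPt) ((τ : Equiv.Perm GolayPt) (some 0)) at h1
    rw [hpow, hz, hpow, zero_add, ZMod.natCast_zmod_val] at h1
    rw [h1, hpow, ZMod.natCast_zmod_val, add_comm]

theorem card_normalizer_shift :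
    Nat.card (Subgroup.normalizer ((Subgroup.zpowers shiftPt : Subgroup pointStab) : Set pointStab))
      = 253 := by
  have hR : Nat.card (Subgroup.zpowers shiftPt) = 23 := by rw [Nat.card_zpowers, orderOf_shiftPt]
  have hd : Nat.card (Subgroup.normalizer
      ((Subgroup.zpowers shiftPt : Subgroup pointStab) : Set pointStab)) ∣ 22 * 23 := by
    refine (Jordan.MathieuCent.card_normalizer_dvd (by norm_num : Nat.Prime 23) _ hR).trans
      (Nat.mul_dvd_mul_left _ ?_)
    refine (Subgroup.card_dvd_of_le fun τ hτ => ?_).trans (dvd_of_eq hR)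
    have hc := Subgroup.mem_centralizer_iff.1 hτ shiftPt (Subgroup.mem_zpowers _)
    obtain ⟨n, hn⟩ := commute_shift (τ := (τ : M24)) (congrArg Subtype.val hc).symm τ.2
    exact Subgroup.mem_zpowers_iff.2 ⟨n, Subtype.ext (by rw [zpow_natCast]; exact hn.symm)⟩
  obtain ⟨h23, n, hn, hmul⟩ := sylow_arith hR (by rw [card_pointStab]; norm_num)
  rw [card_pointStab] at hmul
  generalize Nat.card (Subgroup.normalizer
    ((Subgroup.zpowers shiftPt : Subgroup pointStab) : Set pointStab)) = m at hd h23 hmul ⊢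
  obtain ⟨j, rfl⟩ := h23
  have hj : j ∈ Nat.divisors 22 := Nat.mem_divisors.2
    ⟨Nat.dvd_of_mul_dvd_mul_left (by norm_num : 0 < 23) (by rwa [mul_comm 22] at hd), by norm_num⟩
  rw [show Nat.divisors 22 = {1, 2, 11, 22} by decide +kernel] at hj
  simp only [Finset.mem_insert, Finset.mem_singleton] at hj
  rcases hj with rfl | rfl | rfl | rfl <;> omega

/-- An element of order 11 fixing `none` has one further fixed point and two further orbits. -/
theorem two_orbits {g : M24} (hg : g ∈ pointStab) (ho : orderOf g = 11) :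
    ∃ (q : GolayPt) (O O' : Finset GolayPt), q ≠ none ∧ g • q = q ∧ Disjoint O O' ∧
      ((Finset.univ : Finset GolayPt).erase none).erase q = O ∪ O' ∧ O.card = 11 ∧ O'.card = 11 ∧
      ∀ f : GolayPt → ℤ, (∀ p, f (g • p) = f p) →
        (∃ c, ∀ p ∈ O, f p = c) ∧ ∃ d, ∀ p ∈ O', f p = d := by
  have h2 := fixed_card (p := 11) (r := 2) (Or.inr (Or.inr ⟨rfl, rfl⟩)) ho
  obtain ⟨q, hq, hqne⟩ := Finset.exists_mem_ne
    (s := Finset.univ.filter fun x : GolayPt => g • x = x) (by rw [h2]; norm_num) none
  simp only [Finset.mem_filter, Finset.mem_univ, true_and] at hq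
  have hfix : ∀ z, g • z = z → z = none ∨ z = q := fun z =>
    eleven_fixed (Ne.symm hqne) ⟨hg, hq⟩ ho
  set E := ((Finset.univ : Finset GolayPt).erase none).erase q with hE
  have horb : ∀ y ∈ E, (subOrb (Subgroup.zpowers g) y).card = 11 ∧
      subOrb (Subgroup.zpowers g) y ⊆ E := by
    intro y hy
    simp only [hE, Finset.mem_erase, Finset.mem_univ, and_true] at hy
    refine ⟨?_, fun z hz => ?_⟩
    · have h := card_subOrb_dvd (Subgroup.zpowers g) y
      rw [Nat.card_zpowers, ho, Nat.dvd_prime (by norm_num)] at h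
      refine h.resolve_left fun h1 => ?_
      have h3 : g • y = y := Finset.card_le_one.1 h1.le _
        (mem_subOrb.2 ⟨g, Subgroup.mem_zpowers g, rfl⟩) _ (self_mem_subOrb _ _)
      rcases hfix y h3 with e | e
      exacts [hy.2 e, hy.1 e]
    · obtain ⟨h, hh, rfl⟩ := mem_subOrb.1 hz
      have hh' : h ∈ stabilizer M24 (none : GolayPt) ⊓ stabilizer M24 q :=
        (Subgroup.zpowers_le.2 (show g ∈ stabilizer M24 (none : GolayPt) ⊓ stabilizer M24 q from
          ⟨hg, hq⟩)) hh
      simp only [hE, Finset.mem_erase, Finset.mem_univ, and_true]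
      exact ⟨fun e => hy.1 (MulAction.injective h (e.trans hh'.2.symm)),
        fun e => hy.2 (MulAction.injective h (e.trans hh'.1.symm))⟩
  have hEc : E.card = 22 := by
    rw [hE, Finset.card_erase_of_mem (Finset.mem_erase.2 ⟨hqne, Finset.mem_univ _⟩),
      Finset.card_erase_of_mem (Finset.mem_univ _), card_univ_golayPt]
  obtain ⟨x, hx⟩ := Finset.card_pos.1 (by rw [hEc]; norm_num : 0 < E.card)
  obtain ⟨hO, hOE⟩ := horb x hx
  set O := subOrb (Subgroup.zpowers g) x with hOdef
  set O' := E \ O with hO'def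
  have hO' : O'.card = 11 := by rw [hO'def, Finset.card_sdiff_of_subset hOE, hEc, hO]
  refine ⟨q, O, O', hqne, hq, Finset.disjoint_sdiff, (Finset.union_sdiff_of_subset hOE).symm, hO,
    hO', fun f hf => ?_⟩
  have hconst : ∀ y, ∀ z ∈ subOrb (Subgroup.zpowers g) y, f z = f y := by
    intro y z hz
    obtain ⟨h, hh, rfl⟩ := mem_subOrb.1 hz
    have hpow : ∀ n : ℕ, f (g ^ n • y) = f y := by
      intro n
      induction n with
      | zero => rw [pow_zero, one_smul]
      | succ n ih => rw [pow_succ', mul_smul, hf, ih]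
    obtain ⟨n, rfl⟩ := mem_powers_iff_mem_zpowers.2 hh
    exact hpow n
  refine ⟨⟨f x, fun p hp => hconst x p hp⟩, ?_⟩
  obtain ⟨y, hy⟩ := Finset.card_pos.1 (by rw [hO']; norm_num : 0 < O'.card)
  obtain ⟨hyE, hyO⟩ := Finset.mem_sdiff.1 hy
  have heq : subOrb (Subgroup.zpowers g) y = O' := by
    refine Finset.eq_of_subset_of_card_le (fun z hz => Finset.mem_sdiff.2 ⟨(horb y hyE).2 hz,
      fun hzO => hyO ?_⟩) (by rw [hO', (horb y hyE).1])
    rw [hOdef, ← subOrb_eq_of_mem (H := Subgroup.zpowers g) (x := x) hzO,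
      subOrb_eq_of_mem (H := Subgroup.zpowers g) (x := y) hz]
    exact self_mem_subOrb _ _
  exact ⟨f y, fun p hp => hconst y p (heq ▸ hp)⟩

theorem card_normalizer_eleven (R : Subgroup pointStab) (hR : Nat.card R = 11) :
    Nat.card (Subgroup.normalizer (R : Set pointStab)) = 55 := by
  obtain ⟨a, ha⟩ := exists_prime_orderOf_dvd_card' (G := R) 11 (dvd_of_eq hR.symm)
  have hao : orderOf ((a : pointStab) : M24) = 11 := by
    rw [Subgroup.orderOf_coe, Subgroup.orderOf_coe, ha]
  obtain ⟨q, -, -, hqne, hq, -⟩ := two_orbits (a : pointStab).2 hao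
  -- the normaliser fixes the second fixed point
  have hfixq : ∀ w ∈ Subgroup.normalizer (R : Set pointStab), (w : M24) • q = q := by
    intro w hw
    have hm : w⁻¹ * (a : pointStab) * w ∈ R := by
      have := (Subgroup.mem_normalizer_iff.1 (inv_mem hw) (a : pointStab)).1 a.2
      simpa using this
    have hgen : R = Subgroup.zpowers (a : pointStab) := by
      refine (Subgroup.eq_of_le_of_card_ge (Subgroup.zpowers_le.2 a.2) ?_).symm
      rw [hR, Nat.card_zpowers, Subgroup.orderOf_coe, ha]
    have hcq : ((w⁻¹ * (a : pointStab) * w : pointStab) : M24) • q = q := by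
      obtain ⟨i, hi⟩ := Subgroup.mem_zpowers_iff.1 (hgen.le hm)
      have h1 : ((a : pointStab) : M24) ^ i ∈ stabilizer M24 q :=
        Subgroup.zpow_mem _ (mem_stabilizer_iff.2 hq) i
      have h2 := congrArg (fun z : pointStab => (z : M24)) hi
      simp only [SubgroupClass.coe_zpow] at h2
      rw [h2] at h1
      exact h1
    simp only [Subgroup.coe_mul, Subgroup.coe_inv, mul_smul, inv_smul_eq_iff] at hcq
    rcases eleven_fixed (Ne.symm hqne) ⟨(a : pointStab).2, hq⟩ hao hcq with e | e
    · exact absurd (MulAction.injective (w : M24) (e.trans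
        (show (w : M24) • (none : GolayPt) = none from w.2).symm)) hqne
    · exact e
  set N := Subgroup.normalizer (R : Set pointStab) with hN
  set H : Subgroup M24 := N.map pointStab.subtype with hH
  have hRN : R ≤ N := Subgroup.le_normalizer
  let ι : N →* H := (pointStab.subtype.comp N.subtype).codRestrict H fun w => ⟨w, w.2, rfl⟩
  have hι : Function.Injective ι := fun u v e => Subtype.ext (Subtype.ext (congrArg Subtype.val e :))
  have hιs : Function.Surjective ι := by
    rintro ⟨_, w, hw, rfl⟩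
    exact ⟨⟨w, hw⟩, rfl⟩
  set R' : Subgroup H := (R.subgroupOf N).map ι with hR'
  have hR'c : Nat.card R' = 11 := by
    rw [hR', Subgroup.card_map_of_injective hι,
      Nat.card_congr (Subgroup.subgroupOfEquivOfLe hRN).toEquiv, hR]
  have hnorm : Nat.card (Subgroup.normalizer (R' : Set H)) = Nat.card N := by
    have : (R.subgroupOf N).Normal := Subgroup.normal_in_normalizer
    have : R'.Normal := Subgroup.Normal.map this ι hιs
    rw [Subgroup.normalizer_eq_top, Subgroup.card_top, hH,
      Subgroup.card_map_of_injective pointStab.subtype_injective]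
  have hd := card_normalizer_eleven_dvd (H := H) (Ne.symm hqne)
    (by rintro _ ⟨w, hw, rfl⟩; exact ⟨w.2, hfixq w hw⟩) (by
      rw [hH, Subgroup.card_map_of_injective pointStab.subtype_injective]
      intro h
      have h' := h.trans N.card_subgroup_dvd_card
      rw [card_pointStab] at h'
      norm_num at h') R' hR'c
  rw [hnorm] at hd
  obtain ⟨h11, n, hn, hmul⟩ := sylow_arith hR (by rw [card_pointStab]; norm_num)
  rw [card_pointStab, ← hN] at hmul
  rw [← hN] at h11
  generalize Nat.card N = m at hd h11 hmul ⊢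
  obtain ⟨j, rfl⟩ := h11
  have hj : j ∈ Nat.divisors 20 :=
    Nat.mem_divisors.2 ⟨Nat.dvd_of_mul_dvd_mul_left (by norm_num : 0 < 11) hd, by norm_num⟩
  rw [show Nat.divisors 20 = {1, 2, 4, 5, 10, 20} by decide +kernel] at hj
  simp only [Finset.mem_insert, Finset.mem_singleton] at hj
  rcases hj with rfl | rfl | rfl | rfl | rfl | rfl <;> omega

/-- The two normalisers generate the point stabiliser. -/
theorem eq_top_of_normalizers {L : Subgroup pointStab} {R : Subgroup pointStab}
    (hR : Nat.card R = 11) (h23 : Subgroup.normalizer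
      ((Subgroup.zpowers shiftPt : Subgroup pointStab) : Set pointStab) ≤ L)
    (h11 : Subgroup.normalizer (R : Set pointStab) ≤ L) : L = ⊤ := by
  have key : ∀ (p : ℕ) (_ : Fact p.Prime) (Q : Subgroup pointStab), Nat.card Q = p →
      ¬ p * p ∣ Nat.card pointStab → Subgroup.normalizer (Q : Set pointStab) ≤ L →
      ∃ n, n % p = 1 ∧ n * Nat.card (Subgroup.normalizer (Q : Set pointStab)) = Nat.card L := by
    intro p _ Q hQ h2 hle
    have hQL : Q ≤ L := Subgroup.le_normalizer.trans hle
    obtain ⟨-, n, hn, hmul⟩ := sylow_arith (R := Q.subgroupOf L)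
      (by rw [Nat.card_congr (Subgroup.subgroupOfEquivOfLe hQL).toEquiv, hQ])
      (fun h => h2 (h.trans L.card_subgroup_dvd_card))
    refine ⟨n, hn, ?_⟩
    rw [← hmul, ← Subgroup.subgroupOf_normalizer_eq hQL,
      Nat.card_congr (Subgroup.subgroupOfEquivOfLe hle).toEquiv]
  obtain ⟨n, hn, hn'⟩ := key 23 inferInstance (Subgroup.zpowers shiftPt)
    (by rw [Nat.card_zpowers, orderOf_shiftPt]) (by rw [card_pointStab]; norm_num) h23
  obtain ⟨k, hk, hk'⟩ := key 11 inferInstance R hR (by rw [card_pointStab]; norm_num) h11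
  rw [card_normalizer_shift] at hn'
  rw [card_normalizer_eleven R hR] at hk'
  have hL := L.card_subgroup_dvd_card
  rw [card_pointStab, ← hn', show (10200960 : ℕ) = 40320 * 253 by norm_num] at hL
  have hn0 : n ∣ 40320 := Nat.dvd_of_mul_dvd_mul_right (by norm_num : 0 < 253) hL
  have hall : ∀ n ∈ Nat.divisors 40320, n % 23 = 1 → 5 ∣ n → (n / 5 * 23) % 11 = 1 → n = 40320 := by
    decide +kernel
  refine Subgroup.eq_top_of_card_eq _ ?_
  have := hall n (Nat.mem_divisors.2 ⟨hn0, by norm_num⟩) hn (by omega) (by omega)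
  rw [← hn', card_pointStab, this]

/-! ### Vectors fixed by an element of order 11 -/

/-- Norm 64 vectors in the relation 40 to `vecU` fixed by an element of order 11. -/
theorem classify_eleven {g : M24} (hg : g ∈ pointStab) (ho : orderOf g = 11) :
    ∃ (q : GolayPt) (O O' : Finset GolayPt), q ≠ none ∧ g • q = q ∧ Disjoint O O' ∧
      ((Finset.univ : Finset GolayPt).erase none).erase q = O ∪ O' ∧ O.card = 11 ∧ O'.card = 11 ∧
      ∀ w : leechLattice, sqNorm (coordVec w) = 64 → dotInt (coordVec vecU) (coordVec w) = 40 →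
        (∀ p, coordVec w (g • p) = coordVec w p) →
          (w = axisVec none ∨ (coordVec w none = 4 ∧ coordVec w q = -2 ∧
            (((∀ p ∈ O, coordVec w p = 2) ∧ ∀ p ∈ O', coordVec w p = 0) ∨
              ((∀ p ∈ O, coordVec w p = 0) ∧ ∀ p ∈ O', coordVec w p = 2)))) := by
  obtain ⟨q, O, O', hqne, hq, hdis, hpart, hO, hO', hconst⟩ := two_orbits hg ho
  refine ⟨q, O, O', hqne, hq, hdis, hpart, hO, hO', fun w hn hd hinv => ?_⟩
  obtain ⟨⟨c, hc⟩, ⟨d, hd'⟩⟩ := hconst (coordVec w) hinv
  have hsum : ∀ f : GolayPt → ℤ,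
      ∑ p, f p = f none + (f q + (∑ p ∈ O, f p + ∑ p ∈ O', f p)) := by
    intro f
    rw [← Finset.add_sum_erase _ _ (Finset.mem_univ (none : GolayPt)),
      ← Finset.add_sum_erase _ _ (show q ∈ (Finset.univ : Finset GolayPt).erase none from
        Finset.mem_erase.2 ⟨hqne, Finset.mem_univ _⟩), hpart, Finset.sum_union hdis]
  have hU : 5 * coordVec w none + (coordVec w q + (11 * c + 11 * d)) = 40 := by
    rw [dot_vecU, ← Finset.add_sum_erase _ _ (show q ∈ (Finset.univ : Finset GolayPt).erase none from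
      Finset.mem_erase.2 ⟨hqne, Finset.mem_univ _⟩), hpart, Finset.sum_union hdis,
      Finset.sum_congr rfl hc, Finset.sum_congr rfl hd', Finset.sum_const, Finset.sum_const, hO,
      hO'] at hd
    simpa using hd
  have hN : coordVec w none ^ 2 + (coordVec w q ^ 2 + (11 * c ^ 2 + 11 * d ^ 2)) = 64 := by
    rw [sqNorm, hsum, Finset.sum_congr rfl fun p hp => show coordVec w p ^ 2 = c ^ 2 by rw [hc p hp],
      Finset.sum_congr rfl fun p hp => show coordVec w p ^ 2 = d ^ 2 by rw [hd' p hp],
      Finset.sum_const, Finset.sum_const, hO, hO'] at hn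
    simpa using hn
  generalize ha : coordVec w none = a at hU hN
  generalize hb : coordVec w q = b at hU hN
  have ha' : -8 ≤ a ∧ a ≤ 8 := by constructor <;> nlinarith
  have hc' : -2 ≤ c ∧ c ≤ 2 := by constructor <;> nlinarith
  have hd'' : -2 ≤ d ∧ d ≤ 2 := by constructor <;> nlinarith
  have hb' : b = 40 - 5 * a - 11 * c - 11 * d := by omega
  subst hb'
  obtain ⟨h1, h2⟩ := ha'
  obtain ⟨h3, h4⟩ := hc'
  obtain ⟨h5, h6⟩ := hd''
  have hsol : (a = 8 ∧ c = 0 ∧ d = 0) ∨ (a = 4 ∧ ((c = 2 ∧ d = 0) ∨ (c = 0 ∧ d = 2))) := by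
    interval_cases c <;> interval_cases d <;> interval_cases a <;> first | (norm_num at hN; done) | norm_num
  rcases hsol with ⟨rfl, rfl, rfl⟩ | ⟨rfl, ⟨rfl, rfl⟩ | ⟨rfl, rfl⟩⟩
  · left
    refine leech_ext fun p => ?_
    rw [coordVec_axisVec]
    by_cases hp : p = none
    · rw [if_pos hp, hp, ha]
    rw [if_neg hp]
    by_cases hpq : p = q
    · rw [hpq, hb]; norm_num
    have : p ∈ O ∪ O' := hpart ▸ Finset.mem_erase.2 ⟨hpq, Finset.mem_erase.2 ⟨hp, Finset.mem_univ _⟩⟩
    rcases Finset.mem_union.1 this with h | h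
    exacts [hc p h, hd' p h]
  · exact Or.inr ⟨rfl, by norm_num, Or.inl ⟨hc, hd'⟩⟩
  · exact Or.inr ⟨rfl, by norm_num, Or.inr ⟨hc, hd'⟩⟩

end CfsgLib.Mathieu.CoThreeOut
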