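import Cfsg.Prelude.Def_Spor_Conway
import Cfsg.Prelude.Def_Spor_Mathieu
import Cfsg.Agent.Lib.Mathieu.CoThreeBasic

/-!
Every automorphism of the third Conway group is inner.
-/

set_option autoImplicit false

namespace CfsgLib.Mathieu.CoThreeOut

open MulAction Cfsg CfsgLib.GolayStructure CfsgLib.Leech CfsgLib.Fischer2
open scoped Pointwise Classical

local instance fact_prime_eleven_cm : Fact (Nat.Prime 11) := ⟨by norm_num⟩
local instance fact_prime_twentythree_cm : Fact (Nat.Prime 23) := ⟨by norm_num⟩

theorem map_normalizer {A G : Type*} [Group A] [Group G] {f : A →* G} (hf : Function.Injective f)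
    (R : Subgroup A) :
    (Subgroup.normalizer (R : Set A)).map f =
      Subgroup.normalizer ((R.map f : Subgroup G) : Set G) ⊓ f.range := by
  ext x
  simp only [Subgroup.mem_map, Subgroup.mem_inf, MonoidHom.mem_range]
  constructor
  · rintro ⟨a, ha, rfl⟩
    refine ⟨Subgroup.mem_normalizer_iff.2 fun y => ⟨?_, ?_⟩, a, rfl⟩
    · rintro ⟨r, hr, rfl⟩
      exact ⟨a * r * a⁻¹, (Subgroup.mem_normalizer_iff.1 ha r).1 hr, by simp⟩
    · rintro ⟨r, hr, he⟩
      have hr' := (Subgroup.mem_normalizer_iff.1 (inv_mem ha) r).1 hr
      refine ⟨a⁻¹ * r * a⁻¹⁻¹, hr', ?_⟩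
      simp only [map_mul, map_inv, inv_inv, he]
      group
  · rintro ⟨hx, a, rfl⟩
    refine ⟨a, Subgroup.mem_normalizer_iff.2 fun r => ?_, rfl⟩
    rw [← Subgroup.mem_map_iff_mem hf (K := R), ← Subgroup.mem_map_iff_mem hf (K := R),
      map_mul, map_mul, map_inv]
    exact Subgroup.mem_normalizer_iff.1 hx (f r)

theorem map_normalizer_equiv {G : Type*} [Group G] (e : G ≃* G) (R : Subgroup G) :
    (Subgroup.normalizer (R : Set G)).map (e : G →* G) =
      Subgroup.normalizer ((R.map (e : G →* G) : Subgroup G) : Set G) := by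
  rw [map_normalizer (f := (e : G →* G)) e.injective,
    MonoidHom.range_eq_top.2 e.surjective, inf_top_eq]

/-- The image of the point stabiliser. -/
noncomputable abbrev pointRange : Subgroup coThreeGroup := pointHom.range

/-- The point stabiliser is isomorphic to its image. -/
noncomputable def pointEquiv : pointStab ≃* pointRange := MonoidHom.ofInjective pointHom_injective

theorem card_pointRange : Nat.card pointRange = 10200960 :=
  (Nat.card_congr pointEquiv.toEquiv).symm.trans card_pointStab

/-- The subgroup of order 23. -/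
noncomputable def shiftGroup : Subgroup coThreeGroup := (Subgroup.zpowers shiftPt).map pointHom

theorem card_shiftGroup : Nat.card shiftGroup = 23 := by
  rw [shiftGroup, Subgroup.card_map_of_injective pointHom_injective, Nat.card_zpowers, orderOf_shiftPt]

theorem shiftGroup_eq : shiftGroup = Subgroup.zpowers (pointHom shiftPt) :=
  MonoidHom.map_zpowers pointHom shiftPt

theorem normalizer_shiftGroup_le :
    Subgroup.normalizer (shiftGroup : Set coThreeGroup) ≤ pointRange := by
  intro h hh
  have h1 : h⁻¹ * pointHom shiftPt * h ∈ shiftGroup := by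
    have h2 : pointHom shiftPt ∈ shiftGroup := shiftGroup_eq ▸ Subgroup.mem_zpowers _
    have := (Subgroup.mem_normalizer_iff.1 (inv_mem hh) (pointHom shiftPt)).1 h2
    simpa using this
  rw [shiftGroup_eq] at h1
  obtain ⟨σ, hσ, e⟩ := coThree_normalizer h.2 (permAut_mem_zpowers_of_val h1)
  exact ⟨⟨σ, hσ⟩, Subtype.ext e.symm⟩

theorem normalizer_shiftGroup : Subgroup.normalizer (shiftGroup : Set coThreeGroup) =
    (Subgroup.normalizer ((Subgroup.zpowers shiftPt : Subgroup pointStab) : Set pointStab)).map
      pointHom := by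
  rw [map_normalizer pointHom_injective]
  exact (inf_eq_left.2 normalizer_shiftGroup_le).symm

theorem card_normalizer_shiftGroup :
    Nat.card (Subgroup.normalizer (shiftGroup : Set coThreeGroup)) = 253 := by
  rw [normalizer_shiftGroup, Subgroup.card_map_of_injective pointHom_injective,
    card_normalizer_shift]

theorem axis_stab {h : coThreeGroup} (hh : (h : Co0) • axisVec none = axisVec none) :
    h ∈ pointRange := by
  have h8 : coordVec ((h : Co0) • axisVec none) none = 8 := by
    rw [hh, coordVec_axisVec, if_pos rfl]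
  obtain ⟨σ, hσ, e⟩ := mono_fix_vecU (mem_monoGroup_of_axis h8) h.2
  exact ⟨⟨σ, hσ⟩, Subtype.ext e.symm⟩

theorem point_fix_axis {h : coThreeGroup} (hh : h ∈ pointRange) :
    (h : Co0) • axisVec none = axisVec none := by
  obtain ⟨τ, rfl⟩ := hh
  refine leech_ext fun p => ?_
  show coordVec (permAut (τ : M24) • axisVec none) p = _
  rw [coordVec_permAut, coordVec_axisVec, coordVec_axisVec]
  have hiff : ((τ : M24) : Equiv.Perm GolayPt).symm p = none ↔ p = none := by
    rw [Equiv.symm_apply_eq,
      show ((τ : M24) : Equiv.Perm GolayPt) none = none from τ.2]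
  exact if_congr hiff rfl rfl

theorem axis_image (h : coThreeGroup) :
    sqNorm (coordVec ((h : Co0) • axisVec none)) = 64 ∧
      dotInt (coordVec vecU) (coordVec ((h : Co0) • axisVec none)) = 40 := by
  refine ⟨by rw [sqNorm_smul', sqNorm_axisVec], ?_⟩
  rw [dot_axis_image (h := (h : Co0)) h.2, coordVec_vecU, if_pos rfl]
  norm_num

section Eleven

variable (R : Subgroup pointStab) (hR : Nat.card R = 11)

include hR in
/-- The normaliser of a subgroup of order 11 of the point stabiliser. -/
theorem normalizer_eleven_facts :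
    Nat.card (Subgroup.normalizer ((R.map pointHom : Subgroup coThreeGroup) : Set coThreeGroup))
        = 110 ∧
      Nat.card (Subgroup.normalizer ((R.map pointHom : Subgroup coThreeGroup) : Set coThreeGroup)
          ⊓ pointRange : Subgroup coThreeGroup) = 55 := by
  have := finite_Co0
  set N := Subgroup.normalizer ((R.map pointHom : Subgroup coThreeGroup) : Set coThreeGroup) with hN
  have hNM : Nat.card (N ⊓ pointRange : Subgroup coThreeGroup) = 55 := by
    rw [hN, ← map_normalizer pointHom_injective, Subgroup.card_map_of_injective pointHom_injective,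
      card_normalizer_eleven R hR]
  refine ⟨?_, hNM⟩
  obtain ⟨a, ha⟩ := exists_prime_orderOf_dvd_card' (G := R) 11 (dvd_of_eq hR.symm)
  have hao : orderOf ((a : pointStab) : M24) = 11 := by
    rw [Subgroup.orderOf_coe, Subgroup.orderOf_coe, ha]
  obtain ⟨q, O, O', hqne, -, hdis, hpart, -, hO', hcl⟩ := classify_eleven (a : pointStab).2 hao
  -- the orbit of the axis under the normaliser
  let W : Set leechLattice := orbit N (axisVec none)
  have hWinv : ∀ w ∈ W, ∀ p, coordVec w (((a : pointStab) : M24) • p) = coordVec w p := by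
    rintro _ ⟨⟨h, hh⟩, rfl⟩ p
    have hm : h⁻¹ * pointHom (a : pointStab) * h ∈ R.map pointHom := by
      have := (Subgroup.mem_normalizer_iff.1 (inv_mem hh) (pointHom (a : pointStab))).1 ⟨_, a.2, rfl⟩
      simpa using this
    have hgen : R.map pointHom = Subgroup.zpowers (pointHom (a : pointStab)) := by
      rw [← MonoidHom.map_zpowers]
      congr 1
      refine (Subgroup.eq_of_le_of_card_ge (Subgroup.zpowers_le.2 a.2) ?_).symm
      rw [hR, Nat.card_zpowers, Subgroup.orderOf_coe, ha]
    exact axis_image_fixed (σ := ((a : pointStab) : M24)) (a : pointStab).2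
      (permAut_mem_zpowers_of_val (hgen.le hm)) p
  have hW : W.ncard ≤ 3 := by
    refine le_trans (Set.ncard_le_ncard_of_injOn
      (t := ({(8, 0), (4, 2), (4, 0)} : Set (ℤ × ℤ)))
      (fun w => (coordVec w none, if h : O.Nonempty then coordVec w h.choose else 0)) ?_ ?_) ?_
    · intro w hw
      obtain ⟨⟨h, hh⟩, rfl⟩ := id hw
      rcases hcl _ (axis_image h).1 (axis_image h).2 (hWinv _ hw) with e | ⟨e4, -, he⟩
      · change ((h : Co0) • axisVec none : leechLattice) = _ at e
        show ((coordVec ((h : Co0) • axisVec none) none,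
          if hne : O.Nonempty then coordVec ((h : Co0) • axisVec none) hne.choose else 0) : ℤ × ℤ) ∈ _
        rw [e]
        split_ifs with hne
        · have hne' : hne.choose ≠ none := fun e' => by
            have := Finset.mem_union_left O' hne.choose_spec
            rw [← hpart, e'] at this
            simp at this
          simp [coordVec_axisVec, hne']
        · simp [coordVec_axisVec]
      · show ((coordVec ((h : Co0) • axisVec none) none,
          if hne : O.Nonempty then coordVec ((h : Co0) • axisVec none) hne.choose else 0) : ℤ × ℤ) ∈ _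
        rw [e4]
        split_ifs with hne
        · rcases he with ⟨h1, -⟩ | ⟨h1, -⟩ <;> rw [h1 _ hne.choose_spec] <;> simp
        · simp
    · intro w hw w' hw' he
      simp only [Prod.mk.injEq] at he
      obtain ⟨⟨h, hh⟩, rfl⟩ := id hw
      obtain ⟨⟨h', hh'⟩, rfl⟩ := id hw'
      obtain ⟨he1, he2⟩ := he
      rcases hcl _ (axis_image h).1 (axis_image h).2 (hWinv _ hw) with e | ⟨e4, eq, e⟩ <;>
        rcases hcl _ (axis_image h').1 (axis_image h').2 (hWinv _ hw') with e' | ⟨e4', eq', e'⟩
      · exact e.trans e'.symm
      · exfalso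
        have h8 : coordVec ((h : Co0) • axisVec none) none = 8 := by
          rw [e, coordVec_axisVec, if_pos rfl]
        have : (8 : ℤ) = 4 := h8.symm.trans (he1.trans e4')
        norm_num at this
      · exfalso
        have h8 : coordVec ((h' : Co0) • axisVec none) none = 8 := by
          rw [e', coordVec_axisVec, if_pos rfl]
        have : (4 : ℤ) = 8 := e4.symm.trans (he1.trans h8)
        norm_num at this
      · have hne : O.Nonempty := by
          rw [Finset.nonempty_iff_ne_empty]
          intro h0
          have hc := congrArg Finset.card hpart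
          rw [h0, Finset.empty_union, hO', Finset.card_erase_of_mem (Finset.mem_erase.2
            ⟨hqne, Finset.mem_univ _⟩), Finset.card_erase_of_mem (Finset.mem_univ _),
            card_univ_golayPt] at hc
          norm_num at hc
        rw [dif_pos hne, dif_pos hne] at he2
        change coordVec ((h : Co0) • axisVec none) _ = coordVec ((h' : Co0) • axisVec none) _ at he2
        refine leech_ext fun p => ?_
        show coordVec ((h : Co0) • axisVec none) p = coordVec ((h' : Co0) • axisVec none) p
        by_cases hp : p = none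
        · rw [hp]; exact e4.trans e4'.symm
        by_cases hpq : p = q
        · rw [hpq]; exact eq.trans eq'.symm
        have hm : p ∈ O ∪ O' :=
          hpart ▸ Finset.mem_erase.2 ⟨hpq, Finset.mem_erase.2 ⟨hp, Finset.mem_univ _⟩⟩
        rcases e with ⟨a1, a2⟩ | ⟨a1, a2⟩ <;> rcases e' with ⟨b1, b2⟩ | ⟨b1, b2⟩ <;>
          rw [a1 _ hne.choose_spec, b1 _ hne.choose_spec] at he2 <;>
          first
          | (norm_num at he2; done)
          | (rcases Finset.mem_union.1 hm with h0 | h0
             · exact (a1 p h0).trans (b1 p h0).symm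
             · exact (a2 p h0).trans (b2 p h0).symm)
    · exact (Set.ncard_insert_le _ _).trans (Nat.succ_le_succ ((Set.ncard_insert_le _ _).trans
        (by rw [Set.ncard_singleton])))
  have hidx := (stabilizer N (axisVec none)).index_mul_card
  rw [index_stabilizer] at hidx
  have hst : Nat.card (stabilizer N (axisVec none)) = 55 := by
    rw [← hNM]
    refine Nat.card_congr
      { toFun := fun h => ⟨(h : N), Subgroup.mem_inf.2 ⟨(h : N).2, axis_stab h.2⟩⟩
        invFun := fun h => ⟨⟨h, (Subgroup.mem_inf.1 h.2).1⟩, point_fix_axis (Subgroup.mem_inf.1 h.2).2⟩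
        left_inv := fun h => rfl
        right_inv := fun h => rfl }
  rw [hst] at hidx
  change W.ncard * 55 = Nat.card N at hidx
  have hR' : Nat.card (R.map pointHom) = 11 := by
    rw [Subgroup.card_map_of_injective pointHom_injective, hR]
  obtain ⟨-, n, hn, hmul⟩ := sylow_arith hR' (by rw [natCard_coThreeGroup]; norm_num)
  rw [natCard_coThreeGroup, ← hN] at hmul
  rw [← hidx] at hmul ⊢
  have hpos : 0 < W.ncard := by
    rcases Nat.eq_zero_or_pos W.ncard with h | h
    · rw [h, zero_mul] at hidx
      exact absurd hidx.symm Nat.card_pos.ne'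
    · exact h
  interval_cases W.ncard <;> omega

end Eleven

/-- No subgroup of order `|M24|` contains the point stabiliser. -/
theorem index_ne_24 {L : Subgroup coThreeGroup} (hM : pointRange ≤ L) :
    Nat.card L ≠ 10200960 * 24 := by
  have := finite_Co0
  intro hL
  let W : Set leechLattice := orbit L (axisVec none)
  have hfin : W.Finite := Set.finite_range _
  have hst : Nat.card (stabilizer L (axisVec none)) = 10200960 := by
    rw [← card_pointRange]
    exact Nat.card_congr
      { toFun := fun h => ⟨(h : L), axis_stab h.2⟩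
        invFun := fun h => ⟨⟨h, hM h.2⟩, point_fix_axis h.2⟩
        left_inv := fun h => rfl
        right_inv := fun h => rfl }
  have hW24 : W.ncard = 24 := by
    have h := (stabilizer L (axisVec none)).index_mul_card
    rw [index_stabilizer, hst, hL] at h
    change W.ncard * 10200960 = _ at h
    omega
  have hfac : ∀ w ∈ W, sqNorm (coordVec w) = 64 ∧ dotInt (coordVec vecU) (coordVec w) = 40 := by
    rintro _ ⟨⟨h, hh⟩, rfl⟩
    exact axis_image h
  set S := hfin.toFinset with hS
  have hSc : S.card = 24 := by rw [hS, ← Set.ncard_eq_toFinset_card W hfin, hW24]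
  have hmemS : ∀ w, w ∈ S ↔ w ∈ W := fun w => hfin.mem_toFinset
  have haxis : axisVec none ∈ S := (hmemS _).2 (mem_orbit_self _)
  have hSinv : ∀ h ∈ L, ∀ w ∈ S, (h : Co0) • w ∈ S := by
    intro h hh w hw
    rw [hmemS] at hw ⊢
    exact mem_orbit_of_mem_orbit (⟨h, hh⟩ : L) hw
  -- the shift has no further fixed vectors
  set g : coThreeGroup := pointHom shiftPt with hg
  have hgL : g ∈ L := hM ⟨_, rfl⟩
  have hnofix : ∀ w ∈ S, (g : Co0) • w = w → w = axisVec none := by
    intro w hw hfix
    obtain ⟨hn, hd⟩ := hfac w ((hmemS w).1 hw)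
    have hshift : ∀ i : ZMod 23, coordVec w (some (i + 1)) = coordVec w (some i) := fun i => by
      have h1 := congrArg (fun v => coordVec v (some (i + 1))) hfix
      change coordVec (permAut shiftOne • w) (some (i + 1)) = _ at h1
      rw [coordVec_permAut] at h1
      rw [show (shiftOne : Equiv.Perm GolayPt).symm (some (i + 1)) = some i from
        (Equiv.symm_apply_eq _).2 (shiftOne_some i).symm] at h1
      exact h1.symm
    have hconst : ∀ i : ZMod 23, coordVec w (some i) = coordVec w (some 0) := by
      have h : ∀ n : ℕ, coordVec w (some (n : ZMod 23)) = coordVec w (some 0) := by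
        intro n
        induction n with
        | zero => simp
        | succ n ih => rw [Nat.cast_succ, hshift, ih]
      intro i
      rw [← ZMod.natCast_zmod_val i]
      exact h _
    rw [dot_vecU, Finset.sum_congr rfl (fun p hp => show coordVec w p = coordVec w (some 0) from ?_),
      Finset.sum_const, Finset.card_erase_of_mem (Finset.mem_univ _), card_univ_golayPt] at hd
    · rw [sqNorm, ← Finset.add_sum_erase _ _ (Finset.mem_univ (none : GolayPt)),
        Finset.sum_congr rfl (fun p hp => show coordVec w p ^ 2 = coordVec w (some 0) ^ 2 from ?_),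
        Finset.sum_const, Finset.card_erase_of_mem (Finset.mem_univ _), card_univ_golayPt] at hn
      · norm_num at hd hn
        generalize ha : coordVec w none = a at hd hn
        generalize hb : coordVec w (some 0) = b at hd hn
        have hb2 : -1 ≤ b ∧ b ≤ 1 := by constructor <;> nlinarith
        obtain ⟨h1, h2⟩ := hb2
        have : a = 8 ∧ b = 0 := by interval_cases b <;> omega
        refine leech_ext fun p => ?_
        rw [coordVec_axisVec]
        rcases p with _ | i
        · rw [if_pos rfl, ha, this.1]
        · rw [if_neg (by simp), hconst, hb, this.2]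
      · rcases p with _ | i
        · simp at hp
        · rw [hconst]
    · rcases p with _ | i
      · simp at hp
      · exact hconst i
  -- the orbit of a moved vector under the shift fills the rest
  obtain ⟨w₀, hw₀, hw₀a⟩ := Finset.exists_mem_ne (by rw [hSc]; norm_num) (axisVec none)
  have hgax : (g : Co0) • axisVec none = axisVec none := point_fix_axis ⟨_, rfl⟩
  have hg23 : (g : Co0) ^ 23 = 1 := by
    rw [← SubmonoidClass.coe_pow, hg, ← map_pow,
      orderOf_dvd_iff_pow_eq_one.1 (dvd_of_eq orderOf_shiftPt), map_one, OneMemClass.coe_one]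
  have hpowS : ∀ n : ℕ, (g : Co0) ^ n • w₀ ∈ S.erase (axisVec none) := by
    intro n
    induction n with
    | zero => rw [pow_zero, one_smul]; exact Finset.mem_erase.2 ⟨hw₀a, hw₀⟩
    | succ n ih =>
      rw [pow_succ', mul_smul]
      obtain ⟨h1, h2⟩ := Finset.mem_erase.1 ih
      exact Finset.mem_erase.2 ⟨fun e => h1 (smul_left_cancel (g : Co0) (e.trans hgax.symm)),
        hSinv g hgL _ h2⟩
  have hrest : (Finset.range 23).image (fun n => (g : Co0) ^ n • w₀) = S.erase (axisVec none) := by
    refine Finset.eq_of_subset_of_card_le (fun w hw => ?_) ?_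
    · obtain ⟨n, -, rfl⟩ := Finset.mem_image.1 hw
      exact hpowS n
    · rw [Finset.card_erase_of_mem haxis, hSc, Finset.card_image_of_injOn, Finset.card_range]
      intro i hi j hj hij
      simp only [Finset.coe_range, Set.mem_Iio] at hi hj
      by_contra hne
      refine hw₀a (hnofix w₀ hw₀ ?_)
      have hcop : IsCoprime ((i : ℤ) - j) (23 : ℤ) :=
        ((Int.prime_iff_natAbs_prime.2 (by norm_num : Nat.Prime (23 : ℤ).natAbs)).coprime_iff_not_dvd.2
          (by omega)).symm
      obtain ⟨s, t, hst'⟩ := hcop
      have hfixd : (g : Co0) ^ ((i : ℤ) - j) • w₀ = w₀ := by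
        have hij' : (g : Co0) ^ i • w₀ = (g : Co0) ^ j • w₀ := hij
        rw [zpow_sub, zpow_natCast, zpow_natCast,
          ((Commute.refl (g : Co0)).pow_pow i j).inv_right.eq, mul_smul, hij', inv_smul_smul]
      have he : (g : Co0) = ((g : Co0) ^ ((i : ℤ) - j)) ^ s := by
        conv_lhs => rw [← zpow_one (g : Co0), ← hst']
        rw [zpow_add, mul_comm t, zpow_mul _ (23 : ℤ) t,
          show (g : Co0) ^ (23 : ℤ) = 1 from (zpow_natCast _ 23).trans hg23, one_zpow, mul_one,
          mul_comm, zpow_mul]
      rw [he]
      exact (Subgroup.zpow_mem _ (mem_stabilizer_iff.2 hfixd) s :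
        ((g : Co0) ^ ((i : ℤ) - j)) ^ s ∈ stabilizer Co0 w₀)
  -- the sum of the orbit is twenty times `vecU`
  set v := ∑ w ∈ S, w with hv
  have hvfix : ∀ h ∈ L, (h : Co0) • v = v := by
    intro h hh
    let φ : leechLattice →+ leechLattice :=
      AddMonoidHom.mk' ((h : Co0) • ·) (smul_add_co0 _)
    show φ v = v
    rw [hv, map_sum]
    refine Finset.sum_nbij' (fun w => (h : Co0) • w) (fun w => (h : Co0)⁻¹ • w) (fun w hw => hSinv h hh w hw)
      (fun w hw => ?_) (fun w _ => inv_smul_smul _ _) (fun w _ => smul_inv_smul _ _) (fun w _ => rfl)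
    have := hSinv h⁻¹ (inv_mem hh) w hw
    rwa [Subgroup.coe_inv] at this
  have hvsum : ∀ p, coordVec v p = ∑ w ∈ S, coordVec w p := fun p => by
    rw [hv]
    show ((∑ w ∈ S, w : leechLattice) : GolayPt → ℤ) p = _
    rw [AddSubgroup.val_finsetSum, Finset.sum_apply]
  obtain ⟨a, b, hva, hvb⟩ : ∃ a b : ℤ, coordVec v none = a ∧ ∀ p, p ≠ none → coordVec v p = b := by
    refine ⟨_, coordVec v (some 0), rfl, fun p hp => ?_⟩
    obtain ⟨σ, hσ, h1, h2⟩ := exists_M24_pair (a := (none : GolayPt)) (b := some 0) (c := none)
      (d := p) (by simp) (Ne.symm hp)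
    have h3 := congrArg (fun x => coordVec x p) (hvfix (pointHom ⟨⟨σ, hσ⟩, h1⟩) (hM ⟨_, rfl⟩))
    change coordVec (permAut ⟨σ, hσ⟩ • v) p = _ at h3
    rw [coordVec_permAut] at h3
    rw [show σ.symm p = some 0 from (Equiv.symm_apply_eq _).2 h2.symm] at h3
    exact h3.symm
  have hab : a = 5 * b := by
    by_contra hne
    have heq : v - b • vecU = ((a - 5 * b) : ℤ) • (0 : leechLattice) + (v - b • vecU) := by simp
    -- a multiple of the axis is fixed by `L`
    have hfixaxis : ∀ h ∈ L, (h : Co0) • axisVec none = axisVec none := by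
      intro h hh
      let φ : leechLattice →+ leechLattice :=
        AddMonoidHom.mk' ((h : Co0) • ·) (smul_add_co0 _)
      have h8 : (8 : ℤ) • (v - b • vecU) = (a - 5 * b) • axisVec none := by
        refine leech_ext fun p => ?_
        show ((8 : ℤ) • ((v : GolayPt → ℤ) - b • (vecU : GolayPt → ℤ))) p =
          ((a - 5 * b) • (axisVec none : GolayPt → ℤ)) p
        simp only [Pi.smul_apply, Pi.sub_apply, smul_eq_mul]
        change 8 * (coordVec v p - b * coordVec vecU p) = (a - 5 * b) * coordVec (axisVec none) p
        rw [coordVec_vecU, coordVec_axisVec]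
        by_cases hp : p = none
        · rw [if_pos hp, if_pos hp, hp, hva]; ring
        · rw [if_neg hp, if_neg hp, hvb p hp]; ring
      have h1 : φ ((a - 5 * b) • axisVec none) = (a - 5 * b) • axisVec none := by
        rw [← h8, map_zsmul, map_sub, map_zsmul,
          show φ v = v from hvfix h hh, show φ vecU = vecU from h.2]
      rw [map_zsmul] at h1
      refine leech_ext fun p => ?_
      have h2 := congrArg (fun x : leechLattice => coordVec x p) h1
      change (a - 5 * b) * coordVec ((h : Co0) • axisVec none) p =
        (a - 5 * b) * coordVec (axisVec none) p at h2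
      exact mul_left_cancel₀ (sub_ne_zero.2 hne) h2
    have : W ⊆ {axisVec none} := by
      rintro _ ⟨⟨h, hh⟩, rfl⟩
      exact hfixaxis h hh
    have := Set.ncard_le_ncard this
    rw [hW24, Set.ncard_singleton] at this
    omega
  have h960 : 5 * coordVec v none + 23 * b = 960 := by
    have h1 : dotInt (coordVec vecU) (coordVec v) = 5 * coordVec v none + 23 * b := by
      rw [dot_vecU, Finset.sum_congr rfl (fun p hp => hvb p (Finset.mem_erase.1 hp).1),
        Finset.sum_const, Finset.card_erase_of_mem (Finset.mem_univ _), card_univ_golayPt]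
      norm_num
    rw [← h1, dotInt, Finset.sum_congr rfl (fun p _ => show coordVec vecU p * coordVec v p =
      ∑ w ∈ S, coordVec vecU p * coordVec w p by rw [hvsum, Finset.mul_sum]), Finset.sum_comm,
      Finset.sum_congr rfl (fun w hw => show ∑ x, coordVec vecU x * coordVec w x = (40 : ℤ) from
        (hfac w ((hmemS w).1 hw)).2),
      Finset.sum_const, hSc]
    norm_num
  have hvnone : coordVec v none = 100 := by rw [hva] at h960 ⊢; omega
  -- every moved vector has entry four at the exceptional point
  have hcn : ∀ w ∈ S.erase (axisVec none), coordVec w none = coordVec w₀ none := by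
    intro w hw
    rw [← hrest] at hw
    obtain ⟨n, -, rfl⟩ := Finset.mem_image.1 hw
    clear hw
    induction n with
    | zero => rw [pow_zero, one_smul]
    | succ n ih =>
      show coordVec (((g : Co0) ^ (n + 1)) • w₀) none = _
      rw [pow_succ', mul_smul]
      show coordVec (permAut shiftOne • ((g : Co0) ^ n • w₀)) none = _
      rw [coordVec_permAut, shiftOne_symm_none]
      exact ih
  have h4 : coordVec w₀ none = 4 := by
    rw [hvsum, ← Finset.add_sum_erase _ _ haxis, coordVec_axisVec, if_pos rfl,
      Finset.sum_congr rfl hcn, Finset.sum_const, Finset.card_erase_of_mem haxis, hSc] at hvnone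
    norm_num at hvnone
    omega
  -- its stabiliser in the point stabiliser has index at most 23
  let H : Subgroup pointStab := (stabilizer Co0 w₀).comap (coThreeGroup.subtype.comp pointHom)
  let _ : MulAction pointStab leechLattice :=
    MulAction.compHom leechLattice (coThreeGroup.subtype.comp pointHom)
  have hH : H = stabilizer pointStab w₀ := by ext τ; rfl
  have hidx : H.index ≤ 23 := by
    rw [hH, index_stabilizer]
    calc (orbit pointStab w₀).ncard ≤ ((S.erase (axisVec none) : Finset _) : Set leechLattice).ncard :=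
          Set.ncard_le_ncard (by
            rintro _ ⟨τ, rfl⟩
            show (pointHom τ : Co0) • w₀ ∈ S.erase (axisVec none)
            refine Finset.mem_erase.2 ⟨fun e => hw₀a (smul_left_cancel (pointHom τ : Co0)
              (e.trans (point_fix_axis ⟨τ, rfl⟩).symm)), hSinv _ (hM ⟨τ, rfl⟩) _ hw₀⟩)
      _ = 23 := by rw [Set.ncard_coe_finset, Finset.card_erase_of_mem haxis, hSc]
  have hdiv : ∀ p : ℕ, p.Prime → p = 7 ∨ p = 11 → p ∣ Nat.card H := by
    intro p hp hp'
    have h := H.index_mul_card
    rw [card_pointStab] at h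
    have hd : p ∣ H.index * Nat.card H := by
      rw [h]; rcases hp' with rfl | rfl <;> norm_num
    refine (hp.dvd_mul.1 hd).resolve_left fun hdi => ?_
    have hi : H.index ∈ Nat.divisors 10200960 :=
      Nat.mem_divisors.2 ⟨Dvd.intro _ h, by norm_num⟩
    have hsmall : ∀ i ≤ 23, i ∣ 10200960 → 7 ∣ i ∨ 11 ∣ i → i = 7 ∨ i = 11 ∨ i = 14 ∨ i = 21 ∨ i = 22 := by
      decide +kernel
    have h23 : ¬ 23 ∣ H.index → False := fun h23 => by
      -- the shift would lie in a subgroup of index less than 23
      have hlt : H.index < 23 := by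
        rcases lt_or_eq_of_le hidx with hl | hl
        · exact hl
        · exact absurd (dvd_of_eq hl.symm) h23
      refine hw₀a (hnofix w₀ hw₀ ?_)
      have := CfsgLib.Golay.isSimpleGroup_point (none : GolayPt)
      rcases (inferInstance : H.normalCore.Normal).eq_bot_or_eq_top with hc | hc
      · exfalso
        have hinj : Function.Injective (MulAction.toPermHom pointStab (pointStab ⧸ H)) := by
          rw [← MonoidHom.ker_eq_bot_iff, ← Subgroup.normalCore_eq_ker, hc]
        have h1 := Subgroup.card_dvd_of_injective _ hinj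
        rw [card_pointStab, Nat.card_perm] at h1
        have h2 : 23 ∣ H.index.factorial := (dvd_trans (by norm_num) h1)
        exact absurd ((Nat.Prime.dvd_factorial (by norm_num)).1 h2) (not_le.2 hlt)
      · have : shiftPt ∈ H := H.normalCore_le (hc ▸ Subgroup.mem_top _)
        exact this
    rcases hsmall _ hidx (Nat.mem_divisors.1 hi).1 (by rcases hp' with rfl | rfl; exacts [Or.inl hdi, Or.inr hdi])
      with e | e | e | e | e <;> exact h23 (by rw [e]; norm_num)
  have hfixw : ∀ τ ∈ H, ∀ p, coordVec w₀ ((τ : M24) • p) = coordVec w₀ p := by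
    intro τ hτ p
    have h1 := congrArg (fun x => coordVec x ((τ : M24) • p)) (show permAut (τ : M24) • w₀ = w₀ from hτ)
    rw [coordVec_permAut] at h1
    rw [← h1]
    exact congrArg _ (Equiv.symm_apply_apply _ _)
  have : Fact (Nat.Prime 7) := ⟨by norm_num⟩
  obtain ⟨y, hy⟩ := exists_prime_orderOf_dvd_card' (G := H) 11 (hdiv 11 (by norm_num) (Or.inr rfl))
  obtain ⟨z, hz⟩ := exists_prime_orderOf_dvd_card' (G := H) 7 (hdiv 7 (by norm_num) (Or.inl rfl))
  have hyo : orderOf ((y : pointStab) : M24) = 11 := by
    rw [Subgroup.orderOf_coe, Subgroup.orderOf_coe, hy]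
  have hzo : orderOf ((z : pointStab) : M24) = 7 := by
    rw [Subgroup.orderOf_coe, Subgroup.orderOf_coe, hz]
  obtain ⟨q, O, O', hqne, -, hdis, hpart, hO, hO', hcl⟩ := classify_eleven (y : pointStab).2 hyo
  rcases hcl w₀ (hfac w₀ ((hmemS w₀).1 hw₀)).1 (hfac w₀ ((hmemS w₀).1 hw₀)).2 (hfixw _ y.2)
    with e | ⟨-, eq, hsh⟩
  · exact hw₀a e
  have hzfix := hfixw _ z.2
  have hzn : ((z : pointStab) : M24) • (none : GolayPt) = none := (z : pointStab).2
  have hval : ∀ p, p = none ∨ p = q ∨ coordVec w₀ p = 0 ∨ coordVec w₀ p = 2 := by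
    intro p
    by_cases hp : p = none
    · exact Or.inl hp
    by_cases hpq : p = q
    · exact Or.inr (Or.inl hpq)
    have hm : p ∈ O ∪ O' :=
      hpart ▸ Finset.mem_erase.2 ⟨hpq, Finset.mem_erase.2 ⟨hp, Finset.mem_univ _⟩⟩
    refine Or.inr (Or.inr ?_)
    rcases hsh with ⟨a1, a2⟩ | ⟨a1, a2⟩ <;> rcases Finset.mem_union.1 hm with h | h
    exacts [Or.inr (a1 p h), Or.inl (a2 p h), Or.inl (a1 p h), Or.inr (a2 p h)]
  have hzq : ((z : pointStab) : M24) • q = q := by
    have h1 : coordVec w₀ (((z : pointStab) : M24) • q) = -2 := (hzfix q).trans eq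
    rcases hval (((z : pointStab) : M24) • q) with e | e | e | e
    · exact absurd (MulAction.injective _ (e.trans hzn.symm)) hqne
    · exact e
    all_goals (rw [e] at h1; norm_num at h1)
  -- the support of the value two is invariant
  set T := (((Finset.univ : Finset GolayPt).erase none).erase q).filter fun p => coordVec w₀ p = 2
    with hT
  have hTc : T.card = 11 := by
    rw [hT, hpart, Finset.filter_union]
    rcases hsh with ⟨a1, a2⟩ | ⟨a1, a2⟩
    · rw [Finset.filter_true_of_mem a1, Finset.filter_false_of_mem fun p hp => by rw [a2 p hp]; norm_num,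
        Finset.union_empty, hO]
    · rw [Finset.filter_false_of_mem fun p hp => by rw [a1 p hp]; norm_num, Finset.filter_true_of_mem a2,
        Finset.empty_union, hO']
  have hTinv : ∀ p ∈ T, ((z : pointStab) : M24) • p ∈ T := by
    intro p hp
    simp only [hT, Finset.mem_filter, Finset.mem_erase, Finset.mem_univ, and_true] at hp ⊢
    exact ⟨⟨fun e => hp.1.1 (MulAction.injective _ (e.trans hzq.symm)),
      fun e => hp.1.2 (MulAction.injective _ (e.trans hzn.symm))⟩, (hzfix p).trans hp.2⟩
  have hmod := fixed_modEq (hzo ▸ pow_orderOf_eq_one ((z : pointStab) : M24)) T hTinv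
  rw [hTc] at hmod
  have h3 := fixed_card (p := 7) (r := 3) (Or.inr (Or.inl ⟨rfl, rfl⟩)) hzo
  have hsub : insert none (insert q (T.filter fun p => ((z : pointStab) : M24) • p = p)) ⊆
      Finset.univ.filter fun p => ((z : pointStab) : M24) • p = p := by
    intro p hp
    simp only [Finset.mem_insert, Finset.mem_filter] at hp
    refine Finset.mem_filter.2 ⟨Finset.mem_univ _, ?_⟩
    rcases hp with rfl | rfl | h
    exacts [hzn, hzq, h.2]
  have hle := Finset.card_le_card hsub
  rw [h3, Finset.card_insert_of_notMem, Finset.card_insert_of_notMem] at hle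
  · rw [Nat.ModEq] at hmod
    omega
  · simp [hT]
  · simp [hT, Ne.symm hqne]

end CfsgLib.Mathieu.CoThreeOut
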