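import Cfsg.Agent.Lib.Mathieu.HS

/-!
A rank three group of order 44352000 on 100 points with suborbits 22 and 77 is the Higman–Sims group.
-/

set_option autoImplicit false

namespace CfsgLib.Mathieu.HSRankThree

open MulAction Finset
open scoped Classical Pointwise

universe u v

variable {K : Type u} [Group K] {V : Type v} [MulAction K V] [Fintype V] [DecidableEq V]

theorem params_eq {l m : ℕ} (h : 22 + 22 * l + 77 * m = 484) (h1 : l ≤ 21) (h2 : 3 ∣ 2200 * l)
    (h3 : l ≠ 21) : l = 0 ∧ m = 6 := by
  interval_cases l <;> omega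

/-- A base point with its two suborbits. -/
structure Sub (K : Type u) [Group K] {V : Type v} [MulAction K V] (a b c : V) : Prop where
  card : Nat.card V = 100
  nearCard : (orbit (stabilizer K a) b).ncard = 22
  farCard : (orbit (stabilizer K a) c).ncard = 77

variable {a b c : V}

/-- The edge relation. -/
def Edge (K : Type u) [Group K] {V : Type v} [MulAction K V] (a b : V) (x y : V) : Prop :=
  ∃ g : K, g • a = x ∧ g • b = y

omit [Fintype V] [DecidableEq V] in
theorem edge_smul (k : K) {x y : V} (h : Edge K a b x y) : Edge K a b (k • x) (k • y) := by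
  obtain ⟨g, rfl, rfl⟩ := h
  exact ⟨k * g, mul_smul _ _ _, mul_smul _ _ _⟩

omit [Fintype V] [DecidableEq V] in
theorem edge_smul_iff (k : K) {x y : V} : Edge K a b (k • x) (k • y) ↔ Edge K a b x y :=
  ⟨fun h => by simpa using edge_smul k⁻¹ h, edge_smul k⟩

omit [Fintype V] [DecidableEq V] in
theorem edge_base {y : V} : Edge K a b a y ↔ y ∈ orbit (stabilizer K a) b := by
  constructor
  · rintro ⟨g, hg, rfl⟩
    exact ⟨⟨g, hg⟩, rfl⟩
  · rintro ⟨g, rfl⟩
    exact ⟨g, g.2, rfl⟩

omit [DecidableEq V] in
theorem suborbit_facts (H : Sub K a b c) :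
    a ∉ orbit (stabilizer K a) b ∧ a ∉ orbit (stabilizer K a) c ∧
      Disjoint (orbit (stabilizer K a) b) (orbit (stabilizer K a) c) := by
  have hne : ∀ x : V, 1 < (orbit (stabilizer K a) x).ncard → a ∉ orbit (stabilizer K a) x := by
    intro x hx ha
    have h1 : orbit (stabilizer K a) x ⊆ {a} := by
      rw [← orbit_eq_iff.2 ha]
      rintro _ ⟨g, rfl⟩
      exact g.2
    have := Set.ncard_le_ncard h1
    rw [Set.ncard_singleton] at this
    omega
  refine ⟨hne b (by rw [H.nearCard]; norm_num), hne c (by rw [H.farCard]; norm_num), ?_⟩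
  rw [Set.disjoint_left]
  intro x hb hc
  have := H.nearCard
  rw [← orbit_eq_iff.2 hb, orbit_eq_iff.2 hc, H.farCard] at this
  omega

theorem cover (H : Sub K a b c) {x : V} (hx : x ≠ a) :
    x ∈ orbit (stabilizer K a) b ∨ x ∈ orbit (stabilizer K a) c := by
  obtain ⟨h1, h2, h3⟩ := suborbit_facts H
  have huniv : insert a (orbit (stabilizer K a) b ∪ orbit (stabilizer K a) c) = (Set.univ : Set V) := by
    rw [Set.eq_univ_iff_ncard, H.card, Set.ncard_insert_of_notMem (by simp [h1, h2]),
      Set.ncard_union_eq h3, H.nearCard, H.farCard]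
  have hm : x ∈ insert a (orbit (stabilizer K a) b ∪ orbit (stabilizer K a) c) := huniv ▸ Set.mem_univ x
  exact hm.resolve_left hx

theorem data (H : Sub K a b c) :
    RankThree.Data K a (orbit (stabilizer K a) b).toFinset (orbit (stabilizer K a) c).toFinset where
  cover x hx := by simpa using cover H hx
  notMem₁ := by simpa using (suborbit_facts H).1
  notMem₂ := by simpa using (suborbit_facts H).2.1
  disjoint := Set.disjoint_toFinset.2 (suborbit_facts H).2.2
  trans₁ x hx y hy := by
    rw [Set.mem_toFinset] at hx hy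
    obtain ⟨g, rfl⟩ := (orbit_eq_iff.2 hx).symm ▸ hy
    exact ⟨g, g.2, rfl⟩
  trans₂ x hx y hy := by
    rw [Set.mem_toFinset] at hx hy
    obtain ⟨g, rfl⟩ := (orbit_eq_iff.2 hx).symm ▸ hy
    exact ⟨g, g.2, rfl⟩

/-- The out-neighbours in the suborbit relation. -/
noncomputable def nbr (K : Type u) [Group K] {V : Type v} [MulAction K V] [Fintype V] (a b x : V) :
    Finset V :=
  univ.filter fun y => Edge K a b x y

omit [DecidableEq V] in
theorem mem_nbr {x y : V} : y ∈ nbr K a b x ↔ Edge K a b x y := by simp [nbr]

variable [IsPretransitive K V]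

theorem out_card (H : Sub K a b c) (x : V) : (univ.filter fun y => Edge K a b x y).card = 22 := by
  obtain ⟨k, rfl⟩ := exists_smul_eq K a x
  rw [show (univ.filter fun y => Edge K a b (k • a) y) =
      (orbit (stabilizer K a) b).toFinset.image (k • ·) from ?_,
    Finset.card_image_of_injective _ (MulAction.injective k), ← Set.ncard_eq_toFinset_card',
    H.nearCard]
  ext y
  simp only [mem_filter, Finset.mem_univ, true_and, mem_image, Set.mem_toFinset]
  constructor
  · intro h
    refine ⟨k⁻¹ • y, edge_base.1 ((edge_smul_iff k).1 ?_), smul_inv_smul k y⟩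
    rwa [smul_inv_smul]
  · rintro ⟨z, hz, rfl⟩
    exact edge_smul k (edge_base.2 hz)

theorem edge_symm (H : Sub K a b c) {x y : V} (h : Edge K a b x y) : Edge K a b y x := by
  obtain ⟨k, rfl⟩ := exists_smul_eq K a x
  have hin : ∀ z, (univ.filter fun w => Edge K a b w z).card =
      (univ.filter fun w => Edge K a b w a).card := by
    intro z
    obtain ⟨g, rfl⟩ := exists_smul_eq K a z
    refine card_bij' (fun w _ => g⁻¹ • w) (fun w _ => g • w) ?_ ?_ ?_ ?_
    · intro w hw
      simp only [mem_filter, Finset.mem_univ, true_and] at hw ⊢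
      have := edge_smul g⁻¹ hw
      rwa [inv_smul_smul] at this
    · intro w hw
      simp only [mem_filter, Finset.mem_univ, true_and] at hw ⊢
      exact edge_smul g hw
    · intro w _; exact smul_inv_smul g w
    · intro w _; exact inv_smul_smul g w
  have hsum : ∑ z : V, (univ.filter fun w => Edge K a b z w).card =
      ∑ z : V, (univ.filter fun w => Edge K a b w z).card := by
    simp only [card_filter]
    exact sum_comm
  rw [sum_congr rfl (fun z _ => out_card H z), sum_congr rfl (fun z _ => hin z), sum_const,
    sum_const, smul_eq_mul, smul_eq_mul, card_univ, ← Nat.card_eq_fintype_card, H.card] at hsum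
  set In := univ.filter fun w => Edge K a b w a with hIn
  have hc := RankThree.invariant_card (data H) In
    (fun ha => (suborbit_facts H).1 (edge_base.1 (by simpa [hIn] using ha)))
    (fun g hg w hw => by
      simp only [hIn, mem_filter, Finset.mem_univ, true_and] at hw ⊢
      simpa [hg] using edge_smul g hw)
  have heq : In = (orbit (stabilizer K a) b).toFinset := by
    have hsub : In ⊆ (orbit (stabilizer K a) b).toFinset := by
      intro w hw
      by_contra hwb
      have hwa : w ≠ a := fun e => (suborbit_facts H).1 (edge_base.1 (by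
        simp only [hIn, mem_filter, Finset.mem_univ, true_and] at hw
        rwa [e] at hw))
      have hwc := (cover H hwa).resolve_left fun h => hwb (Set.mem_toFinset.2 h)
      have : (orbit (stabilizer K a) c).toFinset ⊆ In := by
        intro z hz
        rw [Set.mem_toFinset, ← orbit_eq_iff.2 hwc] at hz
        obtain ⟨g, rfl⟩ := hz
        simp only [hIn, mem_filter, Finset.mem_univ, true_and] at hw ⊢
        have := edge_smul (g : K) hw
        rwa [show (g : K) • a = a from g.2] at this
      have := card_le_card this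
      rw [← Set.ncard_eq_toFinset_card', H.farCard] at this
      omega
    refine eq_of_subset_of_card_le hsub ?_
    rw [← Set.ncard_eq_toFinset_card', H.nearCard]
    omega
  have hb : k⁻¹ • y ∈ In := by
    rw [heq, Set.mem_toFinset]
    refine edge_base.1 ((edge_smul_iff k).1 ?_)
    rwa [smul_inv_smul]
  simp only [hIn, mem_filter, Finset.mem_univ, true_and] at hb
  simpa using edge_smul k hb

theorem edge_irrefl (H : Sub K a b c) (x : V) : ¬ Edge K a b x x := by
  obtain ⟨k, rfl⟩ := exists_smul_eq K a x
  rw [edge_smul_iff, edge_base]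
  exact (suborbit_facts H).1

/-- The graph of the suborbit of size 22. -/
def graph (H : Sub K a b c) : SimpleGraph V where
  Adj := Edge K a b
  symm := ⟨fun _ _ => edge_symm H⟩
  loopless := ⟨edge_irrefl H⟩

omit [IsPretransitive K V] in
theorem neighbor_smul (k : K) (x y : V) :
    (nbr K a b (k • x) ∩ nbr K a b (k • y)).card = (nbr K a b x ∩ nbr K a b y).card := by
  refine card_bij' (fun w _ => k⁻¹ • w) (fun w _ => k • w) ?_ ?_ ?_ ?_
  · intro w hw
    simp only [mem_inter, mem_nbr] at hw ⊢
    refine ⟨(edge_smul_iff k).1 ?_, (edge_smul_iff k).1 ?_⟩ <;> rw [smul_inv_smul]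
    exacts [hw.1, hw.2]
  · intro w hw
    simp only [mem_inter, mem_nbr] at hw ⊢
    exact ⟨edge_smul k hw.1, edge_smul k hw.2⟩
  · intro w _; exact smul_inv_smul k w
  · intro w _; exact inv_smul_smul k w

theorem degree (H : Sub K a b c) (x : V) : (nbr K a b x).card = 22 := out_card H x

set_option maxHeartbeats 1000000 in
theorem isSRG (H : Sub K a b c) : (graph H).IsSRGWith 100 22 0 6 := by
  set N := nbr K a b with hN
  have hmem : ∀ x y : V, y ∈ N x ↔ Edge K a b x y := fun x y => mem_nbr
  have hns : ∀ w, w ∉ N w := fun w h => edge_irrefl H w ((hmem w w).1 h)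
  have hNa : ∀ y, y ∈ N a ↔ y ∈ orbit (stabilizer K a) b := fun y => by
    rw [hmem]; exact edge_base
  obtain ⟨hb1, hc1, hd⟩ := suborbit_facts H
  have hbO : b ∈ orbit (stabilizer K a) b := mem_orbit_self b
  have hca : c ≠ a := fun e => hc1 (e ▸ mem_orbit_self c)
  set l := (N a ∩ N b).card with hl
  set m := (N a ∩ N c).card with hm
  have hconst : ∀ z, (N a ∩ N z).card = if z = a then 22 else if z ∈ N a then l else m := by
    intro z
    by_cases hza : z = a
    · rw [if_pos hza, hza, inter_self]; exact degree H a
    rw [if_neg hza]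
    by_cases hz : z ∈ N a
    · rw [if_pos hz]
      obtain ⟨g, rfl⟩ := (hNa z).1 hz
      have := neighbor_smul (a := a) (b := b) (g : K) a b
      rw [show (g : K) • a = a from g.2] at this
      exact this
    · rw [if_neg hz]
      obtain ⟨g, rfl⟩ := (cover H hza).resolve_left fun h => hz ((hNa z).2 h)
      have := neighbor_smul (a := a) (b := b) (g : K) a c
      rw [show (g : K) • a = a from g.2] at this
      exact this
  have hadj : ∀ w z, z ∈ N w ↔ w ∈ N z := fun w z => by
    simp only [hmem]
    exact ⟨edge_symm H, edge_symm H⟩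
  have hpaths : ∑ z : V, (N a ∩ N z).card = 484 := by
    have : ∀ z, (N a ∩ N z).card = ∑ w ∈ N a, if z ∈ N w then 1 else 0 := fun z => by
      rw [← card_filter]
      congr 1
      ext w
      simp [hadj w z]
    rw [sum_congr rfl (fun z _ => this z), sum_comm]
    have h22 : ∀ w ∈ N a, (∑ z : V, if z ∈ N w then 1 else 0) = 22 := fun w _ => by
      rw [sum_boole, Nat.cast_id, filter_univ_mem]; exact degree H w
    rw [sum_congr rfl h22, sum_const, smul_eq_mul]
    exact congrArg (· * 22) (degree H a)
  have heq : 22 + 22 * l + 77 * m = 484 := by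
    rw [← hpaths, sum_congr rfl (fun z _ => hconst z), sum_ite, filter_eq']
    rw [if_pos (Finset.mem_univ a), sum_singleton, sum_ite, sum_const, sum_const, smul_eq_mul,
      smul_eq_mul]
    have h1 : ((univ.filter fun z => ¬ z = a).filter fun z => z ∈ N a).card = 22 := by
      rw [show ((univ.filter fun z => ¬ z = a).filter fun z => z ∈ N a) = N a from ?_, degree H a]
      ext z
      simp only [mem_filter, Finset.mem_univ, true_and, and_iff_right_iff_imp]
      intro hz e
      exact hns a (e ▸ hz)
    have h2 : ((univ.filter fun z => ¬ z = a).filter fun z => z ∉ N a).card = 77 := by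
      rw [show ((univ.filter fun z => ¬ z = a).filter fun z => z ∉ N a) =
        (orbit (stabilizer K a) c).toFinset from ?_, ← Set.ncard_eq_toFinset_card', H.farCard]
      ext z
      simp only [mem_filter, Finset.mem_univ, true_and, Set.mem_toFinset, hNa]
      exact ⟨fun h => (cover H h.1).resolve_left h.2, fun h => ⟨fun e => hc1 (e ▸ h),
        fun h' => Set.disjoint_left.1 hd h' h⟩⟩
    rw [h1, h2]
    omega
  have hl22 : l ≤ 21 := by
    have hbN : b ∈ N a := (hNa b).2 hbO
    have : N a ∩ N b ⊆ (N a).erase b := by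
      intro z hz
      rw [mem_inter] at hz
      refine mem_erase.2 ⟨fun e => ?_, hz.1⟩
      exact hns b (e ▸ hz.2)
    have := card_le_card this
    rw [card_erase_of_mem hbN, degree H a] at this
    exact this
  -- triangles come in threes
  have htri : 3 ∣ 2200 * l := by
    let T := {t : V × V × V // t.2.1 ∈ N t.1 ∧ t.2.2 ∈ N t.2.1 ∧ t.1 ∈ N t.2.2}
    have hT : Fintype.card T = 2200 * l := by
      have e : T ≃ Σ x : V, Σ y : N x, (N x ∩ N (y : V) : Finset V) :=
        { toFun := fun t => ⟨t.1.1, ⟨t.1.2.1, t.2.1⟩,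
            ⟨t.1.2.2, mem_inter.2 ⟨(hadj _ _).1 t.2.2.2, t.2.2.1⟩⟩⟩
          invFun := fun s => ⟨(s.1, s.2.1.1, s.2.2.1),
            ⟨s.2.1.2, (mem_inter.1 s.2.2.2).2, (hadj _ _).1 (mem_inter.1 s.2.2.2).1⟩⟩
          left_inv := fun t => rfl
          right_inv := fun s => rfl }
      rw [Fintype.card_congr e, Fintype.card_sigma]
      have hx : ∀ x : V, Fintype.card (Σ y : N x, (N x ∩ N (y : V) : Finset V)) = 22 * l := by
        intro x
        rw [Fintype.card_sigma, sum_congr rfl (fun y _ => ?_), sum_const, card_univ,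
          Fintype.card_coe, degree H x, smul_eq_mul]
        obtain ⟨k, rfl⟩ := exists_smul_eq K a x
        have hy : k⁻¹ • (y : V) ∈ N a := by
          have h := (hmem _ _).1 y.2
          refine (hmem _ _).2 ((edge_smul_iff k).1 ?_)
          rwa [smul_inv_smul]
        rw [Fintype.card_coe]
        have h' := neighbor_smul (a := a) (b := b) k a (k⁻¹ • (y : V))
        rw [smul_inv_smul] at h'
        refine h'.trans ((hconst _).trans ?_)
        rw [if_neg (fun e' : k⁻¹ • (y : V) = a => hns a (by have h2 := hy; rwa [e'] at h2)), if_pos hy]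
      rw [sum_congr rfl (fun x _ => hx x), sum_const, card_univ, ← Nat.card_eq_fintype_card, H.card,
        smul_eq_mul, ← mul_assoc]
      norm_num
    by_contra hnd
    let σ : Equiv.Perm T :=
      { toFun := fun t => ⟨(t.1.2.1, t.1.2.2, t.1.1), t.2.2.1, t.2.2.2, t.2.1⟩
        invFun := fun t => ⟨(t.1.2.2, t.1.1, t.1.2.1), t.2.2.2, t.2.1, t.2.2.1⟩
        left_inv := fun t => rfl
        right_inv := fun t => rfl }
    have : Fact (Nat.Prime 3) := ⟨by norm_num⟩
    obtain ⟨t, ht⟩ := Equiv.Perm.exists_fixed_point_of_prime (σ := σ) (p := 3) (n := 1)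
      (by rw [hT]; exact hnd) (Equiv.ext fun t => rfl)
    have h1 : t.1.2.1 = t.1.1 := congrArg (fun t : T => t.1.1) ht
    have h2 := t.2.1
    rw [h1] at h2
    exact hns _ h2
  have hl21 : l ≠ 21 := by
    intro e
    have hbN : ∀ z ∈ N a, insert z (N z) = insert a (N a) := by
      intro z hz
      have hza : z ≠ a := fun e' => hb1 ((hNa a).1 (e' ▸ hz))
      have h21 : (N a ∩ N z).card = 21 := by rw [hconst, if_neg hza, if_pos hz, e]
      have hsub : insert z (insert a (N a ∩ N z)) ⊆ insert a (N a) := by
        intro w hw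
        simp only [mem_insert, mem_inter] at hw ⊢
        rcases hw with rfl | rfl | h
        exacts [Or.inr hz, Or.inl rfl, Or.inr h.1]
      have hsub' : insert z (insert a (N a ∩ N z)) ⊆ insert z (N z) := by
        intro w hw
        simp only [mem_insert, mem_inter] at hw ⊢
        rcases hw with rfl | rfl | h
        exacts [Or.inl rfl, Or.inr ((hadj _ _).1 hz), Or.inr h.2]
      have hcard : (insert z (insert a (N a ∩ N z))).card = 23 := by
        rw [card_insert_of_notMem (by simp [hza, hns z]),
          card_insert_of_notMem (by simp [hns a]), h21]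
      rw [← eq_of_subset_of_card_le hsub (by rw [hcard, card_insert_of_notMem (hns a), degree H a]),
        ← eq_of_subset_of_card_le hsub' (by rw [hcard, card_insert_of_notMem (hns z), degree H z])]
    let B : Set V := ↑(insert a (N a))
    have hcl : ∀ (k : K) (z : V), z ∈ (insert a (N a)).image (k • ·) →
        (insert a (N a)).image (k • ·) = insert z (N z) := by
      intro k z hz
      obtain ⟨w, hw, rfl⟩ := mem_image.1 hz
      have hw' : insert w (N w) = insert a (N a) := by
        rcases mem_insert.1 hw with rfl | h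
        exacts [rfl, hbN w h]
      rw [← hw']
      ext u
      simp only [mem_image, mem_insert, hmem]
      constructor
      · rintro ⟨v', rfl | hv, rfl⟩
        exacts [Or.inl rfl, Or.inr (edge_smul k hv)]
      · rintro (rfl | hu)
        · exact ⟨w, Or.inl rfl, rfl⟩
        · exact ⟨k⁻¹ • u, Or.inr ((edge_smul_iff k).1 (by rwa [smul_inv_smul])), smul_inv_smul k u⟩
    have hB : IsBlock K B := by
      rw [isBlock_iff_smul_eq_of_nonempty]
      rintro k ⟨z, hz, hzB⟩
      have hk : k • B = ↑((insert a (N a)).image (k • ·)) := by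
        rw [coe_image]; rfl
      rw [hk] at hz ⊢
      rw [hcl k z hz]
      rcases mem_insert.1 hzB with rfl | h
      · rfl
      · rw [hbN z h]
    have hd' := hB.ncard_dvd_card ⟨a, mem_insert_self a _⟩
    rw [Set.ncard_coe_finset, H.card, card_insert_of_notMem (fun h => hb1 ((hNa a).1 h)),
      degree H a] at hd'
    norm_num at hd'
  have hlm : l = 0 ∧ m = 6 := params_eq heq hl22 htri hl21
  have hgN : ∀ x, (graph H).neighborFinset x = N x := fun x => by
    ext w
    rw [SimpleGraph.mem_neighborFinset, hmem]
    rfl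
  have hcn : ∀ x y : V, Fintype.card ((graph H).commonNeighbors x y) = (N x ∩ N y).card := by
    intro x y
    rw [← Set.toFinset_card]
    congr 1
    ext w
    rw [Set.mem_toFinset, SimpleGraph.mem_commonNeighbors, mem_inter, hmem, hmem]
    rfl
  refine ⟨Nat.card_eq_fintype_card.symm.trans H.card, fun x => ?_, fun x y hxy => ?_,
    fun x y hne hxy => ?_⟩
  · rw [← SimpleGraph.card_neighborFinset_eq_degree, hgN]; exact degree H x
  · obtain ⟨k, rfl⟩ := exists_smul_eq K a x
    obtain ⟨z, rfl⟩ : ∃ z, k • z = y := ⟨k⁻¹ • y, smul_inv_smul k y⟩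
    have hz : z ∈ N a := (hmem _ _).2 ((edge_smul_iff k).1 hxy)
    refine (hcn _ _).trans ((neighbor_smul k a z).trans ((hconst z).trans ?_))
    rw [if_neg (fun e' : z = a => hns a (by have h2 := hz; rwa [e'] at h2)), if_pos hz, hlm.1]
  · obtain ⟨k, rfl⟩ := exists_smul_eq K a x
    obtain ⟨z, rfl⟩ : ∃ z, k • z = y := ⟨k⁻¹ • y, smul_inv_smul k y⟩
    have hz : z ∉ N a := fun h => hxy (edge_smul k ((hmem _ _).1 h))
    refine (hcn _ _).trans ((neighbor_smul k a z).trans ((hconst z).trans ?_))
    rw [if_neg (fun e' : z = a => hne (by rw [e'])), if_neg hz, hlm.2]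

open HS HSCert GraphAut in
/-- The rank three group is the group generated by the listed automorphisms. -/
theorem nonempty_mulEquiv_hsGroup [Finite K] [FaithfulSMul K V] (H : Sub K a b c)
    (hK : Nat.card K = 44352000) : Nonempty (K ≃* HS.hsGroup) := by
  obtain ⟨f⟩ := exists_iso_std (isSRG H)
  let ρ : K →* (graph H ≃g graph H) :=
    { toFun := fun k => ⟨MulAction.toPerm k, fun {x y} => edge_smul_iff k⟩
      map_one' := by ext x; exact one_smul K x
      map_mul' := fun g h => by ext x; exact mul_smul g h x }
  have hρ : Function.Injective ρ := fun g h e => eq_of_smul_eq_smul fun x : V =>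
    congrArg (fun φ : graph H ≃g graph H => φ x) e
  let e : rowAut 100 rows ≃* (graph H ≃g graph H) :=
    MulEquiv.ofBijective (toGraphAut f) ⟨toGraphAut_injective f, toGraphAut_surjective f⟩
  let ψ : K →* rowAut 100 rows := e.symm.toMonoidHom.comp ρ
  have hψ : Function.Injective ψ := e.symm.injective.comp hρ
  set S : Subgroup (rowAut 100 rows) := hsGroup.subgroupOf (rowAut 100 rows)
  let eS : S ≃* hsGroup := Subgroup.subgroupOfEquivOfLe hsGroup_le
  have hS : Nat.card S = 44352000 := (Nat.card_congr eS.toEquiv).trans card_hsGroup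
  have hSs : IsSimpleGroup S := @MulEquiv.isSimpleGroup _ _ _ _ isSimpleGroup_hsGroup eS
  have hR : Nat.card ψ.range = 44352000 :=
    (Nat.card_congr (MonoidHom.ofInjective hψ).toEquiv).symm.trans hK
  have hi : ψ.range.index = 2 := by
    have := ψ.range.index_mul_card
    rw [hR, card_aut] at this
    omega
  have : ψ.range.Normal := Subgroup.normal_of_index_eq_two hi
  rcases (inferInstance : (ψ.range.subgroupOf S).Normal).eq_bot_or_eq_top with h | h
  · exfalso
    have h2 := (ψ.range.subgroupOf S).index_mul_card
    rw [h, Subgroup.card_bot, mul_one, ← h] at h2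
    have h3 : (ψ.range.subgroupOf S).index ∣ ψ.range.index :=
      ψ.range.relIndex_dvd_index_of_normal S
    rw [hi, h2, hS] at h3
    norm_num at h3
  · rw [Subgroup.subgroupOf_eq_top] at h
    have he : S = ψ.range := Subgroup.eq_of_le_of_card_ge h (by rw [hS, hR])
    exact ⟨(MonoidHom.ofInjective hψ).trans ((MulEquiv.subgroupCongr he.symm).trans eS)⟩

end CfsgLib.Mathieu.HSRankThree
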