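import Cfsg.Prelude.Def_Spor_Conway
import Cfsg.Prelude.Def_Spor_Mathieu
import Cfsg.Agent.Lib.Mathieu.HSRankThree
import Cfsg.Agent.Lib.GolayStructure.ConwaySimple
import Cfsg.Agent.Lib.GolayStructure.Sextet

/-!
The lattice triangle stabiliser acting on 100 minimal vectors, and the recognition of HS.
-/

set_option autoImplicit false

namespace CfsgLib.Mathieu.HSLattice

open Cfsg MulAction CfsgLib.Leech CfsgLib.Fischer2 CfsgLib.GolayStructure
open scoped Pointwise Classical

/-- The 22 odd vectors. -/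
def oddPart : Set leechLattice := oddVec '' {k | k ≠ ptP ∧ k ≠ ptQ}

/-- The 77 vectors carried by octads through the two points. -/
def octPart : Set leechLattice :=
  (fun O : {o // o ∈ octads ∧ ({ptP, ptQ} : Finset GolayPt) ⊆ o} => octVec O.2.1) '' Set.univ

theorem ncard_oddPart : oddPart.ncard = 22 := by
  rw [oddPart, Set.InjOn.ncard_image]
  · rw [show {k : GolayPt | k ≠ ptP ∧ k ≠ ptQ} = ({ptP, ptQ} : Set GolayPt)ᶜ by ext k; simp,
      Set.ncard_compl, Set.ncard_pair ptP_ne_ptQ, Nat.card_eq_fintype_card, card_golayPt]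
  · intro k _ l _ h
    have := congrArg (fun v => coordVec v k) h
    simp only [coordVec_oddVec, if_true] at this
    by_contra hne
    rw [if_neg hne] at this
    norm_num at this

theorem ncard_octPart : octPart.ncard = 77 := by
  rw [octPart, Set.ncard_image_of_injective, Set.ncard_univ]
  · rw [← ncard_octads_above_two (s := ({ptP, ptQ} : Finset GolayPt)) (Finset.card_pair ptP_ne_ptQ)]
    exact Nat.card_coe_set_eq _
  · intro O O' h
    refine Subtype.ext (Finset.ext fun p => ?_)
    have := congrArg (fun v => coordVec v p) h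
    simp only [coordVec_octVec] at this
    constructor <;> intro hp <;> by_contra hn
    · rw [if_pos hp, if_neg hn] at this; norm_num at this
    · rw [if_pos hp, if_neg hn] at this; norm_num at this

theorem sum_of_support {w : leechLattice} (s : Finset GolayPt) (h : ∀ p, p ∉ s → coordVec w p = 0) :
    ∑ p, coordVec w p = ∑ p ∈ s, coordVec w p :=
  (Finset.sum_subset (Finset.subset_univ s) fun p _ hp => h p hp).symm

/-- The vectors of squared length 32 in the two prescribed relations. -/
theorem classify {w : leechLattice} (hn : sqNorm (coordVec w) = 32)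
    (hU : dotInt (coordVec vecU) (coordVec w) = 24) (hM : dotInt (coordVec baseM) (coordVec w) = 0) :
    w = baseP ∨ w ∈ oddPart ∨ w ∈ octPart := by
  have hM' : coordVec w ptP = coordVec w ptQ := by
    rw [dotInt, ← Finset.sum_subset (Finset.subset_univ ({ptP, ptQ} : Finset GolayPt)),
      Finset.sum_pair ptP_ne_ptQ, coordVec_baseM, coordVec_baseM, if_pos rfl,
      if_neg ptP_ne_ptQ.symm, if_pos rfl] at hM
    · omega
    · intro p _ hp
      simp only [Finset.mem_insert, Finset.mem_singleton, not_or] at hp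
      rw [coordVec_baseM, if_neg hp.1, if_neg hp.2, zero_mul]
  rw [dot_vecU'] at hU
  change 4 * coordVec w ptP + _ = 24 at hU
  rcases shape_cases w hn with h | h | h
  · obtain ⟨i, j, hij, hi, hj, h0⟩ := h
    rw [sum_of_support {i, j} (fun p hp => by
      simp only [Finset.mem_insert, Finset.mem_singleton, not_or] at hp; exact h0 p hp.1 hp.2),
      Finset.sum_pair hij] at hU
    have bi := abs_choice (coordVec w i)
    have bj := abs_choice (coordVec w j)
    have hP : coordVec w ptP ≠ 0 := by
      intro e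
      rcases bi with a | a <;> rcases bj with b | b <;> rw [a] at hi <;> rw [b] at hj <;> omega
    have hQ : coordVec w ptQ ≠ 0 := hM' ▸ hP
    have hPs : ptP = i ∨ ptP = j := by
      by_contra hc; push Not at hc; exact hP (h0 _ hc.1 hc.2)
    have hQs : ptQ = i ∨ ptQ = j := by
      by_contra hc; push Not at hc; exact hQ (h0 _ hc.1 hc.2)
    refine Or.inl (leech_ext fun p => ?_)
    rw [coordVec_baseP]
    have h4 : coordVec w ptP = 4 := by
      rcases hPs with e | e <;> rcases hQs with e' | e' <;>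
        first
        | exact absurd (e.trans e'.symm) ptP_ne_ptQ
        | (rw [← e, ← e', ← hM'] at hU
           rcases bi with a | a <;> rcases bj with b | b <;> rw [a] at hi <;> rw [b] at hj <;>
             omega)
    by_cases hp : p = ptP ∨ p = ptQ
    · rw [if_pos hp]
      rcases hp with rfl | rfl
      exacts [h4, hM'.symm.trans h4]
    · rw [if_neg hp]
      push Not at hp
      refine h0 p (fun e => ?_) (fun e => ?_)
      · rcases hPs with e1 | e1
        · exact hp.1 (e.trans e1.symm)
        · rcases hQs with e2 | e2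
          · exact hp.2 (e.trans e2.symm)
          · exact ptP_ne_ptQ (e1.trans e2.symm)
      · rcases hPs with e1 | e1
        · rcases hQs with e2 | e2
          · exact ptP_ne_ptQ (e1.trans e2.symm)
          · exact hp.2 (e.trans e2.symm)
        · exact hp.1 (e.trans e1.symm)
  · obtain ⟨O, hO, h2, h0⟩ := h
    rw [sum_of_support O h0] at hU
    have hb : ∀ p ∈ O, coordVec w p ≤ 2 := fun p hp => (le_abs_self _).trans (h2 p hp).le
    have hsum : ∑ p ∈ O, coordVec w p ≤ 16 := by
      refine (Finset.sum_le_sum hb).trans ?_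
      rw [Finset.sum_const, CfsgLib.Golay.card_eq_of_mem_octads hO]; norm_num
    have hP : ptP ∈ O := by
      by_contra hc
      rw [h0 _ hc] at hU; omega
    have hQ : ptQ ∈ O := by
      by_contra hc
      rw [hM', h0 _ hc] at hU; omega
    have hall : ∀ p ∈ O, coordVec w p = 2 := by
      have h4 := hb ptP hP
      have hge : ∑ p ∈ O, coordVec w p = 16 := by omega
      refine (Finset.sum_eq_sum_iff_of_le hb).1 ?_
      rw [hge, Finset.sum_const, CfsgLib.Golay.card_eq_of_mem_octads hO]; norm_num
    refine Or.inr (Or.inr ⟨⟨O, hO, Finset.insert_subset hP (Finset.singleton_subset_iff.2 hQ)⟩,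
      trivial, leech_ext fun p => ?_⟩)
    rw [coordVec_octVec]
    split_ifs with hp
    exacts [(hall p hp).symm, (h0 p hp).symm]
  · obtain ⟨k, h3, h1⟩ := h
    obtain ⟨d, rfl⟩ := exists_odd_word h3 h1
    set C := support₂ (d : GolayPt → ZMod 2) with hC
    have hmem : ∀ p, p ∈ C ↔ (d : GolayPt → ZMod 2) p ≠ 0 := fun p => by simp [hC, support₂]
    have hval : ∀ p, coordVec (signAut d • oddVec k) p =
        if p ∈ C then (if p = k then 3 else -1) else (if p = k then -3 else 1) := fun p => by
      rw [coordVec_signAut, coordVec_oddVec]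
      by_cases hp : (d : GolayPt → ZMod 2) p = 0
      · rw [if_pos hp, if_neg (fun h => (hmem p).1 h hp)]
      · rw [if_neg hp, if_pos ((hmem p).2 hp)]
        split_ifs <;> rfl
    have hs : ∑ p, coordVec (signAut d • oddVec k) p =
        24 - 2 * (C.card : ℤ) + if k ∈ C then 4 else -4 := by
      have hterm : ∀ p, coordVec (signAut d • oddVec k) p =
          (1 + if p ∈ C then (-2 : ℤ) else 0) +
            if p = k then (if k ∈ C then 4 else -4) else 0 := fun p => by
        rw [hval]
        by_cases hp : p = k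
        · subst hp
          by_cases hk : p ∈ C <;> simp [hk]
        · simp only [hp, if_false]
          by_cases hk : p ∈ C <;> simp [hk]
      rw [Finset.sum_congr rfl fun p _ => hterm p, Finset.sum_add_distrib, Finset.sum_add_distrib,
        Finset.sum_ite_eq', if_pos (Finset.mem_univ k), Finset.sum_ite_mem, Finset.univ_inter,
        Finset.sum_const, Finset.sum_const, card_univ_golayPt]
      rw [nsmul_eq_mul, nsmul_eq_mul]
      push_cast
      ring
    have hw4 := CfsgLib.Golay.card_mem_weights (s := C) ⟨_, d.2, rfl⟩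
    rw [hs, hval] at hU
    rw [hval, hval] at hM'
    have hC0 : C.card = 0 := by
      split_ifs at hU hM' <;>
        first | omega | (exfalso; exact ptP_ne_ptQ (Eq.trans ‹ptP = k› (‹ptQ = k›).symm))
    have hnC : ∀ p, p ∉ C := fun p => by simp [Finset.card_eq_zero.1 hC0]
    rw [if_neg (hnC _), if_neg (hnC _), hC0] at hU
    have hkP : k ≠ ptP := by
      intro e
      rw [if_pos e.symm] at hU
      omega
    have hkQ : k ≠ ptQ := by
      intro e
      rw [if_neg (hnC _), if_neg (hnC _), if_neg (Ne.symm hkP), if_pos e.symm] at hM'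
      norm_num at hM'
    refine Or.inr (Or.inl ⟨k, ⟨hkP, hkQ⟩, leech_ext fun p => ?_⟩)
    rw [coordVec_oddVec, hval, if_neg (hnC p)]

/-- The acting group. -/
noncomputable abbrev hsTri : Subgroup Co0 := triGroup baseM

theorem dot_base : sqNorm (coordVec baseP) = 32 ∧ dotInt (coordVec vecU) (coordVec baseP) = 24 ∧
    dotInt (coordVec baseM) (coordVec baseP) = 0 := by
  refine ⟨sqNorm_baseP, dot_vecU_baseP, ?_⟩
  rw [dot_baseP, coordVec_baseM, coordVec_baseM, if_pos rfl, if_neg ptP_ne_ptQ.symm, if_pos rfl]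
  norm_num

theorem orbit_subset {x : leechLattice} (hx : x ∈ orbit hsTri baseP) :
    x = baseP ∨ x ∈ oddPart ∨ x ∈ octPart := by
  obtain ⟨⟨g, hgU, hgM⟩, rfl⟩ := hx
  obtain ⟨hn, hU, hM⟩ := dot_base
  refine classify ?_ ?_ ?_
  · show sqNorm (coordVec (g • baseP)) = 32
    rw [sqNorm_smul', hn]
  · show dotInt (coordVec vecU) (coordVec (g • baseP)) = 24
    have h := CfsgLib.Leech.dotInt_smul g vecU baseP
    rw [show g • vecU = vecU from hgU] at h
    exact h.trans hU
  · show dotInt (coordVec baseM) (coordVec (g • baseP)) = 0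
    have h := CfsgLib.Leech.dotInt_smul g baseM baseP
    rw [show g • baseM = baseM from hgM] at h
    exact h.trans hM

/-- The permutations fixing the two points, inside the stabiliser of `baseP`. -/
theorem perm_mem_stab {τ : M24} (hτ : τ ∈ baseFix) :
    duadHom (Or.inr rfl : IsBaseSign baseM) ⟨τ, hτ⟩ ∈ stabilizer hsTri baseP :=
  (Subgroup.mem_inf.1 (permAut_mem_tri (Or.inl rfl : IsBaseSign baseP) hτ)).2

theorem odd_moves {x y : leechLattice} (hx : x ∈ oddPart) (hy : y ∈ oddPart) :
    ∃ g ∈ stabilizer hsTri baseP, g • x = y := by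
  obtain ⟨k, ⟨hkP, hkQ⟩, rfl⟩ := hx
  obtain ⟨l, ⟨hlP, hlQ⟩, rfl⟩ := hy
  obtain ⟨v, -, hv⟩ := Finset.exists_mem_notMem_of_card_lt_card
    (s := ({ptP, ptQ, k} : Finset GolayPt)) (t := Finset.univ) (by
      rw [card_univ_golayPt]; exact lt_of_le_of_lt Finset.card_le_three (by norm_num))
  obtain ⟨v', -, hv'⟩ := Finset.exists_mem_notMem_of_card_lt_card
    (s := ({ptP, ptQ, l} : Finset GolayPt)) (t := Finset.univ) (by
      rw [card_univ_golayPt]; exact lt_of_le_of_lt Finset.card_le_three (by norm_num))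
  simp only [Finset.mem_insert, Finset.mem_singleton, not_or] at hv hv'
  obtain ⟨σ, hσ, sP, sQ, sk, -⟩ := exists_M24_quad (a := ptP) (b := ptQ) (c := k) (d := v)
    (a' := ptP) (b' := ptQ) (c' := l) (d' := v')
    (by simp [ptP_ne_ptQ, Ne.symm hkP, Ne.symm hkQ, Ne.symm hv.1, Ne.symm hv.2.1, Ne.symm hv.2.2])
    (by simp [ptP_ne_ptQ, Ne.symm hlP, Ne.symm hlQ, Ne.symm hv'.1, Ne.symm hv'.2.1, Ne.symm hv'.2.2])
  refine ⟨_, perm_mem_stab (τ := ⟨σ, hσ⟩) ⟨sP, sQ⟩, leech_ext fun p => ?_⟩
  show coordVec (permAut ⟨σ, hσ⟩ • oddVec k) p = _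
  rw [coordVec_permAut, coordVec_oddVec, coordVec_oddVec]
  have hiff : σ.symm p = k ↔ p = l := by rw [Equiv.symm_apply_eq, sk]
  exact if_congr hiff rfl rfl

theorem oct_moves {x y : leechLattice} (hx : x ∈ octPart) (hy : y ∈ octPart) :
    ∃ g ∈ stabilizer hsTri baseP, g • x = y := by
  obtain ⟨⟨O, hO, hsub⟩, -, rfl⟩ := hx
  obtain ⟨⟨O', hO', hsub'⟩, -, rfl⟩ := hy
  simp only [Finset.insert_subset_iff, Finset.singleton_subset_iff] at hsub hsub'
  obtain ⟨σ, hσO, sP, sQ⟩ := exists_M24_octad_pair hO hO' hsub.1 hsub.2 ptP_ne_ptQ hsub'.1 hsub'.2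
    ptP_ne_ptQ
  refine ⟨_, perm_mem_stab (τ := σ) ⟨sP, sQ⟩, leech_ext fun p => ?_⟩
  show coordVec (permAut σ • octVec hO) p = _
  rw [coordVec_permAut, coordVec_octVec, coordVec_octVec]
  have hiff : (σ : Equiv.Perm GolayPt).symm p ∈ O ↔ p ∈ O' := by
    rw [← mem_smul_iff_apply hσO, Equiv.apply_symm_apply]
  exact if_congr hiff rfl rfl

theorem card_stab_dvd : 443520 ∣ Nat.card (stabilizer hsTri baseP) := by
  let hom : baseFix →* stabilizer hsTri baseP :=
    (duadHom (Or.inr rfl : IsBaseSign baseM)).codRestrict _ fun τ => perm_mem_stab τ.2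
  have hinj : Function.Injective hom := fun a b h =>
    duadHom_injective (Or.inr rfl : IsBaseSign baseM) (congrArg Subtype.val h)
  rw [← CfsgLib.Golay.card_stabilizer_two ptP_ne_ptQ]
  exact Subgroup.card_dvd_of_injective hom hinj

theorem finite_tri : Finite hsTri := by
  have := finite_Co0
  infer_instance

theorem finite_orbit : (orbit hsTri baseP).Finite := by
  have := finite_tri
  exact Set.finite_range _

theorem baseP_notMem_odd : baseP ∉ oddPart := by
  rintro ⟨k, -, h⟩
  have := congrArg (fun v => coordVec v ptP) h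
  simp only [coordVec_oddVec, coordVec_baseP, true_or, if_true] at this
  split_ifs at this <;> norm_num at this

theorem baseP_notMem_oct : baseP ∉ octPart := by
  rintro ⟨⟨O, hO, hs'⟩, _, h⟩
  have := congrArg (fun v => coordVec v ptP) h
  simp only [coordVec_octVec, coordVec_baseP, true_or, if_true] at this
  split_ifs at this <;> norm_num at this

theorem disjoint_parts : Disjoint oddPart octPart := by
  rw [Set.disjoint_left]
  rintro x ⟨k, ⟨hkP, -⟩, rfl⟩ ⟨⟨O, hO, hs'⟩, _, h⟩
  have := congrArg (fun v => coordVec v ptP) h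
  simp only [coordVec_octVec, coordVec_oddVec, if_neg (Ne.symm hkP)] at this
  split_ifs at this <;> norm_num at this

theorem orbit_full {A : Set leechLattice}
    (hA : ∀ x ∈ A, ∀ y ∈ A, ∃ g ∈ stabilizer hsTri baseP, g • x = y) :
    orbit hsTri baseP ∩ A = ∅ ∨ A ⊆ orbit hsTri baseP := by
  rcases Set.eq_empty_or_nonempty (orbit hsTri baseP ∩ A) with h | ⟨x, ⟨k, rfl⟩, hxA⟩
  · exact Or.inl h
  · refine Or.inr fun y hy => ?_
    obtain ⟨g, -, rfl⟩ := hA _ hxA y hy
    exact ⟨g * k, mul_smul _ _ _⟩

theorem orbit_eq_all : orbit hsTri baseP = insert baseP (oddPart ∪ octPart) := by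
  have := finite_tri
  have hfin := finite_orbit
  set O := orbit hsTri baseP with hO
  have hmul := MulAction.index_stabilizer hsTri baseP
  have hdec : O = insert baseP ((O ∩ oddPart) ∪ (O ∩ octPart)) := by
    ext x
    refine ⟨fun hx => ?_, ?_⟩
    · rcases orbit_subset hx with h | h | h
      exacts [Or.inl h, Or.inr (Or.inl ⟨hx, h⟩), Or.inr (Or.inr ⟨hx, h⟩)]
    · rintro (rfl | h | h)
      exacts [mem_orbit_self _, h.1, h.1]
  have hcard : O.ncard = 1 + ((O ∩ oddPart).ncard + (O ∩ octPart).ncard) := by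
    conv_lhs => rw [hdec]
    rw [Set.ncard_insert_of_notMem _ ((hfin.inter_of_left _).union (hfin.inter_of_left _)),
      Set.ncard_union_eq (disjoint_parts.mono Set.inter_subset_right Set.inter_subset_right)
        (hfin.inter_of_left _) (hfin.inter_of_left _), add_comm]
    rintro (h | h)
    exacts [baseP_notMem_odd h.2, baseP_notMem_oct h.2]
  obtain ⟨t, ht⟩ := card_stab_dvd
  have hprod := (stabilizer hsTri baseP).index_mul_card
  rw [hmul, ← hO, ht, natCard_triGroup_baseM] at hprod
  have h1 : O.ncard ≠ 1 := by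
    intro h
    have htop : stabilizer hsTri baseP = ⊤ := Subgroup.index_eq_one.1 (hmul.trans h)
    have hle : hsTri ≤ triGroup baseP := fun g hg => by
      refine Subgroup.mem_inf.2 ⟨(Subgroup.mem_inf.1 hg).1, ?_⟩
      exact (htop ▸ Subgroup.mem_top _ : (⟨g, hg⟩ : hsTri) ∈ stabilizer hsTri baseP)
    have h2 := Subgroup.card_dvd_of_le hle
    rw [natCard_triGroup_baseM, natCard_triGroup_baseP] at h2
    norm_num at h2
  have hdvd : O.ncard * t = 100 := by
    have : O.ncard * (443520 * t) = 443520 * (O.ncard * t) := by ring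
    rw [this] at hprod
    omega
  rcases orbit_full (A := oddPart) (fun _ hx _ hy => odd_moves hx hy) with ha | ha <;>
    rcases orbit_full (A := octPart) (fun _ hx _ hy => oct_moves hx hy) with hb | hb
  · rw [← hO] at ha hb; rw [ha, hb, Set.ncard_empty] at hcard; omega
  · rw [← hO] at ha hb
    rw [ha, Set.inter_eq_right.2 hb, Set.ncard_empty, ncard_octPart] at hcard
    rw [hcard] at hdvd; omega
  · rw [← hO] at ha hb
    rw [hb, Set.inter_eq_right.2 ha, Set.ncard_empty, ncard_oddPart] at hcard
    rw [hcard] at hdvd; omega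
  · rw [← hO] at ha hb
    rw [hdec, Set.inter_eq_right.2 ha, Set.inter_eq_right.2 hb]

theorem card_orbit : (orbit hsTri baseP).ncard = 100 := by
  have hfin : oddPart.Finite := Set.toFinite _ |>.image _
  have hfin' : octPart.Finite := Set.toFinite _ |>.image _
  rw [orbit_eq_all, Set.ncard_insert_of_notMem (by simp [baseP_notMem_odd, baseP_notMem_oct])
    (hfin.union hfin'), Set.ncard_union_eq disjoint_parts hfin hfin', ncard_oddPart, ncard_octPart]

theorem stab_orbit {A : Set leechLattice} {b : leechLattice} (hb : b ∈ A)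
    (hA : A = oddPart ∨ A = octPart) : orbit (stabilizer hsTri baseP) b = A := by
  have hmoves : ∀ x ∈ A, ∀ y ∈ A, ∃ g ∈ stabilizer hsTri baseP, g • x = y := by
    rcases hA with rfl | rfl
    exacts [fun _ hx _ hy => odd_moves hx hy, fun _ hx _ hy => oct_moves hx hy]
  refine Set.Subset.antisymm ?_ fun y hy => ?_
  · -- the stabiliser is the image of the permutations
    have := finite_tri
    let hom : baseFix →* stabilizer hsTri baseP :=
      (duadHom (Or.inr rfl : IsBaseSign baseM)).codRestrict _ fun τ => perm_mem_stab τ.2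
    have hinj : Function.Injective hom := fun x y h =>
      duadHom_injective (Or.inr rfl : IsBaseSign baseM) (congrArg Subtype.val h)
    have hsurj : Function.Surjective hom := by
      refine ((Nat.bijective_iff_injective_and_card hom).2 ⟨hinj, ?_⟩).2
      rw [CfsgLib.Golay.card_stabilizer_two ptP_ne_ptQ]
      have h := (stabilizer hsTri baseP).index_mul_card
      rw [MulAction.index_stabilizer, card_orbit, natCard_triGroup_baseM] at h
      omega
    rintro _ ⟨g, rfl⟩
    obtain ⟨⟨τ, hτ⟩, rfl⟩ := hsurj g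
    show permAut τ • b ∈ A
    have hP : (τ : Equiv.Perm GolayPt) ptP = ptP := hτ.1
    have hQ : (τ : Equiv.Perm GolayPt) ptQ = ptQ := hτ.2
    rcases hA with rfl | rfl
    · obtain ⟨k, ⟨hkP, hkQ⟩, rfl⟩ := hb
      refine ⟨(τ : Equiv.Perm GolayPt) k, ⟨fun e => hkP ((τ : Equiv.Perm GolayPt).injective
        (e.trans hP.symm)), fun e => hkQ ((τ : Equiv.Perm GolayPt).injective (e.trans hQ.symm))⟩,
        leech_ext fun p => ?_⟩
      rw [coordVec_permAut, coordVec_oddVec, coordVec_oddVec]
      exact if_congr (Equiv.symm_apply_eq _).symm rfl rfl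
    · obtain ⟨⟨o, ho, hsub⟩, -, rfl⟩ := hb
      simp only [Finset.insert_subset_iff, Finset.singleton_subset_iff] at hsub
      refine ⟨⟨τ • o, smul_mem_octads _ ho, ?_⟩, trivial, leech_ext fun p => ?_⟩
      · simp only [Finset.insert_subset_iff, Finset.singleton_subset_iff]
        constructor
        · exact hP ▸ Finset.smul_mem_smul_finset (a := τ) hsub.1
        · exact hQ ▸ Finset.smul_mem_smul_finset (a := τ) hsub.2
      · show coordVec (octVec _) p = coordVec (permAut τ • octVec ho) p
        rw [coordVec_permAut, coordVec_octVec, coordVec_octVec]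
        refine if_congr ?_ rfl rfl
        have := mem_smul_iff_apply (σ := τ) (O := o) rfl ((τ : Equiv.Perm GolayPt).symm p)
        rwa [Equiv.apply_symm_apply] at this
  · obtain ⟨g, hg, rfl⟩ := hmoves b hb y hy
    exact ⟨⟨g, hg⟩, rfl⟩

open HSRankThree in
theorem tri_equiv : Nonempty (hsTri ≃* HS.hsGroup) := by
  have := finite_tri
  let V := orbit hsTri baseP
  have : Fintype V := finite_orbit.fintype
  obtain ⟨b₀, hb₀⟩ := Set.nonempty_of_ncard_ne_zero (s := oddPart) (by rw [ncard_oddPart]; norm_num)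
  obtain ⟨c₀, hc₀⟩ := Set.nonempty_of_ncard_ne_zero (s := octPart) (by rw [ncard_octPart]; norm_num)
  let a : V := ⟨baseP, mem_orbit_self _⟩
  let b : V := ⟨b₀, by show b₀ ∈ orbit hsTri baseP; rw [orbit_eq_all]; exact Or.inr (Or.inl hb₀)⟩
  let c : V := ⟨c₀, by show c₀ ∈ orbit hsTri baseP; rw [orbit_eq_all]; exact Or.inr (Or.inr hc₀)⟩
  have horb : ∀ x : V, (orbit (stabilizer hsTri a) x).ncard =
      (orbit (stabilizer hsTri baseP) (x : leechLattice)).ncard := by
    intro x
    rw [← Set.ncard_image_of_injective _ Subtype.val_injective]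
    congr 1
    ext y
    constructor
    · rintro ⟨_, ⟨g, rfl⟩, rfl⟩
      exact ⟨⟨g, congrArg Subtype.val g.2⟩, rfl⟩
    · rintro ⟨g, rfl⟩
      exact ⟨_, ⟨⟨g, Subtype.ext g.2⟩, rfl⟩, rfl⟩
  have H : Sub hsTri a b c := ⟨(Nat.card_coe_set_eq V).trans card_orbit,
    by rw [horb, stab_orbit hb₀ (Or.inl rfl), ncard_oddPart],
    by rw [horb, stab_orbit hc₀ (Or.inr rfl), ncard_octPart]⟩
  have := isSimpleGroup_triGroup_baseM
  have : FaithfulSMul hsTri V := by
    constructor
    intro g h hgh
    rcases (inferInstance : (MulAction.toPermHom hsTri V).ker.Normal).eq_bot_or_eq_top with hk | hk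
    · exact (MonoidHom.ker_eq_bot_iff _).1 hk (Equiv.ext hgh)
    · exfalso
      obtain ⟨g, hg⟩ := exists_smul_eq hsTri a b
      have h1 : (MulAction.toPermHom hsTri V) g = 1 := (hk ▸ Subgroup.mem_top g :)
      have h2 : a = b := by
        rw [← hg]
        exact (congrArg (fun σ : Equiv.Perm V => σ a) h1).symm
      have h3 := (suborbit_facts H).1
      rw [h2] at h3
      exact h3 (mem_orbit_self b)
  exact nonempty_mulEquiv_hsGroup H natCard_triGroup_baseM

theorem leechV_eq : Spor.leechV = -vecU := by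
  refine leech_ext fun p => ?_
  show Spor.vecV p = -coordVec vecU p
  rw [Spor.vecV, coordVec_vecU]
  split_ifs <;> norm_num

theorem leechU'_eq : Spor.leechU' = baseM := by
  refine leech_ext fun p => ?_
  show Spor.vecU' p = coordVec baseM p
  rw [Spor.vecU', coordVec_baseM]
  rfl

theorem hs_eq_map : Spor.HS = hsTri.map Co0.subtype := by
  ext x
  simp only [Spor.HS, Spor.Co3, Subgroup.mem_inf, MulAction.mem_stabilizer_iff, leechV_eq,
    leechU'_eq, Subgroup.mem_map]
  constructor
  · rintro ⟨⟨hx, hv⟩, hu⟩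
    refine ⟨⟨x, hx⟩, ⟨?_, hu⟩, rfl⟩
    have h : (⟨x, hx⟩ : Co0) • (-vecU) = -vecU := hv
    rw [smul_neg_co0, neg_inj] at h
    exact h
  · rintro ⟨g, ⟨hv, hu⟩, rfl⟩
    refine ⟨⟨g.2, ?_⟩, hu⟩
    show g • (-vecU) = -vecU
    rw [smul_neg_co0, hv]

theorem card_M22 : Nat.card Spor.M22 = 443520 := by
  rw [← CfsgLib.Golay.card_stabilizer_two ptP_ne_ptQ,
    ← Subgroup.card_map_of_injective M24.subtype_injective
      (K := MulAction.stabilizer M24 ptP ⊓ MulAction.stabilizer M24 ptQ)]
  suffices h : Spor.M22 =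
      (MulAction.stabilizer M24 ptP ⊓ MulAction.stabilizer M24 ptQ).map M24.subtype by rw [h]
  ext x
  simp only [Spor.M22, Spor.M23, Subgroup.mem_inf, MulAction.mem_stabilizer_iff, Subgroup.mem_map]
  exact ⟨fun h => ⟨⟨x, h.1.1⟩, ⟨h.1.2, h.2⟩, rfl⟩, by rintro ⟨g, ⟨h1, h2⟩, rfl⟩; exact ⟨⟨g.2, h1⟩, h2⟩⟩

open HSRankThree in
/-- Recognition of the Higman–Sims group by its rank three action on 100 points. -/
theorem isoHS {Ω : Type*} [Fintype Ω] [DecidableEq Ω] (hΩ : Fintype.card Ω = 100)
    (G : Subgroup (Equiv.Perm Ω)) [MulAction.IsPretransitive G Ω] (a : Ω)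
    (e : MulAction.stabilizer G a ≃* Cfsg.Spor.M22) (b c : Ω)
    (hb : (MulAction.orbit (MulAction.stabilizer G a) b).ncard = 22)
    (hc : (MulAction.orbit (MulAction.stabilizer G a) c).ncard = 77) : Cfsg.Spor.IsoHS G := by
  have hΩ' : Nat.card Ω = 100 := Nat.card_eq_fintype_card.trans hΩ
  have hcard : Nat.card G = 44352000 := by
    have h := (MulAction.stabilizer G a).index_mul_card
    rw [MulAction.index_stabilizer_of_transitive G a, hΩ', Nat.card_congr e.toEquiv, card_M22] at h
    omega
  obtain ⟨f⟩ := nonempty_mulEquiv_hsGroup (K := G) ⟨hΩ', hb, hc⟩ hcard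
  obtain ⟨g⟩ := tri_equiv
  exact ⟨f.trans (g.symm.trans ((hsTri.equivMapOfInjective _ Co0.subtype_injective).trans
    (MulEquiv.subgroupCongr hs_eq_map.symm)))⟩

end CfsgLib.Mathieu.HSLattice
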