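import Cfsg.Prelude.Def_KGroupFacts
import Cfsg.Agent.Lib.Mathieu.CoThreeOut
import Cfsg.Agent.Lib.Mathieu.HSLattice

/-!
Every automorphism of the third Conway group is inner: it can be moved to fix the point
stabiliser pointwise, and the point stabiliser is maximal enough to force it to be trivial.
-/

set_option autoImplicit false

namespace CfsgLib.Mathieu.CoThreeOut

open MulAction Cfsg CfsgLib.GolayStructure CfsgLib.Leech CfsgLib.Fischer2
open scoped Pointwise Classical

local instance fact_prime_eleven_ca : Fact (Nat.Prime 11) := ⟨by norm_num⟩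
local instance fact_prime_twentythree_ca : Fact (Nat.Prime 23) := ⟨by norm_num⟩

theorem inn_eq_top_congr {G H : Type*} [Group G] [Group H] (e : G ≃* H) (h : Inn G = ⊤) :
    Inn H = ⊤ := by
  rw [eq_top_iff]
  rintro φ -
  obtain ⟨g, hg⟩ : (MulAut.congr e).symm φ ∈ Inn G := h ▸ Subgroup.mem_top _
  refine ⟨e g, MulEquiv.ext fun x => ?_⟩
  have := congrArg e (DFunLike.congr_fun hg (e.symm x))
  simpa using this

theorem map_subtype_conj {G : Type*} [Group G] {N : Subgroup G} {A B : Subgroup G} (hA : A ≤ N)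
    (hB : B ≤ N) {y : N} (h : (A.subgroupOf N).map (MulAut.conj y : N →* N) = B.subgroupOf N) :
    A.map (MulAut.conj (y : G) : G →* G) = B := by
  have h1 := congrArg (Subgroup.map N.subtype) h
  have h2 : N.subtype.comp (MulAut.conj y : N →* N) =
      (MulAut.conj (y : G) : G →* G).comp N.subtype := by
    ext x; simp
  rwa [Subgroup.map_map, h2, ← Subgroup.map_map, Subgroup.map_subgroupOf_eq_of_le hA,
    Subgroup.map_subgroupOf_eq_of_le hB] at h1

theorem map_conj_of_mem_normalizer {G : Type*} [Group G] {A : Subgroup G} {y : G}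
    (hy : y ∈ Subgroup.normalizer (A : Set G)) : A.map (MulAut.conj y : G →* G) = A := by
  ext x
  constructor
  · rintro ⟨r, hr, rfl⟩
    exact (Subgroup.mem_normalizer_iff.1 hy r).1 hr
  · intro hx
    refine ⟨y⁻¹ * x * y, ?_, by simp [mul_assoc]⟩
    have := (Subgroup.mem_normalizer_iff.1 (inv_mem hy) x).1 hx
    simpa using this

/-- The point stabiliser is `M23`. -/
noncomputable def pointM23 : pointStab ≃* Spor.M23 where
  toFun x := ⟨((x : M24) : Equiv.Perm GolayPt), (x : M24).2, x.2⟩
  invFun x := ⟨⟨x.1, x.2.1⟩, x.2.2⟩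
  left_inv x := rfl
  right_inv x := rfl
  map_mul' x y := rfl

theorem inn_pointStab : Inn pointStab = ⊤ := by
  have : Fact (Nat.Prime CfsgLib.OutMathieu.certM23.p) := ⟨show Nat.Prime 23 by norm_num⟩
  have h : Nat.card (Cfsg.Out Spor.M23) = 1 := by
    refine CfsgLib.OutMathieu.Cert.natCard_out_eq_one CfsgLib.OutMathieu.certM23_valid
      CfsgLib.OutMathieu.certM23_noInv CfsgLib.OutMathieu.M23_eq_stabK ?_
    rw [CfsgLib.OutMathieu.M23_eq_stabK, CfsgLib.Golay.card_stabK_point]
    decide +kernel
  exact inn_eq_top_congr pointM23.symm (Subgroup.index_eq_one.1 h)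

theorem isSimple_pointStab : IsSimpleGroup pointStab :=
  CfsgLib.Golay.isSimpleGroup_point (none : GolayPt)

/-- The normaliser of a subgroup of order 11 does not centralise it. -/
theorem not_normalizer_le_centralizer {R : Subgroup pointStab} (hR : Nat.card R = 11) :
    ¬ Subgroup.normalizer (R : Set pointStab) ≤ Subgroup.centralizer (R : Set pointStab) := by
  intro h
  obtain ⟨P, hP⟩ := (IsPGroup.of_card (n := 1) (hR.trans (pow_one 11).symm) :
    IsPGroup 11 R).exists_le_sylow
  obtain ⟨k, hk⟩ := IsPGroup.iff_card.1 P.isPGroup'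
  have hk1 : k ≤ 1 := by
    by_contra hlt
    have h1 := (P : Subgroup pointStab).card_subgroup_dvd_card
    rw [hk, card_pointStab] at h1
    exact absurd ((pow_dvd_pow 11 (show 2 ≤ k by omega)).trans h1) (by norm_num)
  have hPR : R = (P : Subgroup pointStab) := Subgroup.eq_of_le_of_card_ge hP (by
    rw [hR, hk]; exact (Nat.pow_le_pow_right (by norm_num) hk1).trans_eq (pow_one 11))
  subst hPR
  have := isSimple_pointStab
  have hc := (MonoidHom.ker_transferSylow_isComplement' P h).card_mul_card
  rw [hR, card_pointStab] at hc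
  rcases (inferInstance : (MonoidHom.transferSylow P h).ker.Normal).eq_bot_or_eq_top with e | e
  · rw [e, Subgroup.card_bot] at hc
    norm_num at hc
  · rw [e, Subgroup.card_top, card_pointStab] at hc
    norm_num at hc

/-- A normaliser of order 55 has trivial centre. -/
theorem eq_one_of_commute {R : Subgroup pointStab} (hR : Nat.card R = 11) {t : pointStab}
    (ht : t ∈ Subgroup.normalizer (R : Set pointStab))
    (hc : ∀ x ∈ Subgroup.normalizer (R : Set pointStab), t * x = x * t) : t = 1 := by
  by_contra ht1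
  refine not_normalizer_le_centralizer hR fun x hx => ?_
  rw [Subgroup.mem_centralizer_iff]
  intro a ha
  by_cases htR : t ∈ R
  · have hz : Subgroup.zpowers t = R := by
      refine Subgroup.eq_of_le_of_card_ge (Subgroup.zpowers_le.2 htR) ?_
      have hd := Subgroup.card_dvd_of_le (Subgroup.zpowers_le.2 htR)
      rw [hR] at hd
      rcases (Nat.dvd_prime (by norm_num)).1 hd with e | e
      · rw [Nat.card_zpowers, orderOf_eq_one_iff] at e
        exact absurd e ht1
      · rw [hR, e]
    have ha' : a ∈ Subgroup.zpowers t := hz.symm ▸ ha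
    obtain ⟨i, rfl⟩ := Subgroup.mem_zpowers_iff.1 ha'
    exact (Commute.zpow_left (hc x hx) i).eq
  · have hle : R ⊔ Subgroup.zpowers t ≤ Subgroup.normalizer (R : Set pointStab) :=
      sup_le Subgroup.le_normalizer (Subgroup.zpowers_le.2 ht)
    have hd := Subgroup.card_dvd_of_le hle
    have hd' := Subgroup.card_dvd_of_le (le_sup_left : R ≤ R ⊔ Subgroup.zpowers t)
    rw [card_normalizer_eleven R hR] at hd
    rw [hR] at hd'
    obtain ⟨j, hj⟩ := hd'
    rw [hj] at hd
    have hj5 : j ∣ 5 := Nat.dvd_of_mul_dvd_mul_left (by norm_num : 0 < 11) hd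
    rcases (Nat.dvd_prime (by norm_num)).1 hj5 with rfl | rfl
    · refine absurd ?_ htR
      have := Subgroup.eq_of_le_of_card_ge (le_sup_left : R ≤ R ⊔ Subgroup.zpowers t)
        (by rw [hR, hj])
      rw [this]
      exact Subgroup.mem_sup_right (Subgroup.mem_zpowers t)
    · have htop := Subgroup.eq_of_le_of_card_ge hle (by rw [card_normalizer_eleven R hR, hj])
      rw [← htop] at hx
      have hcom : R ⊔ Subgroup.zpowers t ≤ Subgroup.centralizer ({a} : Set pointStab) := by
        refine sup_le (fun r hr => ?_) (Subgroup.zpowers_le.2 ?_)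
        · rw [Subgroup.mem_centralizer_singleton_iff]
          have := isCyclic_of_prime_card hR
          exact congrArg Subtype.val (IsCyclic.commGroup.mul_comm (⟨r, hr⟩ : R) ⟨a, ha⟩)
        · rw [Subgroup.mem_centralizer_singleton_iff]
          exact hc a (Subgroup.le_normalizer ha)
      exact (Subgroup.mem_centralizer_singleton_iff.1 (hcom hx)).symm

set_option maxHeartbeats 1600000 in
/-- An automorphism fixing the point stabiliser pointwise is trivial. -/
theorem eq_one_of_fix (δ : MulAut coThreeGroup) (hM : ∀ x ∈ pointRange, δ x = x)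
    {R : Subgroup pointStab} (hR : Nat.card R = 11) : δ = 1 := by
  have := finite_Co0
  set R' : Subgroup coThreeGroup := R.map pointHom with hR'
  set N := Subgroup.normalizer (R' : Set coThreeGroup) with hN
  obtain ⟨hN110, hE55⟩ := normalizer_eleven_facts R hR
  rw [← hR', ← hN] at hN110 hE55
  set E := N ⊓ pointRange with hE
  have hR'M : R' ≤ pointRange := by rintro _ ⟨r, -, rfl⟩; exact ⟨r, rfl⟩
  have hR'c : Nat.card R' = 11 := by rw [hR', Subgroup.card_map_of_injective pointHom_injective, hR]
  have hfixR : R'.map (δ : coThreeGroup →* coThreeGroup) = R' := by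
    ext x
    constructor
    · rintro ⟨r, hr, rfl⟩
      show δ r ∈ R'
      rwa [hM r (hR'M hr)]
    · intro hx
      exact ⟨x, hx, hM x (hR'M hx)⟩
  have hfixN : ∀ x ∈ N, δ x ∈ N := fun x hx =>
    (show N.map (δ : coThreeGroup →* coThreeGroup) = N by
      rw [hN, map_normalizer_equiv, hfixR]).le ⟨x, hx, rfl⟩
  have hidx : (E.subgroupOf N).index = 2 := by
    have h := (E.subgroupOf N).index_mul_card
    rw [Nat.card_congr (Subgroup.subgroupOfEquivOfLe (inf_le_left : E ≤ N)).toEquiv, hE55, hN110]
      at h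
    omega
  have hiff : ∀ x ∈ N, ∀ y ∈ N, (x * y ∈ pointRange ↔ (x ∈ pointRange ↔ y ∈ pointRange)) := by
    intro x hx y hy
    have h := Subgroup.mul_mem_iff_of_index_two hidx (a := (⟨x, hx⟩ : N)) (b := ⟨y, hy⟩)
    simpa only [Subgroup.mem_subgroupOf, Subgroup.coe_mul, hE, Subgroup.mem_inf, hx, hy,
      mul_mem hx hy, true_and] using h
  obtain ⟨u, huN, huM⟩ : ∃ u ∈ N, u ∉ pointRange := by
    by_contra hne
    push Not at hne
    rw [hE, inf_eq_left.2 hne] at hE55
    omega
  have hδu : δ u ∈ N := hfixN u huN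
  have hδuM : δ u ∉ pointRange := fun h => huM (δ.injective (hM _ h) ▸ h)
  have hrM : u⁻¹ * δ u ∈ pointRange := (hiff _ (inv_mem huN) _ hδu).2
    (iff_of_false (fun h => huM (inv_inv u ▸ inv_mem h)) hδuM)
  obtain ⟨t, ht⟩ := hrM
  have htN : t ∈ Subgroup.normalizer (R : Set pointStab) := by
    have h1 : pointHom t ∈ (Subgroup.normalizer (R : Set pointStab)).map pointHom := by
      rw [map_normalizer pointHom_injective]
      exact Subgroup.mem_inf.2 ⟨ht ▸ mul_mem (inv_mem huN) hδu, t, rfl⟩
    exact (Subgroup.mem_map_iff_mem pointHom_injective).1 h1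
  have ht1 : t = 1 := by
    refine eq_one_of_commute hR htN fun x hx => pointHom_injective ?_
    have hxN : pointHom x ∈ N ⊓ pointRange := by
      rw [hN, hR', ← map_normalizer pointHom_injective]
      exact Subgroup.mem_map_of_mem _ hx
    obtain ⟨hxN, hxM⟩ := Subgroup.mem_inf.1 hxN
    have hux : u * pointHom x * u⁻¹ ∈ pointRange := by
      rw [hiff _ (mul_mem huN hxN) _ (inv_mem huN), hiff _ huN _ hxN]
      exact iff_of_false (fun h => huM (h.2 hxM)) (fun h => huM (inv_inv u ▸ inv_mem h))
    have h1 := hM _ hux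
    rw [map_mul, map_mul, map_inv, hM _ hxM] at h1
    rw [map_mul, map_mul, ht]
    calc u⁻¹ * δ u * pointHom x
        = u⁻¹ * (δ u * pointHom x * (δ u)⁻¹) * δ u := by group
      _ = u⁻¹ * (u * pointHom x * u⁻¹) * δ u := by rw [h1]
      _ = pointHom x * (u⁻¹ * δ u) := by group
  have hu : δ u = u := by
    rw [ht1, map_one] at ht
    exact (inv_mul_eq_one.1 ht.symm).symm
  set L := MonoidHom.eqLocus (δ : coThreeGroup →* coThreeGroup) (MonoidHom.id coThreeGroup) with hL
  have hML : pointRange ≤ L := fun x hx => hM x hx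
  have hNL : N ≤ L := by
    intro x hx
    by_cases hxM : x ∈ pointRange
    · exact hM x hxM
    · have h1 : u⁻¹ * x ∈ pointRange := (hiff _ (inv_mem huN) _ hx).2
        (iff_of_false (fun h => huM (inv_inv u ▸ inv_mem h)) hxM)
      show δ x = x
      calc δ x = δ u * δ (u⁻¹ * x) := by rw [← map_mul, mul_inv_cancel_left]
        _ = x := by rw [hu, hM _ h1, mul_inv_cancel_left]
  have hlocal : ∀ (p : ℕ) (_ : Fact p.Prime) (Q : Subgroup coThreeGroup), Nat.card Q = p →
      ¬ p * p ∣ Nat.card coThreeGroup → Subgroup.normalizer (Q : Set coThreeGroup) ≤ L →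
      ∃ n, n % p = 1 ∧ n * Nat.card (Subgroup.normalizer (Q : Set coThreeGroup)) = Nat.card L := by
    intro p _ Q hQ h2 hle
    have hQL : Q ≤ L := Subgroup.le_normalizer.trans hle
    obtain ⟨-, n, hn, hmul⟩ := sylow_arith (R := Q.subgroupOf L)
      (by rw [Nat.card_congr (Subgroup.subgroupOfEquivOfLe hQL).toEquiv, hQ])
      (fun h => h2 (h.trans L.card_subgroup_dvd_card))
    refine ⟨n, hn, ?_⟩
    rw [← hmul, ← Subgroup.subgroupOf_normalizer_eq hQL,
      Nat.card_congr (Subgroup.subgroupOfEquivOfLe hle).toEquiv]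
  obtain ⟨n, hn, hn'⟩ := hlocal 23 inferInstance shiftGroup card_shiftGroup
    (by rw [natCard_coThreeGroup]; norm_num) (normalizer_shiftGroup_le.trans hML)
  obtain ⟨k, hk, hk'⟩ := hlocal 11 inferInstance R' hR'c
    (by rw [natCard_coThreeGroup]; norm_num) hNL
  rw [card_normalizer_shiftGroup] at hn'
  rw [← hN, hN110] at hk'
  have hd := Subgroup.card_dvd_of_le hML
  rw [card_pointRange] at hd
  obtain ⟨m, hm⟩ := hd
  have hdK := L.card_subgroup_dvd_card
  rw [natCard_coThreeGroup, hm, show (495766656000 : ℕ) = 10200960 * 48600 by norm_num] at hdK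
  have hm' : m ∣ 48600 := Nat.dvd_of_mul_dvd_mul_left (by norm_num : 0 < 10200960) hdK
  have hmle : m ≤ 48600 := Nat.le_of_dvd (by norm_num) hm'
  have hmod : m % 253 = 24 := by
    have hn2 : n = 40320 * m := by
      refine Nat.eq_of_mul_eq_mul_right (by norm_num : 0 < 253) ?_
      rw [hn', hm]; ring
    have hk2 : k = 92736 * m := by
      refine Nat.eq_of_mul_eq_mul_right (by norm_num : 0 < 110) ?_
      rw [hk', hm]; ring
    have h23 : m % 23 = 1 := by rw [hn2, Nat.mul_mod] at hn; norm_num at hn; exact hn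
    have h11 : m % 11 = 2 := by
      rw [hk2, Nat.mul_mod] at hk
      norm_num at hk
      clear hk2 hn2 hn' hk' hm hdK hm'
      omega
    clear hk2 hn2 hn' hk' hm hdK hm'
    omega
  obtain ⟨j, hj192, rfl⟩ : ∃ j, j ≤ 192 ∧ m = 24 + 253 * j := by
    refine ⟨m / 253, ?_, ?_⟩ <;> (clear hn' hk' hm hdK hm'; omega)
  have hall : ∀ j ≤ 192, (24 + 253 * j) ∣ 48600 → j = 0 ∨ j = 192 := by decide +kernel
  rcases hall j hj192 hm' with rfl | rfl
  · exact absurd hm (index_ne_24 hML)
  · have htop : L = ⊤ := Subgroup.eq_top_of_card_eq _ (by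
      rw [hm, natCard_coThreeGroup])
    refine MulEquiv.ext fun x => ?_
    exact (htop.symm ▸ Subgroup.mem_top x : x ∈ L)

theorem mem_inn_of_fix_two (α : MulAut coThreeGroup)
    (h23 : shiftGroup.map (α : coThreeGroup →* coThreeGroup) = shiftGroup)
    {R : Subgroup pointStab} (hR : Nat.card R = 11)
    (h11 : (R.map pointHom).map (α : coThreeGroup →* coThreeGroup) = R.map pointHom) :
    α ∈ Inn coThreeGroup := by
  have := finite_Co0
  set N := Subgroup.normalizer ((R.map pointHom : Subgroup coThreeGroup) : Set coThreeGroup) with hN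
  obtain ⟨hN110, hE55⟩ := normalizer_eleven_facts R hR
  rw [← hN] at hN110 hE55
  set E := N ⊓ pointRange with hE
  have hNfix : N.map (α : coThreeGroup →* coThreeGroup) = N := by
    rw [hN, map_normalizer_equiv, h11]
  have hidx : (E.subgroupOf N).index = 2 := by
    have h := (E.subgroupOf N).index_mul_card
    rw [Nat.card_congr (Subgroup.subgroupOfEquivOfLe (inf_le_left : E ≤ N)).toEquiv, hE55, hN110]
      at h
    omega
  have hEfix : E.map (α : coThreeGroup →* coThreeGroup) = E := by
    refine Subgroup.eq_of_le_of_card_ge ?_ (by rw [Subgroup.card_map_of_injective α.injective])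
    rintro _ ⟨e, he, rfl⟩
    have hxN : α e ∈ N := hNfix.le ⟨e, (Subgroup.mem_inf.1 he).1, rfl⟩
    have h55 : (α e) ^ 55 = 1 := by
      have h : (⟨e, he⟩ : E) ^ 55 = 1 := hE55 ▸ pow_card_eq_one'
      rw [← map_pow, show e ^ 55 = 1 from congrArg Subtype.val h, map_one]
    have h2 := Subgroup.pow_mem _
      (Subgroup.sq_mem_of_index_two hidx (⟨α e, hxN⟩ : N)) 28
    rw [Subgroup.mem_subgroupOf] at h2
    have h56 : ((α e) ^ 2) ^ 28 = α e := by
      rw [← pow_mul, show 2 * 28 = 55 + 1 from rfl, pow_add, h55, one_mul, pow_one]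
    simp only [SubgroupClass.coe_pow] at h2
    rw [h56] at h2
    exact h2
  have hcomap : (pointRange.map (α : coThreeGroup →* coThreeGroup)).comap pointHom = ⊤ := by
    refine eq_top_of_normalizers hR ?_ ?_
    · rw [← Subgroup.map_le_iff_le_comap, ← normalizer_shiftGroup,
        show Subgroup.normalizer (shiftGroup : Set coThreeGroup) =
          (Subgroup.normalizer (shiftGroup : Set coThreeGroup)).map
            (α : coThreeGroup →* coThreeGroup) by rw [map_normalizer_equiv, h23]]
      exact Subgroup.map_mono normalizer_shiftGroup_le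
    · rw [← Subgroup.map_le_iff_le_comap, map_normalizer pointHom_injective, ← hN]
      show E ≤ _
      rw [← hEfix]
      exact Subgroup.map_mono inf_le_right
  have hMfix : pointRange.map (α : coThreeGroup →* coThreeGroup) = pointRange := by
    refine (Subgroup.eq_of_le_of_card_ge ?_
      (by rw [Subgroup.card_map_of_injective α.injective])).symm
    rintro _ ⟨τ, rfl⟩
    exact (hcomap.symm ▸ Subgroup.mem_top τ :
      τ ∈ (pointRange.map (α : coThreeGroup →* coThreeGroup)).comap pointHom)
  let β : MulAut pointRange := (α.subgroupMap pointRange).trans (MulEquiv.subgroupCongr hMfix)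
  have hβ : ∀ x : pointRange, (β x : coThreeGroup) = α x := fun x => rfl
  obtain ⟨s, hs⟩ : pointEquiv.trans (β.trans pointEquiv.symm) ∈ Inn pointStab :=
    inn_pointStab.symm ▸ Subgroup.mem_top _
  have hα : ∀ x ∈ pointRange, α x = MulAut.conj (pointHom s) x := by
    rintro _ ⟨τ, rfl⟩
    have h : MulAut.conj s τ = pointEquiv.symm (β (pointEquiv τ)) := DFunLike.congr_fun hs τ
    rw [MulEquiv.eq_symm_apply] at h
    have h' := congrArg Subtype.val h
    rw [hβ] at h'
    change pointHom (s * τ * s⁻¹) = α (pointHom τ) at h'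
    rw [← h', map_mul, map_mul, map_inv, MulAut.conj_apply]
  have hone : (MulAut.conj (pointHom s))⁻¹ * α = 1 := by
    refine eq_one_of_fix _ (fun x hx => ?_) hR
    rw [MulAut.mul_apply, hα x hx, ← MulAut.mul_apply, inv_mul_cancel, MulAut.one_apply]
  exact ⟨pointHom s, (inv_mul_eq_one.1 hone :)⟩

theorem inn_coThreeGroup : Inn coThreeGroup = ⊤ := by
  have := finite_Co0
  rw [eq_top_iff]
  rintro α -
  obtain ⟨g, hg⟩ := exists_conj_eq (R := shiftGroup.map (α : coThreeGroup →* coThreeGroup))
    (R' := shiftGroup) (by rw [Subgroup.card_map_of_injective α.injective, card_shiftGroup])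
    card_shiftGroup (by rw [natCard_coThreeGroup]; norm_num)
  suffices h : ∀ β : MulAut coThreeGroup,
      shiftGroup.map (β : coThreeGroup →* coThreeGroup) = shiftGroup → β ∈ Inn coThreeGroup by
    refine (Subgroup.mul_mem_cancel_left _
      (MonoidHom.mem_range.2 ⟨g, rfl⟩ : MulAut.conj g ∈ Inn coThreeGroup)).1
      (h (MulAut.conj g * α) ?_)
    show shiftGroup.map ((MulAut.conj g : coThreeGroup →* coThreeGroup).comp
      (α : coThreeGroup →* coThreeGroup)) = _
    rw [← Subgroup.map_map]
    exact hg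
  intro β hβ
  obtain ⟨⟨r, hr⟩, hr11⟩ := exists_prime_orderOf_dvd_card'
    (G := Subgroup.normalizer ((Subgroup.zpowers shiftPt : Subgroup pointStab) : Set pointStab)) 11
    (by rw [card_normalizer_shift]; norm_num)
  have hR : Nat.card (Subgroup.zpowers r) = 11 := by
    rw [Nat.card_zpowers]; exact (Subgroup.orderOf_coe ⟨r, hr⟩).trans hr11
  set NP := Subgroup.normalizer (shiftGroup : Set coThreeGroup) with hNP
  have hRN : (Subgroup.zpowers r).map pointHom ≤ NP := by
    rw [hNP, normalizer_shiftGroup]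
    exact Subgroup.map_mono (Subgroup.zpowers_le.2 hr)
  have hβN : NP.map (β : coThreeGroup →* coThreeGroup) = NP := by
    rw [hNP, map_normalizer_equiv, hβ]
  have hβR : ((Subgroup.zpowers r).map pointHom).map (β : coThreeGroup →* coThreeGroup) ≤ NP :=
    hβN ▸ Subgroup.map_mono hRN
  obtain ⟨y, hy⟩ := exists_conj_eq (p := 11)
    (R := (((Subgroup.zpowers r).map pointHom).map
      (β : coThreeGroup →* coThreeGroup)).subgroupOf NP)
    (R' := ((Subgroup.zpowers r).map pointHom).subgroupOf NP)
    (by rw [Nat.card_congr (Subgroup.subgroupOfEquivOfLe hβR).toEquiv,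
      Subgroup.card_map_of_injective β.injective,
      Subgroup.card_map_of_injective pointHom_injective, hR])
    (by rw [Nat.card_congr (Subgroup.subgroupOfEquivOfLe hRN).toEquiv,
      Subgroup.card_map_of_injective pointHom_injective, hR])
    (by rw [card_normalizer_shiftGroup]; norm_num)
  refine (Subgroup.mul_mem_cancel_left _
    (MonoidHom.mem_range.2 ⟨(y : coThreeGroup), rfl⟩ :
      MulAut.conj (y : coThreeGroup) ∈ Inn coThreeGroup)).1
    (mem_inn_of_fix_two (MulAut.conj (y : coThreeGroup) * β) ?_ hR ?_)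
  · show shiftGroup.map ((MulAut.conj (y : coThreeGroup) : coThreeGroup →* coThreeGroup).comp
      (β : coThreeGroup →* coThreeGroup)) = _
    rw [← Subgroup.map_map, hβ]
    exact map_conj_of_mem_normalizer y.2
  · show ((Subgroup.zpowers r).map pointHom).map
      ((MulAut.conj (y : coThreeGroup) : coThreeGroup →* coThreeGroup).comp
        (β : coThreeGroup →* coThreeGroup)) = _
    rw [← Subgroup.map_map]
    exact map_subtype_conj hβR hRN hy

theorem co3_eq_map : Spor.Co3 = coThreeGroup.map Co0.subtype := by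
  ext x
  simp only [Spor.Co3, Subgroup.mem_inf, MulAction.mem_stabilizer_iff,
    CfsgLib.Mathieu.HSLattice.leechV_eq, Subgroup.mem_map]
  constructor
  · rintro ⟨hx, hv⟩
    refine ⟨⟨x, hx⟩, ?_, rfl⟩
    have h : (⟨x, hx⟩ : Co0) • (-vecU) = -vecU := hv
    rw [CfsgLib.Leech.smul_neg_co0, neg_inj] at h
    exact h
  · rintro ⟨g, hg, rfl⟩
    refine ⟨g.2, ?_⟩
    show g • (-vecU) = -vecU
    rw [CfsgLib.Leech.smul_neg_co0, show g • vecU = vecU from hg]

theorem card_out_Co3 : Nat.card (Cfsg.Out Spor.Co3) = 1 :=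
  Subgroup.index_eq_one.2 (inn_eq_top_congr ((coThreeGroup.equivMapOfInjective _
    Co0.subtype_injective).trans (MulEquiv.subgroupCongr co3_eq_map.symm)) inn_coThreeGroup)

end CfsgLib.Mathieu.CoThreeOut
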