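import Cfsg.Agent.Lib.Mathieu.McLOutData
import Cfsg.Agent.Lib.Leech.Classes
import Cfsg.Agent.Lib.Fischer2.LeechFrame

/-!
Evaluation of words in checked automorphisms of the lattice on packed keys of minimal vectors, and the
finite checks on them.
-/

set_option autoImplicit false

namespace CfsgLib.Mathieu.McLOut

open Cfsg CfsgLib.Leech CfsgLib.Fischer2
open CfsgLib.Golay (idx pt idx_pt pt_idx idx_lt)

/-! ### Letters -/

/-- The matrices of the letters: an element of order 11, its inverse, a permutation, five powers of a
lattice element of order five and five powers of a permutation of order five. -/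
def matOf : Fin 13 → List (List ℤ) := ![Data.mat0, Data.mat1, Data.mat2, Data.mat3, Data.mat4,
  Data.mat5, Data.mat6, Data.mat7, Data.mat8, Data.mat9, Data.mat10, Data.mat11, Data.mat12]

theorem matOf_ok : ∀ n, matOk (matOf n) = true := fun n => by
  fin_cases n
  exacts [Data.ok0, Data.ok1, Data.ok2, Data.ok3, Data.ok4, Data.ok5, Data.ok6, Data.ok7, Data.ok8,
    Data.ok9, Data.ok10, Data.ok11, Data.ok12]

/-- The packed data of the letters. -/
def datOf : Fin 13 → List ℕ × ℕ := ![Data.data0, Data.data1, Data.data2, Data.data3, Data.data4,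
  Data.data5, Data.data6, Data.data7, Data.data8, Data.data9, Data.data10, Data.data11, Data.data12]

theorem datOf_ok : ∀ n, dataOk (matOf n) (datOf n) = true := fun n => by
  fin_cases n
  exacts [Data.dataOk0, Data.dataOk1, Data.dataOk2, Data.dataOk3, Data.dataOk4, Data.dataOk5,
    Data.dataOk6, Data.dataOk7, Data.dataOk8, Data.dataOk9, Data.dataOk10, Data.dataOk11, Data.dataOk12]

/-- The automorphism of a letter. -/
noncomputable def letterAut (n : Fin 13) : Co0 := matAut (matOf n) (matOf_ok n)

/-- The product of a word. -/
noncomputable def wordAut (W : List (Fin 13)) : Co0 := (W.map letterAut).prod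

theorem wordAut_cons (n : Fin 13) (W : List (Fin 13)) : wordAut (n :: W) = letterAut n * wordAut W := by
  simp [wordAut]

theorem wordAut_nil : wordAut [] = 1 := rfl

theorem wordAut_append (U V : List (Fin 13)) : wordAut (U ++ V) = wordAut U * wordAut V := by
  simp [wordAut, List.map_append]

/-! ### Evaluation on keys -/

/-- Strict evaluation followed by a continuation. -/
noncomputable def forceB (x : ℕ) (k : ℕ → Bool) : Bool :=
  Nat.rec (k Nat.zero) (fun m _ => k (Nat.succ m)) x

theorem forceB_eq (x : ℕ) (k : ℕ → Bool) : forceB x k = k x := by cases x <;> rfl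

/-- The evaluation of a word on a key, with a continuation. -/
noncomputable def evalK : List (Fin 13) → ℕ → (ℕ → Bool) → Bool
  | [], k, c => c k
  | n :: W, k, c => evalK W k fun r => forceB (stepKey (datOf n) r) c

theorem evalK_spec : ∀ (W : List (Fin 13)) {x : leechLattice}, sqNorm (coordVec x) = 32 →
    ∀ c : ℕ → Bool, evalK W (key x) c = c (key (wordAut W • x))
  | [], x, _, c => by rw [wordAut_nil, one_smul]; rfl
  | n :: W, x, hx, c => by
    show evalK W (key x) (fun r => forceB (stepKey (datOf n) r) c) = _
    rw [evalK_spec W hx, forceB_eq, wordAut_cons, mul_smul,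
      key_matAut (matOf_ok n) (datOf_ok n) (by rw [sqNorm_smul', hx])]
    rfl

theorem encN_inj : ∀ {a b : List ℕ}, a.length = b.length → (∀ x ∈ a, x < 4096) → (∀ x ∈ b, x < 4096) →
    encN a = encN b → a = b
  | [], [], _, _, _, _ => rfl
  | [], _ :: _, h, _, _, _ => by simp at h
  | _ :: _, [], h, _, _, _ => by simp at h
  | x :: a, y :: b, hl, ha, hb, h => by
    change x + 4096 * encN a = y + 4096 * encN b at h
    have hx := ha x List.mem_cons_self
    have hy := hb y List.mem_cons_self
    have e1 : x = y := by omega
    rw [e1, encN_inj (by simpa using hl) (fun z hz => ha z (List.mem_cons_of_mem _ hz))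
      (fun z hz => hb z (List.mem_cons_of_mem _ hz)) (by omega)]

theorem key_inj {x y : leechLattice} (hx : sqNorm (coordVec x) = 32) (hy : sqNorm (coordVec y) = 32)
    (h : key x = key y) : x = y := by
  have hbd : ∀ v : leechLattice, sqNorm (coordVec v) = 32 → ∀ n ∈ shift8 (ofVec (coordVec v)), n < 4096 := by
    intro v hv n hn
    obtain ⟨a, ha, rfl⟩ := List.mem_map.1 hn
    obtain ⟨i, -, rfl⟩ := List.mem_map.1 ha
    have := abs_le.1 (abs_le_eight hv (pt i))
    omega
  have h2 := encN_inj (by simp [shift8, length_ofVec]) (hbd x hx) (hbd y hy) h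
  refine Subtype.ext (funext fun p => ?_)
  have h3 := congrArg (fun L => L.getD (idx p) 0) h2
  simp only [shift8] at h3
  rw [List.getD_eq_getElem _ _ (by simp [length_ofVec, idx_lt]),
    List.getD_eq_getElem _ _ (by simp [length_ofVec, idx_lt])] at h3
  simp only [List.getElem_map, ofVec, List.getElem_range, pt_idx] at h3
  have a1 := abs_le.1 (abs_le_eight hx p)
  have a2 := abs_le.1 (abs_le_eight hy p)
  show coordVec x p = coordVec y p
  omega

/-! ### The testing vectors -/

theorem testVecs_ok : Data.testVecs.all (fun L => memTest L && decide (dotL L L = 32)) = true ∧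
    Data.testVecs.map keyL = Data.testKeys ∧ Data.testVecs.length = 24 ∧
    Data.testVecs.all (fun L => decide (L.length = 24)) = true := by decide +kernel

theorem exists_testVec {i : ℕ} (hi : i < 24) : ∃ x : leechLattice, sqNorm (coordVec x) = 32 ∧
    coordVec x = toVec (Data.testVecs.getD i []) ∧ key x = Data.testKeys.getD i 0 := by
  obtain ⟨h1, h2, h3, h4⟩ := testVecs_ok
  simp only [List.all_eq_true, Bool.and_eq_true, decide_eq_true_eq] at h1 h4
  have hmem : Data.testVecs.getD i [] ∈ Data.testVecs := by
    rw [List.getD_eq_getElem _ _ (by omega)]; exact List.getElem_mem _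
  refine ⟨ofList _ (h1 _ hmem).1, ?_, coordVec_ofList _ _, ?_⟩
  · rw [coordVec_ofList, ← dotInt_self, dotInt_toVec (h4 _ hmem) (h4 _ hmem), (h1 _ hmem).2]
  · rw [key, coordVec_ofList, ← h2, List.getD_eq_getElem _ _ (by omega),
      List.getD_eq_getElem (d := 0) _ (by rw [List.length_map]; omega), List.getElem_map]
    congr 1
    refine List.ext_getElem (by rw [length_ofVec, h4 _ (List.getElem_mem _)]) fun j a b => ?_
    simp only [ofVec, List.getElem_map, List.getElem_range, toVec]
    rw [idx_pt (by rwa [length_ofVec] at a), List.getD_eq_getElem]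

theorem two_axis_eq : ∀ (k : Fin 23) (p : GolayPt),
    2 * (toVec (Data.testVecs.getD k.1 []) p) -
      (toVec (Data.testVecs.getD 0 []) p + toVec (Data.testVecs.getD 23 []) p) =
      (if p = pt k.1 then 8 else 0) ∧
    toVec (Data.testVecs.getD 0 []) p + toVec (Data.testVecs.getD 23 []) p =
      (if p = pt 23 then 8 else 0) := by decide +kernel

/-- An automorphism fixing the testing vectors is trivial. -/
theorem eq_one_of_test {g : Co0}
    (h : ∀ i < 24, ∀ x : leechLattice, coordVec x = toVec (Data.testVecs.getD i []) → g • x = x) : g = 1 := by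
  have htop : ∀ i < 24, ∃ x : leechLattice, coordVec x = toVec (Data.testVecs.getD i []) ∧ g • x = x :=
    fun i hi => by
      obtain ⟨x, -, hx, -⟩ := exists_testVec hi
      exact ⟨x, hx, h i hi x hx⟩
  have hax : ∀ p, g • axisVec p = axisVec p := by
    obtain ⟨u, hu, gu⟩ := htop 0 (by norm_num)
    obtain ⟨w, hw, gw⟩ := htop 23 (by norm_num)
    have e23 : u + w = axisVec (pt 23) := Subtype.ext (funext fun q => by
      show coordVec u q + coordVec w q = coordVec (axisVec (pt 23)) q
      rw [hu, hw, coordVec_axisVec]; exact (two_axis_eq 0 q).2)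
    have g23 : g • axisVec (pt 23) = axisVec (pt 23) := by rw [← e23, smul_add_co0, gu, gw]
    intro p
    by_cases hk : idx p = 23
    · rw [← pt_idx p, hk]; exact g23
    · obtain ⟨x, hx, gx⟩ := htop (idx p) (idx_lt p)
      have e : x + x = axisVec p + axisVec (pt 23) := Subtype.ext (funext fun q => by
        show coordVec x q + coordVec x q = coordVec (axisVec p) q + coordVec (axisVec (pt 23)) q
        obtain ⟨e1, e2⟩ := two_axis_eq ⟨idx p, by have := idx_lt p; omega⟩ q
        simp only [pt_idx] at e1
        rw [hx, coordVec_axisVec, coordVec_axisVec, ← e1, ← e2]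
        ring)
      have e' : g • (x + x) = x + x := by rw [smul_add_co0, gx]
      rw [e, smul_add_co0, g23] at e'
      exact add_right_cancel e'
  refine co0_ext fun w q => ?_
  have h2 := CfsgLib.Leech.dotInt_smul g w (axisVec q)
  rw [hax q] at h2
  have h3 : dotInt (coordVec (g • w)) (coordVec (axisVec q)) =
    dotInt (coordVec w) (coordVec (axisVec q)) := h2
  rw [dot_axisVec, dot_axisVec] at h3
  rw [one_smul]
  omega

/-- Two words agree on the testing vectors. -/
noncomputable def eqW (U V : List (Fin 13)) : Bool :=
  Data.testKeys.all fun k => evalK U k fun r => evalK V k fun s => Nat.beq r s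

theorem eq_of_eqW {U V : List (Fin 13)} (h : eqW U V = true) : wordAut U = wordAut V := by
  refine (inv_mul_eq_one.1 ((eq_one_of_test fun i hi x hx => ?_) : (wordAut V)⁻¹ * wordAut U = 1)).symm
  obtain ⟨y, hy, hyx, hk⟩ := exists_testVec hi
  obtain rfl : y = x := Subtype.ext (hyx.trans hx.symm)
  have h1 := List.all_eq_true.1 h (key y) (by
    rw [hk, List.getD_eq_getElem _ _ (by rw [← testVecs_ok.2.1, List.length_map, testVecs_ok.2.2.1]; exact hi)]
    exact List.getElem_mem _)
  rw [evalK_spec U hy, evalK_spec V hy] at h1
  rw [mul_smul, key_inj (by rw [sqNorm_smul', hy]) (by rw [sqNorm_smul', hy]) (Nat.eq_of_beq_eq_true h1),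
    inv_smul_smul]

/-- A word moves one of three testing vectors. -/
noncomputable def failW (W : List (Fin 13)) : Bool :=
  (List.range 3).any fun i => evalK W (Data.testKeys.getD i 0) fun r => !Nat.beq r (Data.testKeys.getD i 0)

theorem ne_one_of_failW {W : List (Fin 13)} (h : failW W = true) : wordAut W ≠ 1 := by
  intro e
  obtain ⟨i, hi, h1⟩ := List.any_eq_true.1 h
  obtain ⟨x, hx, -, hk⟩ := exists_testVec (i := i) (by have := List.mem_range.1 hi; omega)
  rw [← hk, evalK_spec W hx, e, one_smul] at h1
  simp at h1

/-! ### The candidates -/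

/-- The letters of the relations. -/
inductive Base
  | ela
  | elm
  | eld

/-- The relations. -/
def rels : List (List Base) :=
  [(List.replicate 5 [.ela, .elm]).flatten, (List.replicate 3 [.ela, .ela, .elm, .elm]).flatten,
    (List.replicate 3 [.ela, .eld, .elm, .eld, .elm]).flatten,
    (List.replicate 5 [.ela, .elm, .eld, .eld]).flatten]

/-- The five powers of the lattice element. -/
def dPow : Fin 5 → Fin 13 := ![3, 4, 5, 6, 7]

/-- The five powers of the element of order five. -/
def bPow : Fin 5 → Fin 13 := ![8, 9, 10, 11, 12]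

/-- The candidates for the images of the letters. -/
def sub (s : Bool) (i j k l : Fin 5) : Base → List (Fin 13)
  | .ela => [bif s then 1 else 0]
  | .elm => [2, dPow i, bPow j]
  | .eld => [dPow k, bPow l]

/-- The relation with the given number after substitution. -/
def relW (n : ℕ) (s : Bool) (i j k l : Fin 5) : List (Fin 13) := (rels.getD n []).flatMap (sub s i j k l)

/-- The candidates that survive. -/
def okTuple (s : Bool) (i j k l : Fin 5) : Bool :=
  (!s) && ((i == 0 && j == 0 && k == 1 && l == 0) || (i == 4 && j == 2 && k == 4 && l == 4))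

/-- All other candidates violate a relation. -/
noncomputable def candidatesOK : Bool :=
  [false, true].all fun s => (List.finRange 5).all fun i => (List.finRange 5).all fun j =>
    failW (relW 0 s i j 0 0) || failW (relW 1 s i j 0 0) ||
      (List.finRange 5).all fun k => (List.finRange 5).all fun l =>
        okTuple s i j k l || failW (relW 2 s i j k l) || failW (relW 3 s i j k l)

theorem candidates_ok : candidatesOK = true := by decide +kernel

/-- The pairs of words with equal products. -/
def eqPairs : List (List (Fin 13) × List (Fin 13)) :=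
  [([3], []), ([5], [4, 4]), ([6], [4, 4, 4]), ([7], [4, 4, 4, 4]), ([4, 4, 4, 4, 4], []),
    ([8], []), ([10], [9, 9]), ([11], [9, 9, 9]), ([12], [9, 9, 9, 9]), ([9, 9, 9, 9, 9], []),
    ([1, 0], []), (List.replicate 11 0, []), ([9, 0], [0, 0, 0, 9]), ([2, 9], [10, 2]), ([4, 9], [9, 4]),
    (relW 0 false 0 0 1 0, []), (relW 1 false 0 0 1 0, []), (relW 2 false 0 0 1 0, []),
    (relW 3 false 0 0 1 0, [])]

theorem eqPairs_ok : eqPairs.all (fun q => eqW q.1 q.2) = true := by decide +kernel

theorem eq_of_mem_eqPairs {U V : List (Fin 13)} (h : (U, V) ∈ eqPairs) : wordAut U = wordAut V :=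
  eq_of_eqW (List.all_eq_true.1 eqPairs_ok _ h)

theorem letter_zero_ne_one : failW [0] = true := by decide +kernel

end CfsgLib.Mathieu.McLOut
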