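import Cfsg.Agent.Lib.Mathieu.CoTwoMultData
import Cfsg.Agent.Lib.Leech.Canon

/-!
The matrices of the certificate are checked one by one.
-/

set_option autoImplicit false
set_option maxRecDepth 100000

namespace CfsgLib.Mathieu.CoTwoMult

open CfsgLib.Leech

/-- A matrix and its data are correct and fix the special vector. -/
def matGood (M : List (List ℤ)) (D : List ℕ × ℕ) : Bool := matOk M && fixOk M listP && dataOk M D

theorem good0 : matGood Data.mat0 Data.data0 = true := by decide +kernel

theorem good1 : matGood Data.mat1 Data.data1 = true := by decide +kernel

theorem good2 : matGood Data.mat2 Data.data2 = true := by decide +kernel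

theorem good3 : matGood Data.mat3 Data.data3 = true := by decide +kernel

theorem good4 : matGood Data.mat4 Data.data4 = true := by decide +kernel

theorem good5 : matGood Data.mat5 Data.data5 = true := by decide +kernel

theorem good6 : matGood Data.mat6 Data.data6 = true := by decide +kernel

theorem good7 : matGood Data.mat7 Data.data7 = true := by decide +kernel

theorem good8 : matGood Data.mat8 Data.data8 = true := by decide +kernel

theorem good9 : matGood Data.mat9 Data.data9 = true := by decide +kernel

theorem good10 : matGood Data.mat10 Data.data10 = true := by decide +kernel

theorem good11 : matGood Data.mat11 Data.data11 = true := by decide +kernel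

theorem good12 : matGood Data.mat12 Data.data12 = true := by decide +kernel

theorem good13 : matGood Data.mat13 Data.data13 = true := by decide +kernel

theorem good14 : matGood Data.mat14 Data.data14 = true := by decide +kernel

theorem good15 : matGood Data.mat15 Data.data15 = true := by decide +kernel

theorem good16 : matGood Data.mat16 Data.data16 = true := by decide +kernel

theorem good17 : matGood Data.mat17 Data.data17 = true := by decide +kernel

theorem good18 : matGood Data.mat18 Data.data18 = true := by decide +kernel

theorem good19 : matGood Data.mat19 Data.data19 = true := by decide +kernel

theorem good20 : matGood Data.mat20 Data.data20 = true := by decide +kernel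

theorem good21 : matGood Data.mat21 Data.data21 = true := by decide +kernel

theorem good22 : matGood Data.mat22 Data.data22 = true := by decide +kernel

theorem good23 : matGood Data.mat23 Data.data23 = true := by decide +kernel

theorem good24 : matGood Data.mat24 Data.data24 = true := by decide +kernel

theorem good25 : matGood Data.mat25 Data.data25 = true := by decide +kernel

theorem good26 : matGood Data.mat26 Data.data26 = true := by decide +kernel

theorem good27 : matGood Data.mat27 Data.data27 = true := by decide +kernel

theorem good28 : matGood Data.mat28 Data.data28 = true := by decide +kernel

theorem good29 : matGood Data.mat29 Data.data29 = true := by decide +kernel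

theorem good30 : matGood Data.mat30 Data.data30 = true := by decide +kernel

theorem good31 : matGood Data.mat31 Data.data31 = true := by decide +kernel

theorem good32 : matGood Data.mat32 Data.data32 = true := by decide +kernel

theorem good33 : matGood Data.mat33 Data.data33 = true := by decide +kernel

theorem good34 : matGood Data.mat34 Data.data34 = true := by decide +kernel

theorem good35 : matGood Data.mat35 Data.data35 = true := by decide +kernel

theorem good36 : matGood Data.mat36 Data.data36 = true := by decide +kernel

theorem good37 : matGood Data.mat37 Data.data37 = true := by decide +kernel

theorem good38 : matGood Data.mat38 Data.data38 = true := by decide +kernel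

theorem good39 : matGood Data.mat39 Data.data39 = true := by decide +kernel

theorem good40 : matGood Data.mat40 Data.data40 = true := by decide +kernel

theorem good41 : matGood Data.mat41 Data.data41 = true := by decide +kernel

theorem good42 : matGood Data.mat42 Data.data42 = true := by decide +kernel

theorem good43 : matGood Data.mat43 Data.data43 = true := by decide +kernel

theorem goodId : matGood Data.matId Data.dataId = true := by decide +kernel

/-- The matrix with a given number. -/
def matOf (n : ℕ) : List (List ℤ) := Data.mats.getD n Data.matId

/-- The packed data with a given number. -/
def datOf (n : ℕ) : List ℕ × ℕ := Data.dats.getD n Data.dataId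

theorem matOf_good : ∀ n : ℕ, matGood (matOf n) (datOf n) = true
  | 0 => good0
  | 1 => good1
  | 2 => good2
  | 3 => good3
  | 4 => good4
  | 5 => good5
  | 6 => good6
  | 7 => good7
  | 8 => good8
  | 9 => good9
  | 10 => good10
  | 11 => good11
  | 12 => good12
  | 13 => good13
  | 14 => good14
  | 15 => good15
  | 16 => good16
  | 17 => good17
  | 18 => good18
  | 19 => good19
  | 20 => good20
  | 21 => good21
  | 22 => good22
  | 23 => good23
  | 24 => good24
  | 25 => good25
  | 26 => good26
  | 27 => good27
  | 28 => good28
  | 29 => good29
  | 30 => good30
  | 31 => good31
  | 32 => good32
  | 33 => good33
  | 34 => good34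
  | 35 => good35
  | 36 => good36
  | 37 => good37
  | 38 => good38
  | 39 => good39
  | 40 => good40
  | 41 => good41
  | 42 => good42
  | 43 => good43
  | _ + 44 => goodId

end CfsgLib.Mathieu.CoTwoMult
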