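import Cfsg.Agent.Lib.Mathieu.Aut22
import Cfsg.Agent.Eqn.Sporadic_a
import Cfsg.Agent.Lib.Mathieu.Pop

/-!
The block graph and the point-block graph of an S(3,6,22) on explicit index sets, and their strong
regularity.
-/

set_option autoImplicit false

namespace CfsgLib.Mathieu

open Finset

/-- Block number `i` of the standard S(3,6,22). -/
def blk22 (i : ℕ) : ℕ := packAt 13228021203271058808884020858852744986190181002891169897795972417855264043318854799654555372258212868391661872951151927736755719979237994360558907716205282245576516985325210219149647279659031828398899078123538727203719219807317967170173937430012395707219378053478734215324260078947217790684474641136542960066335911522108981924470742294883444149886690469184352517688106820326442640788574495360118506636819733714068593574868794504129268544033613201464089354637509609660558103522799595379740497678999363366912 22 i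

/-- Adjacency of the block graph on indices. -/
def blockAdj77 (i j : ℕ) : Bool := decide (i ≠ j) && blk22 i &&& blk22 j == 0

/-- The defining relation of the point-block graph on indices: `0` is the extra vertex, `1..22` the
points, `23..99` the blocks. -/
def pbRel100 (i j : ℕ) : Bool :=
  (decide (i = 0) && (decide (1 ≤ j) && decide (j ≤ 22))) ||
  (decide (1 ≤ i) && decide (i ≤ 22) && decide (23 ≤ j) && (blk22 (j - 23)).testBit (i - 1)) ||
  (decide (23 ≤ i) && decide (23 ≤ j) && blk22 (i - 23) &&& blk22 (j - 23) == 0)

/-- Adjacency of the point-block graph on indices. -/
def pbAdj100 (i j : ℕ) : Bool := decide (i ≠ j) && (pbRel100 i j || pbRel100 j i)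

/-- Packed neighbour masks of the block graph. -/
def nbrs77 : ℕ := 277976402044861409573484456435966965539964442462379639307402822827981985406113530957772464012255394798167572906315900149936338746804302167773678496963420045466943855813107576546721358080767269408607574347960505173017138671431343719827586212028320934055141277266280192329192668892149920479641206916062262707163943956286531302151682414655321663539441231371053815849162812893220076194537571595448580811977807773823458519824329155321050823614203893788698908785185470036135497736333662677470715920117518065863160765768794617424485507370044011484423435323276954841136627125702530163363187163419530791488885854047273425292922629813535372922408327159484325791807564201834378123448845250556670639173707923073238737072086123534052083669687709097298388072886139765482100377646217776801274923264442718017871516769654242460321282610008867455415681428746927415457385313644548706423242991689999737228196416648224929919484716445724577104760127913838053518187485063891411462319615343446311193718545990356789279180929763439325609219874107440257703099280669477933938428084433586139328240187735093654019440324356705742629350946358107754585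565174407106339916898459171113328355752088214234446873725732442093984921303078578225581808973423347722758351896047432643791388654857909668944730722018271872105337252164830974696284967579617726011011575502803500604636850981917343887519202719811722165444652448085210800913903428832319075356294748757239187058148861636702192259040303925564140362158371821117860963745616703288565841239139913106596368941806248552072975830546081620642555920335972195265545190521858591964073917475054351050544485702122924413770291674126942710269679053757090312390568060695355788960468937710015210209055144618550978370143329919610318191885350914678277999832239618155610112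

/-- Packed neighbour masks of the point-block graph. -/
def nbrs100 : ℕ := 86520750420518145042126126992781401093280038964917077393437558696193326959702056189090276974350117582494587970067482577741644708083201033332233810096250956266603876880693355457637735690913966776784547441261977713896180735512242725814501004280265276935746954710432480948880284575715517517894646731174691660410148286049716959889112083212620151788845151389637892612639335486234389782792841114304194243038704088020163456576798526734016538480313964274586102698109501290763128330772105791668399468769329272979464707076906427408201935843777272063675617975083933797461616541913044171592582445705867600739930387242484043402580275907270568068007809259985275024337649425171272040368337106432466102787311559640356395146355914717354700852587737718325395480070654519625779282237551761980612925043151175289276413584641136341957477423179080207610351637098125712971345705756261700652131780247143442526856047329037479588928952897009355759838422068931859255216283666650587511354320824378103626490823953351764628098703993778477420589207101596732422535931929502348171033919558057505225691818052514652712219188446468642141979603220724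3365114197875811609319239215534931877880309312860442750664404440075739693569240098035293117880698182141704632750799841948302575984484095390581811180709871370359255476763500424584541338995749498790313120185435225936586519991388566543336463616035226386008063249013566782685965404989753566401511098137429107701633732752240450281886074412175260010026242505360752345694593169272740964714101724762720564605112788122026873825309362422118247289627578386187487130995153105106998655461587682293121009942998416723259722229607528230065393437907543239664125019511192012939231399665241916760166853036386540161578426095965059670779431136768772072758278646708499609410420647377203067796865897942259218403187554162285971549734971689033330427763351925757399143002695880962107571857704053014351872265846661603288243454986552126458081093630601699052827527533192550726071010695233116836087968421389911383624073819525076236972702435697849110905276297563366452647877030051039320845880139941809123986262215509487018085327504768271767797968199257295446190921729671290368740580497606439793616872250028649546433055336299392879665079328614871049329552484384397657731977019513124562975830643843174322325693623137531645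6632622284147617955504950274180185619667296927558047826046294114911794480037205672793147465007883297186708133320091146498825505051531658551298878702344395785476215934661054890865896593538632938007334029018530569409333134405068217274338737520600272199851954309604219474210096486878367563091689004899088055942172638405830148178197734941310209460722309685391717584117743479194938731377163552138719807779205502364898936488925786514321230759369441842797404345499350090240641730962806984133864386683342236624788850444595487480453437426441450256916428362439714242649846918463805119099695822024422656634462382901129254171739020578031037299632994392401794910665657621985368966403338576658605384138750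

/-- Check of strong regularity from neighbour masks. -/
def checkSRG (n k l m : ℕ) (N : ℕ) (adj : ℕ → ℕ → Bool) : Bool :=
  (List.range n).all fun i =>
    packAt N n i == orBits ((List.range n).filter (adj i)) &&
    popEq k (packAt N n i) &&
    (List.range n).all fun j =>
      decide (i = j) ||
        popEq (if (packAt N n i).testBit j then l else m) (packAt N n i &&& packAt N n j)

theorem isSRG_of_check {n k l m : ℕ} {N : ℕ} {adj : ℕ → ℕ → Bool}
    (h : checkSRG n k l m N adj = true) {V : Type*} [Fintype V] (G : SimpleGraph V)
    [DecidableRel G.Adj] (φ : Fin n ≃ V) (hadj : ∀ i j : Fin n, G.Adj (φ i) (φ j) ↔ adj i.1 j.1 = true) :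
    G.IsSRGWith n k l m := by
  classical
  simp only [checkSRG, List.all_eq_true, List.mem_range, Bool.and_eq_true, beq_iff_eq,
    Bool.or_eq_true, decide_eq_true_eq] at h
  have hN : ∀ (i x : Fin n), x ∈ maskSet n (packAt N n i.1) ↔ G.Adj (φ i) (φ x) := by
    intro i x
    rw [hadj, mem_maskSet, (h i.1 i.2).1.1, testBit_orBits, List.mem_filter, List.mem_range]
    exact and_iff_right x.2
  have hcn : ∀ i j : Fin n, i ≠ j → Fintype.card (G.commonNeighbors (φ i) (φ j)) =
      if adj i.1 j.1 then l else m := by
    intro i j hij
    have h' := ((h i.1 i.2).2 j.1 j.2).resolve_left (fun e => hij (Fin.ext e))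
    have hl : packAt N n i.1 < 2 ^ n := Nat.mod_lt _ (Nat.two_pow_pos n)
    have h'' := card_eq_of_popEq (n := n) (Nat.and_le_left.trans_lt hl) h'
    rw [maskSet_land] at h''
    have hb : (packAt N n i.1).testBit j.1 = adj i.1 j.1 :=
      Bool.eq_iff_iff.2 ((mem_maskSet.symm.trans (hN i j)).trans (hadj i j))
    rw [hb] at h''
    rw [← h'', ← Set.toFinset_card]
    refine (Finset.card_bij (fun x _ => φ x) ?_ (fun a _ b _ e => φ.injective e) ?_).symm
    · intro x hx
      rw [mem_inter, hN, hN] at hx
      exact Set.mem_toFinset.2 (((SimpleGraph.mem_commonNeighbors _).2 hx))
    · intro v hv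
      refine ⟨φ.symm v, ?_, φ.apply_symm_apply v⟩
      rw [mem_inter, hN, hN, φ.apply_symm_apply]
      exact (SimpleGraph.mem_commonNeighbors _).1 (Set.mem_toFinset.1 hv)
  refine ⟨by rw [← Fintype.card_congr φ, Fintype.card_fin], fun v => ?_, fun v w hvw => ?_,
    fun v w hne hvw => ?_⟩
  · obtain ⟨i, rfl⟩ := φ.surjective v
    rw [← card_eq_of_popEq (n := n) (Nat.mod_lt _ (Nat.two_pow_pos n)) (h i.1 i.2).1.2,
      ← SimpleGraph.card_neighborFinset_eq_degree]
    show _ = (maskSet n (packAt N n i.1)).card
    refine (Finset.card_bij (fun x _ => φ x) ?_ (fun a _ b _ e => φ.injective e) ?_).symm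
    · intro x hx
      exact (SimpleGraph.mem_neighborFinset ..).2 ((hN i x).1 hx)
    · intro w hw
      refine ⟨φ.symm w, ?_, φ.apply_symm_apply w⟩
      rw [hN, φ.apply_symm_apply]
      exact (SimpleGraph.mem_neighborFinset ..).1 hw
  · obtain ⟨i, rfl⟩ := φ.surjective v
    obtain ⟨j, rfl⟩ := φ.surjective w
    rw [hcn i j (fun e => hvw.ne (congrArg φ e)), if_pos ((hadj i j).1 hvw)]
  · obtain ⟨i, rfl⟩ := φ.surjective v
    obtain ⟨j, rfl⟩ := φ.surjective w
    rw [hcn i j (fun e => hne (congrArg φ e)), if_neg (fun e => hvw ((hadj i j).2 e))]

theorem check77 : checkSRG 77 16 0 4 nbrs77 blockAdj77 = true := by decide +kernel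

theorem check100 : checkSRG 100 22 0 6 nbrs100 pbAdj100 = true := by decide +kernel

section Index

variable {α : Type*} [Fintype α] [DecidableEq α] {B : Set (Finset α)}

theorem blk22_mem (i : Fin 77) : blk22 i.1 ∈ Aut22.blocks := by
  revert i; decide +kernel

theorem blk22_lt (i : Fin 77) : blk22 i.1 < 2 ^ 22 := by
  revert i; decide +kernel

theorem blk22_pos (i : Fin 77) : blk22 i.1 ≠ 0 := by
  revert i; decide +kernel

theorem blk22_inj : Function.Injective fun i : Fin 77 => blk22 i.1 := by
  have h : ∀ i j : Fin 77, blk22 i.1 = blk22 j.1 → i = j := by decide +kernel
  exact fun i j e => h i j e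

theorem exists_blockEquiv (hα : Fintype.card α = 22) (hB : Cfsg.IsSteinerSystem 3 6 B) :
    ∃ (e : α ≃ Fin 22) (φ : Fin 77 ≃ B), (fun b : Finset α => b.image e) '' B = maskFam 22 Aut22.blocks ∧
      ∀ i : Fin 77, ((φ i : Finset α)).image e = maskSet 22 (blk22 i.1) := by
  obtain ⟨e, he⟩ := Aut22.iso hα hB
  have h : ∀ i : Fin 77, ∃ b : B, (b : Finset α).image e = maskSet 22 (blk22 i.1) := by
    intro i
    have hm := maskSet_mem_maskFam (n := 22) (blk22_mem i)
    rw [← he] at hm
    obtain ⟨b, hb, hbe⟩ := hm
    exact ⟨⟨b, hb⟩, hbe⟩
  choose φ hφ using h
  have hinj : Function.Injective φ := fun i j h => blk22_inj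
    (maskSet_inj (blk22_lt i) (blk22_lt j) (by rw [← hφ i, ← hφ j, h]))
  have hcard : Nat.card B = 77 := by
    have hch : (22 : ℕ).choose 3 = 1540 ∧ (6 : ℕ).choose 3 = 20 := by decide
    have h1 := steiner_card_mul hB
    rw [hα, hch.1, hch.2] at h1
    rw [Nat.card_coe_set_eq]
    omega
  exact ⟨e, Equiv.ofBijective φ ((Nat.bijective_iff_injective_and_card φ).2
    ⟨hinj, by rw [hcard, Nat.card_eq_fintype_card, Fintype.card_fin]⟩), he, hφ⟩

omit [Fintype α] in
theorem disjoint_iff_land {e : α ≃ Fin 22} {b c : Finset α} {i j : Fin 77}
    (hb : b.image e = maskSet 22 (blk22 i.1)) (hc : c.image e = maskSet 22 (blk22 j.1)) :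
    Disjoint b c ↔ blk22 i.1 &&& blk22 j.1 = 0 := by
  rw [← Finset.disjoint_image e.injective, hb, hc, Finset.disjoint_iff_inter_eq_empty, ← maskSet_land]
  constructor
  · intro h
    refine maskSet_inj (Nat.and_le_left.trans_lt (blk22_lt i)) (Nat.two_pow_pos 22) ?_
    rw [h]; ext x; simp
  · intro h
    rw [h]; ext x; simp

omit [Fintype α] in
theorem blockGraph_adj_index {e : α ≃ Fin 22} {φ : Fin 77 ≃ B}
    (hφ : ∀ i : Fin 77, ((φ i : Finset α)).image e = maskSet 22 (blk22 i.1)) (i j : Fin 77) :
    (Cfsg.blockGraph B).Adj (φ i) (φ j) ↔ blockAdj77 i.1 j.1 = true := by
  rw [blockAdj77, Cfsg.blockGraph, SimpleGraph.fromRel_adj, Bool.and_eq_true, decide_eq_true_eq,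
    beq_iff_eq, disjoint_iff_land (hφ i) (hφ j), disjoint_iff_land (hφ j) (hφ i), Ne,
    φ.injective.eq_iff, Fin.ext_iff, Nat.land_comm (blk22 j.1), or_self]

/-- The vertex of index `i` of the point-block graph. -/
noncomputable def pbVertex (e : α ≃ Fin 22) (φ : Fin 77 ≃ B) (i : Fin 100) : Option (α ⊕ B) :=
  if h1 : i.1 = 0 then none
  else if h2 : i.1 ≤ 22 then some (Sum.inl (e.symm ⟨i.1 - 1, by omega⟩))
  else some (Sum.inr (φ ⟨i.1 - 23, by omega⟩))

omit [DecidableEq α] in
theorem pbVertex_bijective [Fintype B] (e : α ≃ Fin 22) (φ : Fin 77 ≃ B) :
    Function.Bijective (pbVertex e φ) := by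
  rw [Fintype.bijective_iff_injective_and_card]
  refine ⟨fun i j h => ?_, ?_⟩
  · have := i.2; have := j.2
    apply Fin.ext
    simp only [pbVertex] at h
    split at h <;> split at h <;> (try split at h) <;> (try split at h) <;>
      simp only [Option.some.injEq, reduceCtorEq, Sum.inl.injEq, Sum.inr.injEq,
        EmbeddingLike.apply_eq_iff_eq, Fin.mk.injEq] at h <;> omega
  · rw [Fintype.card_option, Fintype.card_sum, Fintype.card_congr e, ← Fintype.card_congr φ]
    simp

omit [Fintype α] in
theorem pointBlockRel_index {e : α ≃ Fin 22} {φ : Fin 77 ≃ B}
    (hφ : ∀ i : Fin 77, ((φ i : Finset α)).image e = maskSet 22 (blk22 i.1)) (i j : Fin 100) :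
    Cfsg.pointBlockRel B (pbVertex e φ i) (pbVertex e φ j) ↔ pbRel100 i.1 j.1 = true := by
  have := i.2; have := j.2
  simp only [pbRel100, Bool.or_eq_true, Bool.and_eq_true, decide_eq_true_eq, beq_iff_eq]
  unfold pbVertex
  split_ifs with h1 h2 h3 h4 h5 h6 h7 h8 <;> simp only [Cfsg.pointBlockRel]
  all_goals first
    | (rw [disjoint_iff_land (hφ _) (hφ _)]
       constructor
       · intro h; exact Or.inr ⟨⟨by omega, by omega⟩, h⟩
       · rintro ((h | h) | h)
         · omega
         · omega
         · exact h.2)
    | (rw [← e.injective.mem_finset_image, hφ, mem_maskSet]
       simp only [Equiv.apply_symm_apply]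
       constructor
       · intro h; exact Or.inl (Or.inr ⟨⟨⟨by omega, by omega⟩, by omega⟩, h⟩)
       · rintro ((h | h) | h)
         · omega
         · exact h.2
         · omega)
    | (simp only [true_iff, false_iff, not_or, not_and]; omega)

theorem pointBlockGraph_adj_index [Fintype B] {e : α ≃ Fin 22} {φ : Fin 77 ≃ B}
    (hφ : ∀ i : Fin 77, ((φ i : Finset α)).image e = maskSet 22 (blk22 i.1)) (i j : Fin 100) :
    (Cfsg.pointBlockGraph B).Adj (pbVertex e φ i) (pbVertex e φ j) ↔ pbAdj100 i.1 j.1 = true := by
  rw [pbAdj100, Cfsg.pointBlockGraph, SimpleGraph.fromRel_adj, Bool.and_eq_true, decide_eq_true_eq,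
    Bool.or_eq_true, pointBlockRel_index hφ i j, pointBlockRel_index hφ j i, Ne,
    (pbVertex_bijective e φ).1.eq_iff, Fin.ext_iff]

end Index

theorem blockGraph_isSRG {α : Type*} [Fintype α] {B : Set (Finset α)} (hα : Fintype.card α = 22)
    (hB : Cfsg.IsSteinerSystem 3 6 B) [Fintype B] [DecidableRel (Cfsg.blockGraph B).Adj] :
    (Cfsg.blockGraph B).IsSRGWith 77 16 0 4 := by
  classical
  obtain ⟨e, φ, -, hφ⟩ := exists_blockEquiv hα hB
  exact isSRG_of_check check77 _ φ (blockGraph_adj_index hφ)

theorem pointBlockGraph_isSRG {α : Type*} [Fintype α] {B : Set (Finset α)}
    (hα : Fintype.card α = 22) (hB : Cfsg.IsSteinerSystem 3 6 B) [Fintype B]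
    [DecidableRel (Cfsg.pointBlockGraph B).Adj] :
    (Cfsg.pointBlockGraph B).IsSRGWith 100 22 0 6 := by
  classical
  obtain ⟨e, φ, -, hφ⟩ := exists_blockEquiv hα hB
  exact isSRG_of_check check100 _ (Equiv.ofBijective _ (pbVertex_bijective e φ))
    (pointBlockGraph_adj_index hφ)

end CfsgLib.Mathieu
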