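import Cfsg.Agent.Lib.Mathieu.Graphs22

/-!
A strongly regular graph with parameters (100, 22, 0, 6) is the point-block graph of an S(3,6,22),
hence unique.
-/

set_option autoImplicit false

namespace CfsgLib.Mathieu

open Finset

/-- The standard graph on `Fin 100`. -/
def stdHS : SimpleGraph (Fin 100) := SimpleGraph.fromRel fun i j => pbRel100 i.1 j.1 = true

theorem stdHS_adj (i j : Fin 100) : stdHS.Adj i j ↔ pbAdj100 i.1 j.1 = true := by
  simp [stdHS, pbAdj100, Fin.ext_iff]

theorem pointBlockGraph_iso_std {α : Type*} [Fintype α] {B : Set (Finset α)}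
    (hα : Fintype.card α = 22) (hB : Cfsg.IsSteinerSystem 3 6 B) :
    Nonempty (stdHS ≃g Cfsg.pointBlockGraph B) := by
  classical
  obtain ⟨e, φ, -, hφ⟩ := exists_blockEquiv hα hB
  exact ⟨⟨Equiv.ofBijective _ (pbVertex_bijective e φ), fun {i j} => by
    rw [stdHS_adj]; exact pointBlockGraph_adj_index hφ i j⟩⟩

section

variable {V : Type*} [Fintype V] [DecidableEq V] {G : SimpleGraph V} [DecidableRel G.Adj]

theorem srg_card_inter (hG : G.IsSRGWith 100 22 0 6) (u v : V) :
    (G.neighborFinset u ∩ G.neighborFinset v).card =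
      if u = v then 22 else if G.Adj u v then 0 else 6 := by
  by_cases huv : u = v
  · subst huv
    rw [if_pos rfl, inter_self, SimpleGraph.card_neighborFinset_eq_degree]
    exact hG.regular u
  · rw [if_neg huv]
    have e : (G.neighborFinset u ∩ G.neighborFinset v).card = Fintype.card (G.commonNeighbors u v) := by
      rw [← Set.toFinset_card]
      congr 1
      ext w
      simp [SimpleGraph.mem_commonNeighbors]
    rw [e]
    split
    next h => exact hG.of_adj u v h
    next h => exact hG.of_not_adj huv h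

/-- The points of the vertex `q` seen from the base vertex `x`. -/
def srgPts (G : SimpleGraph V) [DecidableRel G.Adj] (x q : V) : Finset V :=
  G.neighborFinset x ∩ G.neighborFinset q

/-- The vertices at distance two from `x`. -/
def srgFar (G : SimpleGraph V) [DecidableRel G.Adj] (x : V) : Finset V :=
  univ.filter fun q => q ≠ x ∧ ¬ G.Adj x q

theorem card_srgFar (hG : G.IsSRGWith 100 22 0 6) (x : V) : (srgFar G x).card = 77 := by
  have h : srgFar G x = (insert x (G.neighborFinset x))ᶜ := by
    ext q; simp [srgFar]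
  rw [h, card_compl, hG.card, card_insert_of_notMem (by simp),
    SimpleGraph.card_neighborFinset_eq_degree, hG.regular x]

theorem not_adj_of_adj_adj (hG : G.IsSRGWith 100 22 0 6) {x p p' : V} (hp : G.Adj x p)
    (hp' : G.Adj x p') : ¬ G.Adj p p' := by
  intro h
  have h0 := srg_card_inter hG p p'
  rw [if_neg h.ne, if_pos h, card_eq_zero] at h0
  have hx : x ∈ G.neighborFinset p ∩ G.neighborFinset p' := by simp [hp.symm, hp'.symm]
  rw [h0] at hx
  simp at hx

theorem srgPts_inter_card (hG : G.IsSRGWith 100 22 0 6) {x q r : V} (hq : q ∈ srgFar G x)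
    (hr : r ∈ srgFar G x) (hqr : q ≠ r) :
    (srgPts G x q ∩ srgPts G x r).card = if G.Adj q r then 0 else 2 := by
  classical
  have hq' := (mem_filter.1 hq).2
  have hsub : ∀ s : V, srgPts G x q ∩ srgPts G x s ⊆ G.neighborFinset q ∩ G.neighborFinset s := by
    intro s; unfold srgPts; intro w hw
    simp only [mem_inter] at hw ⊢
    exact ⟨hw.1.2, hw.2.2⟩
  have hadj0 : ∀ s, G.Adj q s → (srgPts G x q ∩ srgPts G x s).card = 0 := fun s hs => by
    have h := srg_card_inter hG q s
    rw [if_neg hs.ne, if_pos hs] at h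
    exact Nat.le_zero.1 (h ▸ card_le_card (hsub s))
  by_cases hadj : G.Adj q r
  · rw [if_pos hadj]; exact hadj0 r hadj
  rw [if_neg hadj]
  set A := srgPts G x q with hA
  have hAc : A.card = 6 := by
    rw [hA, srgPts, srg_card_inter hG, if_neg hq'.1.symm, if_neg hq'.2]
  set F := (srgFar G x).erase q with hF
  have hFc : F.card = 76 := by rw [hF, card_erase_of_mem hq, card_srgFar hG]
  -- neighbours of a point inside `F`
  have hptF : ∀ p ∈ A, (F.filter fun s => p ∈ srgPts G x s).card = 20 := by
    intro p hp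
    obtain ⟨hpx, hpq⟩ : G.Adj x p ∧ G.Adj q p := by simpa [hA, srgPts] using hp
    have he : F.filter (fun s => p ∈ srgPts G x s) = ((G.neighborFinset p).erase x).erase q := by
      ext s
      simp only [hF, srgFar, srgPts, mem_filter, mem_erase, mem_univ, true_and, mem_inter,
        SimpleGraph.mem_neighborFinset]
      constructor
      · rintro ⟨⟨hsq, hsx, -⟩, -, hsp⟩
        exact ⟨hsq, hsx, hsp.symm⟩
      · rintro ⟨hsq, hsx, hps⟩
        exact ⟨⟨hsq, hsx, fun hxs => not_adj_of_adj_adj hG hpx hxs hps⟩, hpx, hps.symm⟩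
    rw [he, card_erase_of_mem (by simp [hq'.1, hpq.symm]), card_erase_of_mem (by simp [hpx.symm]),
      SimpleGraph.card_neighborFinset_eq_degree, hG.regular p]
  -- common neighbours of two points inside `F`
  have hpairF : ∀ p ∈ A, ∀ p' ∈ A, p ≠ p' →
      (F.filter fun s => p ∈ srgPts G x s ∧ p' ∈ srgPts G x s).card = 4 := by
    intro p hp p' hp' hne
    obtain ⟨hpx, hpq⟩ : G.Adj x p ∧ G.Adj q p := by simpa [hA, srgPts] using hp
    obtain ⟨hpx', hpq'⟩ : G.Adj x p' ∧ G.Adj q p' := by simpa [hA, srgPts] using hp'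
    have he : F.filter (fun s => p ∈ srgPts G x s ∧ p' ∈ srgPts G x s) =
        ((G.neighborFinset p ∩ G.neighborFinset p').erase x).erase q := by
      ext s
      simp only [hF, srgFar, srgPts, mem_filter, mem_erase, mem_univ, true_and, mem_inter,
        SimpleGraph.mem_neighborFinset]
      constructor
      · rintro ⟨⟨hsq, hsx, -⟩, ⟨-, hsp⟩, -, hsp'⟩
        exact ⟨hsq, hsx, hsp.symm, hsp'.symm⟩
      · rintro ⟨hsq, hsx, hps, hps'⟩
        exact ⟨⟨hsq, hsx, fun hxs => not_adj_of_adj_adj hG hpx hxs hps⟩, ⟨hpx, hps.symm⟩, hpx',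
          hps'.symm⟩
    rw [he, card_erase_of_mem (by simp [hq'.1, hpq.symm, hpq'.symm]),
      card_erase_of_mem (by simp [hpx.symm, hpx'.symm]), srg_card_inter hG, if_neg hne,
      if_neg (not_adj_of_adj_adj hG hpx hpx')]
  -- double counting
  have hS1 : ∑ s ∈ F, (A ∩ srgPts G x s).card = 120 := by
    calc ∑ s ∈ F, (A ∩ srgPts G x s).card
        = ∑ s ∈ F, ∑ p ∈ A, (if p ∈ srgPts G x s then 1 else 0) := by
          refine sum_congr rfl fun s _ => ?_
          rw [← card_filter, filter_mem_eq_inter]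
      _ = ∑ p ∈ A, (F.filter fun s => p ∈ srgPts G x s).card := by
          rw [sum_comm]; exact sum_congr rfl fun p _ => (card_filter _ _).symm
      _ = 120 := by rw [sum_congr rfl hptF, sum_const, hAc]; rfl
  have hS2 : ∑ s ∈ F, (A ∩ srgPts G x s).offDiag.card = 120 := by
    calc ∑ s ∈ F, (A ∩ srgPts G x s).offDiag.card
        = ∑ s ∈ F, ∑ pp ∈ A.offDiag, (if pp.1 ∈ srgPts G x s ∧ pp.2 ∈ srgPts G x s then 1 else 0) := by
          refine sum_congr rfl fun s _ => ?_
          rw [← card_filter]
          congr 1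
          ext pp
          simp [mem_offDiag, and_assoc, and_left_comm, and_comm]
      _ = ∑ pp ∈ A.offDiag, (F.filter fun s => pp.1 ∈ srgPts G x s ∧ pp.2 ∈ srgPts G x s).card := by
          rw [sum_comm]; exact sum_congr rfl fun p _ => (card_filter _ _).symm
      _ = 120 := by
          rw [sum_congr rfl (fun pp hpp => hpairF pp.1 (mem_offDiag.1 hpp).1 pp.2
            (mem_offDiag.1 hpp).2.1 (mem_offDiag.1 hpp).2.2), sum_const, offDiag_card, hAc]
          rfl
  set R := F.filter (fun s => ¬ G.Adj q s) with hR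
  have hRc : R.card = 60 := by
    have hN : F.filter (fun s => G.Adj q s) = G.neighborFinset q \ G.neighborFinset x := by
      ext s
      simp only [hF, srgFar, mem_filter, mem_erase, mem_univ, true_and, mem_sdiff,
        SimpleGraph.mem_neighborFinset]
      exact ⟨fun h => ⟨h.2, h.1.2.2⟩, fun h => ⟨⟨h.1.ne', fun e => hq'.2 (e ▸ h.1.symm), h.2⟩, h.1⟩⟩
    have h16 : (F.filter fun s => G.Adj q s).card = 16 := by
      rw [hN, card_sdiff, srg_card_inter hG, if_neg hq'.1.symm, if_neg hq'.2,
        SimpleGraph.card_neighborFinset_eq_degree, hG.regular q]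
    have := card_filter_add_card_filter_not (s := F) (fun s => G.Adj q s)
    rw [h16, hFc] at this
    rw [hR]
    omega
  have hzero : ∀ s ∈ F, s ∉ R → (A ∩ srgPts G x s).card = 0 := fun s hs hsR =>
    hadj0 s (by simpa [hR, hs] using hsR)
  have hR1 : ∑ s ∈ R, (A ∩ srgPts G x s).card = 120 :=
    (sum_subset (filter_subset _ _) hzero).trans hS1
  have hR2 : ∑ s ∈ R, (A ∩ srgPts G x s).offDiag.card = 120 := by
    refine (sum_subset (filter_subset _ _) fun s hs hsR => ?_).trans hS2
    rw [offDiag_card, hzero s hs hsR]; rfl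
  have hsq : ∑ s ∈ R, (((A ∩ srgPts G x s).card : ℤ) - 2) ^ 2 = 0 := by
    have h : ∀ s ∈ R, (((A ∩ srgPts G x s).card : ℤ) - 2) ^ 2 =
        ((A ∩ srgPts G x s).offDiag.card : ℤ) - 3 * ((A ∩ srgPts G x s).card : ℤ) + 4 := by
      intro s _
      rw [offDiag_card, Nat.cast_sub (Nat.le_mul_self _)]
      push_cast
      ring
    rw [sum_congr rfl h, sum_add_distrib, sum_sub_distrib, ← mul_sum, ← Nat.cast_sum,
      ← Nat.cast_sum, hR1, hR2, sum_const, hRc]
    rfl
  have hrR : r ∈ R := by simp [hR, hF, hr, hqr.symm, hadj]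
  have h2 := (sum_eq_zero_iff_of_nonneg fun s _ => sq_nonneg _).1 hsq r hrR
  have h3 := pow_eq_zero_iff (n := 2) (by norm_num) |>.1 h2
  omega

/-- The blocks seen from `x`, on the neighbours of `x`. -/
noncomputable def srgBlock (G : SimpleGraph V) [DecidableRel G.Adj] (x q : V) :
    Finset {v // G.Adj x v} :=
  (srgPts G x q).subtype _

theorem card_srgBlock (x q : V) : (srgBlock G x q).card = (srgPts G x q).card := by
  rw [srgBlock, card_subtype, filter_true_of_mem]
  intro v hv
  simp [srgPts] at hv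
  exact hv.1

theorem srgBlock_inter (x q r : V) :
    (srgBlock G x q ∩ srgBlock G x r).card = (srgPts G x q ∩ srgPts G x r).card := by
  rw [← card_map (Function.Embedding.subtype fun v => G.Adj x v)]
  congr 1
  ext v
  simp [srgBlock, srgPts]
  tauto

theorem exists_iso_std (hG : G.IsSRGWith 100 22 0 6) : Nonempty (stdHS ≃g G) := by
  classical
  obtain ⟨x⟩ : Nonempty V := Fintype.card_pos_iff.1 (by rw [hG.card]; norm_num)
  have hα : Fintype.card {v // G.Adj x v} = 22 := by
    rw [Fintype.card_subtype, ← hG.regular x, ← SimpleGraph.card_neighborFinset_eq_degree]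
    congr 1
    ext v
    simp
  let B : Set (Finset {v // G.Adj x v}) := {b | ∃ q ∈ srgFar G x, srgBlock G x q = b}
  have hcard6 : ∀ q ∈ srgFar G x, (srgBlock G x q).card = 6 := by
    intro q hq
    have hq' := (mem_filter.1 hq).2
    rw [card_srgBlock, srgPts, srg_card_inter hG, if_neg hq'.1.symm, if_neg hq'.2]
  have hint : ∀ q ∈ srgFar G x, ∀ r ∈ srgFar G x, q ≠ r →
      (srgBlock G x q ∩ srgBlock G x r).card = if G.Adj q r then 0 else 2 := by
    intro q hq r hr hqr
    rw [srgBlock_inter, srgPts_inter_card hG hq hr hqr]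
  have hinj : Set.InjOn (srgBlock G x) (srgFar G x) := by
    intro q hq r hr e
    by_contra hqr
    have h := hint q hq r hr hqr
    rw [e, inter_self, hcard6 r hr] at h
    split at h <;> omega
  have hB : Cfsg.IsSteinerSystem 3 6 B := by
    refine ⟨by rintro b ⟨q, hq, rfl⟩; exact hcard6 q hq, fun s hs => ?_⟩
    have hdisj : ((srgFar G x : Finset V) : Set V).PairwiseDisjoint
        fun q => (srgBlock G x q).powersetCard 3 := by
      intro q hq r hr hqr
      simp only [Function.onFun, disjoint_left, mem_powersetCard]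
      intro t ht ht'
      have h := card_le_card (subset_inter ht.1 ht'.1)
      rw [hint q hq r hr hqr, ht.2] at h
      split at h <;> omega
    have hcov : (srgFar G x).biUnion (fun q => (srgBlock G x q).powersetCard 3) =
        (univ : Finset {v // G.Adj x v}).powersetCard 3 := by
      refine eq_of_subset_of_card_le ?_ ?_
      · intro t ht
        obtain ⟨q, -, ht⟩ := mem_biUnion.1 ht
        exact mem_powersetCard.2 ⟨subset_univ _, (mem_powersetCard.1 ht).2⟩
      · rw [card_powersetCard, card_univ, hα, card_biUnion hdisj,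
          sum_congr rfl fun q hq => by rw [card_powersetCard, hcard6 q hq], sum_const,
          card_srgFar hG]
        decide
    have hs' : s ∈ (univ : Finset {v // G.Adj x v}).powersetCard 3 :=
      mem_powersetCard.2 ⟨subset_univ _, hs⟩
    rw [← hcov] at hs'
    obtain ⟨q, hq, hsq⟩ := mem_biUnion.1 hs'
    refine ⟨srgBlock G x q, ⟨⟨q, hq, rfl⟩, (mem_powersetCard.1 hsq).1⟩, ?_⟩
    rintro _ ⟨⟨r, hr, rfl⟩, hsr⟩
    by_contra hne
    exact disjoint_left.1 (hdisj hq hr fun e => hne (e ▸ rfl)) hsq (mem_powersetCard.2 ⟨hsr, hs⟩)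
  let vB : B → V := fun b => b.2.choose
  have hvB : ∀ b : B, vB b ∈ srgFar G x ∧ srgBlock G x (vB b) = b.1 := fun b => b.2.choose_spec
  let ψ : Option ({v // G.Adj x v} ⊕ B) → V := fun o => o.elim x (Sum.elim Subtype.val vB)
  have hbij : Function.Bijective ψ := by
    constructor
    · rintro (_ | (p | b)) (_ | (p' | b')) h <;> simp only [ψ, Option.elim, Sum.elim_inl, Sum.elim_inr] at h
      · rfl
      · exact absurd h p'.2.ne
      · exact absurd h.symm (mem_filter.1 (hvB b').1).2.1
      · exact absurd h.symm p.2.ne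
      · exact congrArg (fun t => some (Sum.inl t)) (Subtype.ext h)
      · exact absurd p.2 (h ▸ (mem_filter.1 (hvB b').1).2.2)
      · exact absurd h (mem_filter.1 (hvB b).1).2.1
      · exact absurd p'.2 (h ▸ (mem_filter.1 (hvB b).1).2.2)
      · have he : b.1 = b'.1 := by rw [← (hvB b).2, ← (hvB b').2, h]
        exact congrArg (fun t => some (Sum.inr t)) (Subtype.ext he)
    · intro v
      by_cases hvx : v = x
      · exact ⟨none, hvx.symm⟩
      by_cases hav : G.Adj x v
      · exact ⟨some (Sum.inl ⟨v, hav⟩), rfl⟩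
      · have hv : v ∈ srgFar G x := mem_filter.2 ⟨mem_univ _, hvx, hav⟩
        exact ⟨some (Sum.inr ⟨_, v, hv, rfl⟩), hinj (hvB _).1 hv (hvB _).2⟩
  have hpb : ∀ (p : {v // G.Adj x v}) (b : B), G.Adj p.1 (vB b) ↔ p ∈ b.1 := by
    intro p b
    rw [← (hvB b).2]
    simp [srgBlock, srgPts, p.2, SimpleGraph.adj_comm]
  have hbb : ∀ b b' : B, G.Adj (vB b) (vB b') ↔ b ≠ b' ∧ Disjoint b.1 b'.1 := by
    intro b b'
    by_cases hbb' : b = b'
    · subst hbb'; simp
    have hne : vB b ≠ vB b' := fun e => hbb' (Subtype.ext (by rw [← (hvB b).2, ← (hvB b').2, e]))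
    have h := hint _ (hvB b).1 _ (hvB b').1 hne
    rw [(hvB b).2, (hvB b').2] at h
    constructor
    · intro ha
      rw [if_pos ha] at h
      exact ⟨hbb', disjoint_iff_inter_eq_empty.2 (card_eq_zero.1 h)⟩
    · rintro ⟨-, hd⟩
      by_contra ha
      rw [if_neg ha, disjoint_iff_inter_eq_empty.1 hd, card_empty] at h
      omega
  obtain ⟨f⟩ := pointBlockGraph_iso_std hα hB
  refine ⟨f.trans ⟨Equiv.ofBijective ψ hbij, fun {o o'} => ?_⟩⟩
  show G.Adj (ψ o) (ψ o') ↔ _
  rw [Cfsg.pointBlockGraph, SimpleGraph.fromRel_adj]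
  rcases o with _ | (p | b) <;> rcases o' with _ | (p' | b') <;>
    simp only [ψ, Option.elim, Sum.elim_inl, Sum.elim_inr, Cfsg.pointBlockRel, ne_eq, not_true_eq_false,
      false_and, or_false, false_or, reduceCtorEq, not_false_eq_true, true_and, iff_true, iff_false,
      SimpleGraph.irrefl]
  · exact p'.2
  · exact (mem_filter.1 (hvB b').1).2.2
  · exact p.2.symm
  · simpa using not_adj_of_adj_adj hG p.2 p'.2
  · simpa using hpb p b'
  · exact fun h => (mem_filter.1 (hvB b).1).2.2 h.symm
  · rw [SimpleGraph.adj_comm]; simpa using hpb p' b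
  · rw [hbb]
    simp only [Option.some.injEq, Sum.inr.injEq, disjoint_comm (a := b'.1), or_self]

end

theorem srg100_unique {V W : Type*} [Fintype V] [Fintype W] {G : SimpleGraph V} {H : SimpleGraph W}
    [DecidableRel G.Adj] [DecidableRel H.Adj] (hG : G.IsSRGWith 100 22 0 6)
    (hH : H.IsSRGWith 100 22 0 6) : Nonempty (G ≃g H) := by
  classical
  obtain ⟨f⟩ := exists_iso_std hG
  obtain ⟨g⟩ := exists_iso_std hH
  exact ⟨f.symm.trans g⟩

end CfsgLib.Mathieu
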