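import Cfsg.Agent.Lib.Mathieu.RankThree
import Cfsg.Agent.Lib.Mathieu.HSCert
import Cfsg.Agent.Lib.Mathieu.SRG100

/-!
The automorphism group of the graph on 100 points has order 88704000 and a simple subgroup of
order 44352000.
-/

set_option autoImplicit false

namespace CfsgLib.Mathieu.HS

open MulAction Finset GraphAut RankThree HSCert
open scoped Classical

/-- The subgroup generated by the listed automorphisms of order 11. -/
noncomputable abbrev hsGroup : Subgroup (Equiv.Perm (Fin 100)) := gen7 100 gensP

theorem gens_perm : ∀ c ∈ gensP, isPerm7 100 c = true := fun c hc =>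
  (Bool.and_eq_true _ _ ▸ List.all_eq_true.1 gensP_aut c hc : _ ∧ _).1

theorem hsGroup_le : hsGroup ≤ rowAut 100 rows := by
  refine (Subgroup.closure_le _).2 ?_
  rintro _ ⟨c, hc, rfl⟩
  exact perm7_mem_rowAut (List.all_eq_true.1 gensP_aut c hc)

theorem card_aut : Nat.card (rowAut 100 rows) = 88704000 :=
  (card_rowAut gens_aut lower upper).trans (by decide +kernel)

/-- The odd automorphism as a product of transpositions. -/
def oddProd : Equiv.Perm (Fin 100) := (oddSwaps.map fun q => Equiv.swap q.1 q.2).prod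

theorem sign_oddProd : Equiv.Perm.sign oddProd = -1 := by
  rw [oddProd, map_list_prod, List.map_map]
  decide +kernel

theorem perm7_oddGen : perm7 100 oddGen = oddProd := by
  have h : isPerm7 100 oddGen = true := (Bool.and_eq_true _ _ ▸ oddGen_aut : _ ∧ _).1
  have hall : ∀ x : Fin 100, app7 oddGen x.1 = (oddProd x).1 := by decide +kernel
  exact Equiv.ext fun x => Fin.ext ((perm7_apply h x).trans (hall x))

theorem oddGen_notMem : perm7 100 oddGen ∉ hsGroup := by
  intro h
  have h1 := gen7_le_sign (p := 11) (by decide) gens_perm gensP_pow h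
  rw [MonoidHom.mem_ker, perm7_oddGen, sign_oddProd] at h1
  exact absurd h1 (by decide)

theorem card_hsGroup : Nat.card hsGroup = 44352000 :=
  card_eq_half hsGroup_le (by rw [card_aut])
    (le_of_eq_of_le (by decide +kernel) (card_ge7 gens_perm perm7_mem_gen7 lowerP))
    (perm7_mem_rowAut oddGen_aut) oddGen_notMem

/-- The neighbours of the base point. -/
noncomputable def near : Finset (Fin 100) := univ.filter fun x => (packAt rows 100 0).testBit x.1

/-- The other points. -/
noncomputable def far : Finset (Fin 100) :=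
  univ.filter fun x => x ≠ 0 ∧ (packAt rows 100 0).testBit x.1 = false

theorem mem_near {x : Fin 100} : x ∈ near ↔ (packAt rows 100 0).testBit x.1 = true := by simp [near]

theorem card_near : near.card = 22 := by
  rw [show near = maskSet 100 (packAt rows 100 0) from by ext x; simp [near], card_maskSet]
  decide +kernel

theorem card_far : far.card = 77 := by
  rw [show far = maskSet 100 ((2 ^ 100 - 1) ^^^ (packAt rows 100 0 ||| 1)) from ?_, card_maskSet]
  · decide +kernel
  · have hall : ∀ x : Fin 100, decide (x ≠ 0 ∧ (packAt rows 100 0).testBit x.1 = false) =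
        ((2 ^ 100 - 1) ^^^ (packAt rows 100 0 ||| 1)).testBit x.1 := by decide +kernel
    ext x
    rw [mem_maskSet, ← hall x]
    simp [far]

theorem lowerP_tail : checkLow7 100 gensP [0] levelsP.tail = true := by decide +kernel

theorem lowerFar_tail : checkLow7 100 gensP [0] levelsFar.tail = true := by decide +kernel

theorem lowerP_tail2 : checkLow7 100 gensP [0, 1] levelsP.tail.tail = true := by decide +kernel

theorem near_pts : ∀ x : Fin 100, (packAt rows 100 0).testBit x.1 = true →
    x.1 ∈ pts7 gensP (levelsP.tail.headD (0, [])) ∧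
      (x.1 = 1 ∨ x.1 ∈ pts7 gensP (levelsP.tail.tail.headD (0, []))) := by
  decide +kernel

theorem far_pts : ∀ x : Fin 100, x ≠ 0 → (packAt rows 100 0).testBit x.1 = false →
    x.1 ∈ pts7 gensP (levelsFar.tail.headD (0, [])) := by
  decide +kernel

theorem data : Data hsGroup (0 : Fin 100) near far where
  cover x hx := by
    by_cases h : (packAt rows 100 0).testBit x.1 = true
    · exact Or.inl (mem_near.2 h)
    · exact Or.inr (by simp [far, hx, h])
  notMem₁ := by
    have h0 : (packAt rows 100 0).testBit 0 = false := by decide +kernel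
    simp [near, h0]
  notMem₂ := by simp [far]
  disjoint := by
    rw [Finset.disjoint_left]
    intro x hx hx'
    rw [mem_near] at hx
    simp [far, hx] at hx'
  trans₁ x hx y hy := by
    obtain ⟨g, hg, hgx⟩ := exists_level_map gens_perm perm7_mem_gen7
      (lv := levelsP.tail.headD (0, [])) (rest := levelsP.tail.tail) lowerP_tail
      (near_pts x (mem_near.1 hx)).1 (near_pts y (mem_near.1 hy)).1
    exact ⟨g, hg 0 (by decide), hgx⟩
  trans₂ x hx y hy := by
    simp only [far, mem_filter] at hx hy
    obtain ⟨g, hg, hgx⟩ := exists_level_map gens_perm perm7_mem_gen7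
      (lv := levelsFar.tail.headD (0, [])) (rest := levelsFar.tail.tail) lowerFar_tail
      (far_pts x hx.2.1 hx.2.2) (far_pts y hy.2.1 hy.2.2)
    exact ⟨g, hg 0 (by decide), hgx⟩

theorem transitive : IsPretransitive hsGroup (Fin 100) :=
  isPretransitive7 gens_perm perm7_mem_gen7 (lv := levelsP.headD (0, [])) (lvs := levelsP.tail)
    lowerP (by decide +kernel)

/-- Pairs of distinct neighbours of the base point form one orbit of its stabiliser. -/
theorem near_two {u v u' v' : Fin 100} (hu : u ∈ near) (hv : v ∈ near) (huv : u ≠ v)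
    (hu' : u' ∈ near) (hv' : v' ∈ near) (huv' : u' ≠ v') :
    ∃ g : hsGroup, g • (0 : Fin 100) = 0 ∧ g • u = u' ∧ g • v = v' := by
  have h1 : (1 : Fin 100) ∈ near := mem_near.2 (by decide +kernel)
  suffices key : ∀ u v : Fin 100, u ∈ near → v ∈ near → u ≠ v → ∀ w ∈ near, w ≠ 1 →
      ∃ g : hsGroup, g • (0 : Fin 100) = 0 ∧ g • u = 1 ∧ g • v = w by
    obtain ⟨w, hw, hw1⟩ : ∃ w ∈ near, w ≠ (1 : Fin 100) :=
      exists_mem_ne (by rw [card_near]; norm_num) 1
    obtain ⟨g, g0, gu, gv⟩ := key u v hu hv huv w hw hw1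
    obtain ⟨k, k0, ku, kv⟩ := key u' v' hu' hv' huv' w hw hw1
    refine ⟨k⁻¹ * g, ?_, ?_, ?_⟩
    · rw [mul_smul, g0, inv_smul_eq_iff, k0]
    · rw [mul_smul, gu, inv_smul_eq_iff, ku]
    · rw [mul_smul, gv, inv_smul_eq_iff, kv]
  intro u v hu hv huv w hw hw1
  obtain ⟨g, g0, gu⟩ := data.trans₁ u hu 1 h1
  have hadj : ∀ z ∈ near, g • z ∈ near := fun z hz => by
    rw [mem_near] at hz ⊢
    have h := (mem_rowAut.1 (hsGroup_le g.2)) 0 z
    rw [show (g : Equiv.Perm (Fin 100)) 0 = 0 from g0] at h
    exact h.trans hz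
  have hne : g • v ≠ (1 : Fin 100) := fun e => huv (smul_left_cancel g (gu.trans e.symm))
  obtain ⟨k, hk, hkv⟩ := exists_level_map gens_perm perm7_mem_gen7
    (lv := levelsP.tail.tail.headD (0, [])) (rest := levelsP.tail.tail.tail) lowerP_tail2
    ((near_pts _ (mem_near.1 (hadj v hv))).2.resolve_left fun e => hne (Fin.ext e))
    ((near_pts w (mem_near.1 hw)).2.resolve_left fun e => hw1 (Fin.ext e))
  exact ⟨k * g, by rw [mul_smul, g0, hk 0 (by decide)], by rw [mul_smul, gu, hk 1 (by decide)],
    by rw [mul_smul, hkv]⟩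

theorem eq_one_of_fix_near {g : Equiv.Perm (Fin 100)} (hg : g ∈ rowAut 100 rows) (h0 : g 0 = 0)
    (h : ∀ x ∈ near, g x = x) : g = 1 := by
  have hc : Nat.card (fixPts (rowAut 100 rows) (List.range 23)) ≤ 1 :=
    card_le7 (gens := []) [] (List.range 23) nbrs_fix
  have hm : g ∈ fixPts (rowAut 100 rows) (List.range 23) := mem_fixPts.2 ⟨hg, fun x hx => by
    have hall : ∀ x : Fin 100, x.1 < 23 → x = 0 ∨ (packAt rows 100 0).testBit x.1 = true := by
      decide +kernel
    rcases hall x (List.mem_range.1 hx) with rfl | hx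
    · exact h0
    · exact h x (mem_near.2 hx)⟩
  rw [Subgroup.eq_bot_of_card_le _ hc, Subgroup.mem_bot] at hm
  exact hm

theorem dvd_eleven_of_normal {N : Subgroup hsGroup} [hN : N.Normal] (hne : N ≠ ⊥) :
    11 ∣ Nat.card N := by
  have := transitive
  have hX : Fintype.card (Fin 100) = 100 := Fintype.card_fin 100
  have hNt := normal_isPretransitive data (by rw [hX, card_near]; decide) (by rw [hX, card_far]; decide)
    (N := N) hne
  by_cases hfix : ∀ m : N, m • (0 : Fin 100) = 0 → m = 1
  · exfalso
    have hcard : Nat.card N = 100 := by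
      refine Eq.trans ?_ (Nat.card_eq_fintype_card.trans hX)
      refine Nat.card_eq_of_bijective (fun m : N => m • (0 : Fin 100)) ⟨fun x y e => ?_, ?_⟩
      · have := hfix (y⁻¹ * x) (by rw [mul_smul]; exact (congrArg (y⁻¹ • ·) e).trans (inv_smul_smul y _))
        exact (inv_mul_eq_one.1 this).symm
      · exact fun y => exists_smul_eq N 0 y
    have : Fact (Nat.Prime 5) := ⟨by norm_num⟩
    obtain ⟨Q⟩ : Nonempty (Sylow 5 N) := inferInstance
    have hQc : Nat.card Q = 25 := by
      rw [Q.card_eq_multiplicity, hcard, show (100 : ℕ) = 2 ^ 2 * 5 ^ 2 by norm_num,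
        Nat.factorization_mul (by norm_num) (by norm_num), Nat.Prime.factorization_pow (by norm_num),
        Nat.Prime.factorization_pow (by norm_num)]
      simp
    have huniq : ∀ R : Sylow 5 N, R = Q := by
      have h1 : Nat.card (Sylow 5 N) ∣ 4 := by
        refine (Sylow.card_dvd_index Q).trans (dvd_of_eq ?_)
        have hmul := Subgroup.card_mul_index (Q : Subgroup N)
        have hQc' : Nat.card (Q : Subgroup N) = 25 := hQc
        rw [hQc', hcard] at hmul
        omega
      have h2 : Nat.card (Sylow 5 N) % 5 = 1 := card_sylow_modEq_one 5 N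
      have h3 : Nat.card (Sylow 5 N) = 1 := by
        have := Nat.le_of_dvd (by norm_num) h1
        interval_cases Nat.card (Sylow 5 N) <;> omega
      have := (Nat.card_eq_one_iff_unique.1 h3).1
      exact fun R => Subsingleton.elim R Q
    let S : Finset (Fin 100) := (univ.filter fun m : N => m ∈ (Q : Subgroup N) ∧ m ≠ 1).image
      fun m => m • (0 : Fin 100)
    have hSc : S.card = 24 := by
      rw [card_image_of_injOn fun x _ y _ e => by
        have := hfix (y⁻¹ * x) (by rw [mul_smul]; exact (congrArg (y⁻¹ • ·) e).trans (inv_smul_smul y _))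
        exact (inv_mul_eq_one.1 this).symm]
      rw [show (univ.filter fun m : N => m ∈ (Q : Subgroup N) ∧ m ≠ 1) =
        (univ.filter fun m : N => m ∈ (Q : Subgroup N)).erase 1 by
          ext m; simp only [mem_filter, mem_erase, Finset.mem_univ, true_and]; tauto,
        card_erase_of_mem (by simp), ← Fintype.card_subtype, ← Nat.card_eq_fintype_card]
      show Nat.card Q - 1 = 24
      rw [hQc]
    have hS := invariant_card data S (by
        simp only [S, mem_image, mem_filter, not_exists, not_and]
        rintro m ⟨-, -, hm⟩ e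
        exact hm (hfix m e))
      (by
        intro g hg x hx
        simp only [S, mem_image, mem_filter, Finset.mem_univ, true_and] at hx ⊢
        obtain ⟨m, ⟨hmQ, hm1⟩, rfl⟩ := hx
        refine ⟨MulAut.conjNormal g m, ⟨?_, fun e => hm1 ?_⟩, ?_⟩
        · have h := huniq (Q.comapOfInjective (MulAut.conjNormal (H := N) g).toMonoidHom
            (MulAut.conjNormal (H := N) g).injective
            fun x _ => ⟨(MulAut.conjNormal (H := N) g).symm x, MulEquiv.apply_symm_apply _ x⟩)
          have hm' : m ∈ (Q : Subgroup N) := hmQ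
          rw [← h] at hm'
          exact hm'
        · exact (MulEquiv.map_eq_one_iff _).1 e
        · show ((MulAut.conjNormal g m : N) : hsGroup) • (0 : Fin 100) = g • (m : hsGroup) • (0 : Fin 100)
          rw [MulAut.conjNormal_apply, mul_smul, mul_smul, inv_smul_eq_iff.2 hg.symm])
    rw [hSc, card_near, card_far] at hS
    omega
  · push Not at hfix
    obtain ⟨m, hm0, hm1⟩ := hfix
    obtain ⟨u, hu, hmu⟩ : ∃ u ∈ near, m • u ≠ u := by
      by_contra h
      push Not at h
      refine hm1 (Subtype.ext (Subtype.ext ?_))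
      exact eq_one_of_fix_near (hsGroup_le (m : hsGroup).2) hm0 h
    have hmn : m • u ∈ near := by
      rw [mem_near] at hu ⊢
      have h := (mem_rowAut.1 (hsGroup_le (m : hsGroup).2)) 0 u
      rw [show ((m : hsGroup) : Equiv.Perm (Fin 100)) 0 = 0 from hm0] at h
      exact h.trans hu
    -- the stabiliser of `0` in `N` is transitive on the neighbours
    have htr : orbit (stabilizer N (0 : Fin 100)) u = (near : Set (Fin 100)) := by
      refine Set.Subset.antisymm ?_ fun w hw => ?_
      · rintro _ ⟨k, rfl⟩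
        rw [Finset.mem_coe, mem_near] at *
        have h := (mem_rowAut.1 (hsGroup_le ((k : N) : hsGroup).2)) 0 u
        rw [show (((k : N) : hsGroup) : Equiv.Perm (Fin 100)) 0 = 0 from k.2] at h
        exact h.trans hu
      · by_cases hwu : w = u
        · rw [hwu]; exact mem_orbit_self u
        obtain ⟨g, g0, gu, gv⟩ := near_two hu hmn (Ne.symm hmu) hu hw (Ne.symm hwu)
        refine ⟨⟨⟨g * (m : hsGroup) * g⁻¹, hN.conj_mem _ m.2 g⟩, ?_⟩, ?_⟩
        · show (g * (m : hsGroup) * g⁻¹) • (0 : Fin 100) = 0
          rw [mul_smul, mul_smul, inv_smul_eq_iff.2 g0.symm]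
          exact (congrArg (g • ·) hm0).trans g0
        · show (g * (m : hsGroup) * g⁻¹) • u = w
          rw [mul_smul, mul_smul, inv_smul_eq_iff.2 gu.symm]
          exact gv
    have h1 : (orbit (stabilizer N (0 : Fin 100)) u).ncard ∣ Nat.card N := by
      rw [← index_stabilizer]
      exact (Subgroup.index_dvd_card _).trans (Subgroup.card_subgroup_dvd_card _)
    rw [htr, Set.ncard_coe_finset, card_near] at h1
    exact dvd_trans (by norm_num) h1

theorem isSimpleGroup_hsGroup : IsSimpleGroup hsGroup := by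
  have : Fact (Nat.Prime 11) := ⟨by norm_num⟩
  have : Nontrivial hsGroup :=
    Finite.one_lt_card_iff_nontrivial.1 (by rw [card_hsGroup]; norm_num)
  refine ⟨fun N hN => or_iff_not_imp_left.2 fun hne => ?_⟩
  rw [eq_top_iff, ← gen7_closure_pow gens_perm gensP_pow, Subgroup.closure_le]
  intro g hg
  exact mem_of_pow_eq_one (k := 1) (by rw [pow_one]; exact dvd_eleven_of_normal hne)
    (by rw [card_hsGroup]; norm_num) hg

/-! ### Transport to the point-block graph -/

theorem adj_eq (i j : Fin 100) : (packAt rows 100 i.1).testBit j.1 = pbAdj100 i.1 j.1 := by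
  have h : rows = nbrs100 := by decide +kernel
  have hc := check100
  simp only [checkSRG, List.all_eq_true, List.mem_range, Bool.and_eq_true, beq_iff_eq] at hc
  rw [h, (hc i.1 i.2).1.1, Bool.eq_iff_iff, testBit_orBits, List.mem_filter, List.mem_range]
  exact and_iff_right j.2

/-- Row automorphisms as automorphisms of a graph isomorphic to the standard one. -/
noncomputable def toGraphAut {V : Type*} {G : SimpleGraph V} (f : stdHS ≃g G) :
    rowAut 100 rows →* (G ≃g G) where
  toFun σ := ⟨f.toEquiv.permCongr σ.1, fun {x y} => by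
    obtain ⟨i, rfl⟩ := f.surjective x
    obtain ⟨j, rfl⟩ := f.surjective y
    show G.Adj (f (σ.1 (f.symm (f i)))) (f (σ.1 (f.symm (f j)))) ↔ G.Adj (f i) (f j)
    rw [f.symm_apply_apply, f.symm_apply_apply, f.map_adj_iff, f.map_adj_iff, stdHS_adj, stdHS_adj,
      ← adj_eq, ← adj_eq, mem_rowAut.1 σ.2 i j]⟩
  map_one' := by ext x; simp
  map_mul' σ τ := by ext x; simp [Equiv.permCongr_apply]

theorem toGraphAut_injective {V : Type*} {G : SimpleGraph V} (f : stdHS ≃g G) :
    Function.Injective (toGraphAut f) := by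
  intro σ τ h
  exact Subtype.ext (f.toEquiv.permCongr.injective (congrArg RelIso.toEquiv h))

theorem exists_simple_subgroup {α : Type*} [Fintype α] {B : Set (Finset α)}
    (hα : Fintype.card α = 22) (hB : Cfsg.IsSteinerSystem 3 6 B) :
    ∃ H : Subgroup (Cfsg.pointBlockGraph B ≃g Cfsg.pointBlockGraph B),
      IsSimpleGroup H ∧ Nat.card H = 44352000 := by
  obtain ⟨f⟩ := pointBlockGraph_iso_std hα hB
  refine ⟨(hsGroup.subgroupOf (rowAut 100 rows)).map (toGraphAut f), ?_⟩
  let e : (hsGroup.subgroupOf (rowAut 100 rows)).map (toGraphAut f) ≃* hsGroup :=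
    (Subgroup.equivMapOfInjective _ (toGraphAut f) (toGraphAut_injective f)).symm.trans
      (Subgroup.subgroupOfEquivOfLe hsGroup_le)
  exact ⟨@MulEquiv.isSimpleGroup _ _ _ _ isSimpleGroup_hsGroup e,
    (Nat.card_congr e.toEquiv).trans card_hsGroup⟩

end CfsgLib.Mathieu.HS

namespace CfsgLib.Mathieu.HS

open GraphAut HSCert

theorem toGraphAut_surjective {V : Type*} {G : SimpleGraph V} (f : stdHS ≃g G) :
    Function.Surjective (toGraphAut f) := by
  intro φ
  have hmem : f.toEquiv.trans (φ.toEquiv.trans f.toEquiv.symm) ∈ rowAut 100 rows := by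
    refine mem_rowAut.2 fun i j => ?_
    rw [adj_eq, adj_eq, Bool.eq_iff_iff, ← stdHS_adj, ← stdHS_adj]
    show stdHS.Adj (f.symm (φ (f i))) (f.symm (φ (f j))) ↔ stdHS.Adj i j
    rw [f.symm.map_adj_iff, φ.map_adj_iff, f.map_adj_iff]
  refine ⟨⟨_, hmem⟩, RelIso.ext fun x => ?_⟩
  show f (f.symm (φ (f (f.symm x)))) = φ x
  rw [f.apply_symm_apply, f.apply_symm_apply]

theorem card_pointBlockGraph_aut {α : Type*} [Fintype α] {B : Set (Finset α)}
    (hα : Fintype.card α = 22) (hB : Cfsg.IsSteinerSystem 3 6 B) :
    Nat.card (Cfsg.pointBlockGraph B ≃g Cfsg.pointBlockGraph B) = 88704000 := by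
  obtain ⟨f⟩ := pointBlockGraph_iso_std hα hB
  rw [← card_aut]
  exact (Nat.card_congr (Equiv.ofBijective _ ⟨toGraphAut_injective f, toGraphAut_surjective f⟩)).symm

end CfsgLib.Mathieu.HS
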