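import Cfsg.Prelude.Def_KGroupFacts
import Cfsg.Agent.Lib.Mathieu.HSLattice
import Cfsg.Agent.Lib.GolayStructure.IndexM22
import Cfsg.Agent.Lib.ExtraspecialLarge.M24Classes

/-!
The automorphism group of the Higman–Sims group is the automorphism group of its graph.
-/

set_option autoImplicit false

namespace CfsgLib.Mathieu.HSOut

open MulAction Cfsg CfsgLib.GolayStructure CfsgLib.Leech
open scoped Pointwise Classical

universe u v

local instance fact_prime_two_hs : Fact (Nat.Prime 2) := ⟨by norm_num⟩
local instance fact_prime_seven_hs : Fact (Nat.Prime 7) := ⟨by norm_num⟩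
local instance fact_prime_eleven_hs : Fact (Nat.Prime 11) := ⟨by norm_num⟩

theorem card_baseFix : Nat.card baseFix = 443520 :=
  CfsgLib.Golay.card_stabilizer_two ptP_ne_ptQ

/-- An element of order seven fixing two points is normalised by no involution fixing them. -/
theorem not_normalised_seven {g w : M24} (hg : g ∈ baseFix) (ho : orderOf g = 7) (hw : w ∈ baseFix)
    (how : orderOf w = 2) : ¬ (w * g * w⁻¹ = g ∨ w * g * w⁻¹ = g⁻¹) := by
  intro hcase
  have h3 := fixed_card (p := 7) (r := 3) (Or.inr (Or.inl ⟨rfl, rfl⟩)) ho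
  set A := Finset.univ.filter fun x : GolayPt => g • x = x with hA
  have hpow : ∀ i : ℤ, ¬ (7 : ℤ) ∣ i → ∀ x : GolayPt, (g ^ i) • x = x → g • x = x := by
    intro i hi x hx
    have hcop : IsCoprime i (7 : ℤ) :=
      ((Int.prime_iff_natAbs_prime.2 (by norm_num)).coprime_iff_not_dvd.2 hi).symm
    obtain ⟨s, t, hst⟩ := hcop
    have h7 : g ^ (7 : ℤ) = 1 := by
      rw [show (7 : ℤ) = ((7 : ℕ) : ℤ) by norm_num, zpow_natCast]; exact ho ▸ pow_orderOf_eq_one g
    have hg' : g = (g ^ i) ^ s := by
      conv_lhs => rw [← zpow_one g, ← hst]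
      rw [zpow_add, mul_comm t, zpow_mul g 7 t, h7, one_zpow, mul_one, mul_comm, zpow_mul]
    rw [hg']
    exact (Subgroup.zpow_mem _ (mem_stabilizer_iff.2 hx) s : (g ^ i) ^ s ∈ stabilizer M24 x)
  -- the eight fixed points of `w`
  obtain ⟨B, hB, hBfix⟩ : ∃ B : Finset GolayPt, B.card = 8 ∧ ∀ x, x ∈ B ↔ w • x = x := by
    refine ⟨Finset.univ.filter fun x => w • x = x, ?_, fun x => by simp⟩
    have hne : ∃ x, (w : Equiv.Perm GolayPt) x = x := ⟨ptP, hw.1⟩
    rcases CfsgLib.ExtraspecialLarge.M24Classes.involution_cases w.2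
      (by rw [← how]; exact Subgroup.orderOf_coe w) with ⟨h, -⟩ | ⟨h, -⟩
    · exact h
    · exfalso
      obtain ⟨x, hx⟩ := hne
      exact Finset.notMem_empty x ((Finset.card_eq_zero.1 h) ▸ Finset.mem_filter.2 ⟨Finset.mem_univ _, hx⟩)
  -- translates of the fixed set meet only in fixed points of `g`
  have hdisj : ∀ i j : Fin 7, i ≠ j →
      Disjoint ((B \ A).image fun x => g ^ (i : ℕ) • x) ((B \ A).image fun x => g ^ (j : ℕ) • x) := by
    intro i j hij
    rw [Finset.disjoint_left]
    intro u hu hu'
    obtain ⟨x, hx, rfl⟩ := Finset.mem_image.1 hu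
    obtain ⟨y, hy, he⟩ := Finset.mem_image.1 hu'
    simp only [Finset.mem_sdiff, hBfix, hA, Finset.mem_filter, Finset.mem_univ, true_and] at hx hy
    set e : ℤ := (j : ℤ) - i with he0
    have he1 : (g ^ e) • y = x := by
      rw [he0, zpow_sub, zpow_natCast, zpow_natCast]
      rw [((Commute.refl g).pow_pow (j : ℕ) (i : ℕ)).inv_right.eq, mul_smul, he, inv_smul_smul]
    have hndvd : ¬ (7 : ℤ) ∣ e := by
      intro h
      apply hij
      have := i.2; have := j.2
      exact Fin.ext (by omega)
    rcases hcase with hc | hc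
    · have hB' : ∀ k : ℕ, w • (g ^ k • y) = g ^ k • y := fun k => by
        have hcw : Commute w g := mul_inv_eq_iff_eq_mul.1 hc
        rw [← mul_smul, (hcw.pow_right k).eq, mul_smul, hy.1]
      have hsub : (Finset.range 7).image (fun k => g ^ k • y) ⊆ B \ A := by
        intro z hz
        obtain ⟨k, -, rfl⟩ := Finset.mem_image.1 hz
        simp only [Finset.mem_sdiff, hBfix, hA, Finset.mem_filter, Finset.mem_univ, true_and]
        refine ⟨hB' k, fun h => hy.2 ?_⟩
        rw [← mul_smul, ((Commute.refl g).pow_right k).eq, mul_smul] at h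
        exact MulAction.injective _ h
      have h7 := Finset.card_le_card hsub
      rw [Finset.card_image_of_injOn, Finset.card_range] at h7
      · have hAB : 3 ≤ (B ∩ A).card + 1 := by
          have : ({ptP, ptQ} : Finset GolayPt) ⊆ B ∩ A := by
            intro z hz
            simp only [Finset.mem_insert, Finset.mem_singleton] at hz
            simp only [Finset.mem_inter, hBfix, hA, Finset.mem_filter, Finset.mem_univ, true_and]
            rcases hz with rfl | rfl
            exacts [⟨hw.1, hg.1⟩, ⟨hw.2, hg.2⟩]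
          have := Finset.card_le_card this
          rw [Finset.card_pair ptP_ne_ptQ] at this
          omega
        have := Finset.card_sdiff_add_card_inter B A
        omega
      · intro a ha b hb hab
        simp only [Finset.coe_range, Set.mem_Iio] at ha hb
        by_contra hne
        refine hy.2 (hpow ((a : ℤ) - b) (by omega) y ?_)
        have hab' : g ^ a • y = g ^ b • y := hab
        rw [zpow_sub, zpow_natCast, zpow_natCast, ((Commute.refl g).pow_pow a b).inv_right.eq,
          mul_smul, hab', inv_smul_smul]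
    · refine hy.2 (hpow (e + e) (by omega) y ?_)
      have hinv : w • (g ^ e • y) = g ^ (-e) • y := by
        have h1 : w * g ^ e * w⁻¹ = g ^ (-e) := by
          have h2 := map_zpow (MulAut.conj w) g e
          rw [MulAut.conj_apply, MulAut.conj_apply, hc, inv_zpow, ← zpow_neg] at h2
          exact h2
        rw [← mul_smul, mul_inv_eq_iff_eq_mul.1 h1, mul_smul, hy.1]
      rw [he1, hx.1] at hinv
      rw [zpow_add, mul_smul, he1, hinv, ← mul_smul, ← zpow_add, add_neg_cancel, zpow_zero, one_smul]
  have hsub : (Finset.univ : Finset (Fin 7)).biUnion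
      (fun i => (B \ A).image fun x => g ^ (i : ℕ) • x) ⊆ Aᶜ := by
    intro u hu
    obtain ⟨i, -, hu⟩ := Finset.mem_biUnion.1 hu
    obtain ⟨x, hx, rfl⟩ := Finset.mem_image.1 hu
    simp only [Finset.mem_sdiff, hA, Finset.mem_filter, Finset.mem_univ, true_and] at hx
    simp only [Finset.mem_compl, hA, Finset.mem_filter, Finset.mem_univ, true_and]
    intro h
    rw [← mul_smul, ((Commute.refl g).pow_right _).eq, mul_smul] at h
    exact hx.2 (MulAction.injective _ h)
  have h5 : 5 ≤ (B \ A).card := by
    have := Finset.le_card_sdiff A B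
    omega
  have hc := Finset.card_le_card hsub
  rw [Finset.card_biUnion fun i _ j _ hij => hdisj i j hij, Finset.card_compl, card_golayPt, h3] at hc
  have hs : ∀ i : Fin 7, ((B \ A).image fun x => g ^ (i : ℕ) • x).card = (B \ A).card :=
    fun i => Finset.card_image_of_injective _ (MulAction.injective _)
  rw [Finset.sum_congr rfl fun i _ => hs i, Finset.sum_const, Finset.card_univ, Fintype.card_fin,
    smul_eq_mul] at hc
  omega

/-- A conjugate of `g` in its cyclic group by an involution is `g` or `g⁻¹`. -/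
theorem conj_eq_or_inv {G : Type*} [Group G] {g w : G} (ho : orderOf g = 7) (hw : w ^ 2 = 1)
    (h : w * g * w⁻¹ ∈ Subgroup.zpowers g) : w * g * w⁻¹ = g ∨ w * g * w⁻¹ = g⁻¹ := by
  obtain ⟨i, hi⟩ := Subgroup.mem_zpowers_iff.1 h
  have h2 : g ^ (i * i) = g := by
    rw [zpow_mul, hi, conj_zpow, hi]
    simp only [mul_assoc, ← mul_inv_rev]
    rw [← sq, hw, inv_one, mul_one, ← mul_assoc, ← sq, hw, one_mul]
  have h7 : (7 : ℤ) ∣ i * i - 1 := by
    have h3 : g ^ (i * i - 1) = 1 := by rw [zpow_sub_one, h2, mul_inv_cancel]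
    have h4 := orderOf_dvd_iff_zpow_eq_one.2 h3
    rw [ho] at h4
    exact_mod_cast h4
  have hp : Prime (7 : ℤ) := Int.prime_iff_natAbs_prime.2 (by norm_num)
  rw [show i * i - 1 = (i - 1) * (i + 1) by ring] at h7
  rw [← hi]
  rcases hp.dvd_mul.1 h7 with ⟨k, hk⟩ | ⟨k, hk⟩
  · left
    rw [show i = 1 + 7 * k by omega, zpow_add, zpow_mul, zpow_one,
      show g ^ (7 : ℤ) = g ^ (7 : ℕ) from zpow_natCast g 7, ← ho, pow_orderOf_eq_one, one_zpow,
      mul_one]
  · right
    rw [show i = -1 + 7 * k by omega, zpow_add, zpow_mul, zpow_neg, zpow_one,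
      show g ^ (7 : ℤ) = g ^ (7 : ℕ) from zpow_natCast g 7, ← ho, pow_orderOf_eq_one, one_zpow,
      mul_one]

theorem index_ne_twelve (H : Subgroup baseFix) : H.index ≠ 12 := by
  intro hi
  have hc := H.card_mul_index
  rw [hi, card_baseFix] at hc
  have hH : Nat.card H = 36960 := by omega
  obtain ⟨P⟩ : Nonempty (Sylow 7 H) := inferInstance
  have hP : Nat.card (P : Subgroup H) = 7 := by
    simpa using CfsgLib.SmallGroups.card_sylow_eq (p := 7) (a := 1) (m := 5280)
      (by rw [hH]; norm_num) (by norm_num) P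
  have hodd : ¬ 2 ∣ Nat.card (Subgroup.normalizer ((P : Subgroup H) : Set H)) := by
    intro h2
    obtain ⟨w, hw⟩ := exists_prime_orderOf_dvd_card'
      (G := Subgroup.normalizer ((P : Subgroup H) : Set H)) 2 h2
    obtain ⟨g, hg⟩ := exists_prime_orderOf_dvd_card' (G := (P : Subgroup H)) 7 (dvd_of_eq hP.symm)
    have hgen : (P : Subgroup H) = Subgroup.zpowers (g : H) := by
      refine (Subgroup.eq_of_le_of_card_ge (Subgroup.zpowers_le.2 g.2) ?_).symm
      rw [hP, Nat.card_zpowers, Subgroup.orderOf_coe, hg]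
    have hmem : (w : H) * g * (w : H)⁻¹ ∈ Subgroup.zpowers (g : H) :=
      hgen ▸ (Subgroup.mem_normalizer_iff.1 w.2 g).1 g.2
    have hgo : orderOf (((g : H) : baseFix) : M24) = 7 := by
      rw [Subgroup.orderOf_coe, Subgroup.orderOf_coe, Subgroup.orderOf_coe, hg]
    have hwo : orderOf (((w : H) : baseFix) : M24) = 2 := by
      rw [Subgroup.orderOf_coe, Subgroup.orderOf_coe, Subgroup.orderOf_coe, hw]
    refine not_normalised_seven ((g : H) : baseFix).2 hgo ((w : H) : baseFix).2 hwo
      (conj_eq_or_inv hgo (hwo ▸ pow_orderOf_eq_one _) ?_)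
    obtain ⟨i, hi⟩ := Subgroup.mem_zpowers_iff.1 hmem
    exact Subgroup.mem_zpowers_iff.2 ⟨i, by
      have := congrArg (fun x : H => ((x : baseFix) : M24)) hi
      simpa using this⟩
  have hmul := (Subgroup.normalizer ((P : Subgroup H) : Set H)).index_mul_card
  have hmod : Nat.card (Sylow 7 H) % 7 = 1 := card_sylow_modEq_one 7 H
  have hn : (Subgroup.normalizer ((P : Subgroup H) : Set H)).index = Nat.card (Sylow 7 H) :=
    (Sylow.card_eq_index_normalizer P).symm
  rw [hn, hH] at hmul
  generalize Nat.card (Sylow 7 H) = n at hmul hmod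
  generalize Nat.card (Subgroup.normalizer ((P : Subgroup H) : Set H)) = m at hmul hodd
  have hmd : m ∈ Nat.divisors 36960 :=
    Nat.mem_divisors.2 ⟨Dvd.intro_left n hmul, by norm_num⟩
  have hall : ∀ m ∈ Nat.divisors 1155, ¬ (36960 / m) % 7 = 1 := by decide +kernel
  have hm : m ∈ Nat.divisors 1155 := by
    refine Nat.mem_divisors.2 ⟨?_, by norm_num⟩
    have h1 : m ∣ 2 ^ 5 * 1155 := (Nat.mem_divisors.1 hmd).1
    exact (((Nat.Prime.coprime_iff_not_dvd Nat.prime_two).2 hodd).symm.pow_right 5).dvd_of_dvd_mul_left h1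
  refine hall m hm ?_
  rw [← hmul, Nat.mul_div_cancel _ (Nat.pos_of_mem_divisors hm), hmod]

theorem normalizer_eleven (P : Sylow 11 baseFix) :
    (Subgroup.normalizer ((P : Subgroup baseFix) : Set baseFix)).index = 8064 := by
  have hP : Nat.card (P : Subgroup baseFix) = 11 := by
    simpa using CfsgLib.SmallGroups.card_sylow_eq (p := 11) (a := 1) (m := 40320)
      (by rw [card_baseFix]; norm_num) (by norm_num) P
  have hd := card_normalizer_eleven_dvd ptP_ne_ptQ (H := baseFix) le_rfl
    (by rw [card_baseFix]; norm_num) _ hP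
  have h11 : 11 ∣ Nat.card (Subgroup.normalizer ((P : Subgroup baseFix) : Set baseFix)) :=
    (dvd_of_eq hP.symm).trans (Subgroup.card_dvd_of_le Subgroup.le_normalizer)
  have hmul := (Subgroup.normalizer ((P : Subgroup baseFix) : Set baseFix)).index_mul_card
  have hmod : Nat.card (Sylow 11 baseFix) % 11 = 1 := card_sylow_modEq_one 11 baseFix
  rw [Sylow.card_eq_index_normalizer P] at hmod
  rw [card_baseFix] at hmul
  generalize (Subgroup.normalizer ((P : Subgroup baseFix) : Set baseFix)).index = n at hmul hmod ⊢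
  generalize Nat.card (Subgroup.normalizer ((P : Subgroup baseFix) : Set baseFix)) = m at hd h11 hmul
  obtain ⟨j, rfl⟩ := h11
  have hj : j ∈ Nat.divisors 20 :=
    Nat.mem_divisors.2 ⟨Nat.dvd_of_mul_dvd_mul_left (by norm_num : 0 < 11) hd, by norm_num⟩
  rw [show Nat.divisors 20 = {1, 2, 4, 5, 10, 20} by decide +kernel] at hj
  simp only [Finset.mem_insert, Finset.mem_singleton] at hj
  rcases hj with rfl | rfl | rfl | rfl | rfl | rfl <;> omega

section Generic

open HSRankThree

variable {K : Type u} [Group K] [Finite K] {V : Type v} [MulAction K V] [Fintype V] [DecidableEq V]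
  [IsPretransitive K V] {a b c : V}

omit [DecidableEq V] in
theorem card_stab (H : Sub K a b c) (hK : Nat.card K = 44352000) (x : V) :
    Nat.card (stabilizer K x) = 443520 := by
  have h := (stabilizer K x).index_mul_card
  rw [index_stabilizer_of_transitive K x, H.card, hK] at h
  omega

theorem eleven_unique_fixed (H : Sub K a b c) (hK : Nat.card K = 44352000) {g : K}
    (hg : orderOf g = 11) {x y : V} (hx : g • x = x) (hy : g • y = y) : x = y := by
  obtain ⟨k, rfl⟩ := exists_smul_eq K a x
  by_contra hne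
  have hk : orderOf (k⁻¹ * g * k) = 11 := by
    rw [show k⁻¹ * g * k = MulAut.conj k⁻¹ g by simp, MulEquiv.orderOf_eq, hg]
  have ha : (k⁻¹ * g * k) • a = a := by rw [mul_smul, mul_smul, hx, inv_smul_smul]
  have hy' : (k⁻¹ * g * k) • (k⁻¹ • y) = k⁻¹ • y := by
    rw [mul_smul, mul_smul, smul_inv_smul, hy]
  have hya : k⁻¹ • y ≠ a := fun e => hne (by rw [← e, smul_inv_smul])
  have key : ∀ z : V, k⁻¹ • y ∈ orbit (stabilizer K a) z →
      11 ∣ (orbit (stabilizer K a) z).ncard → False := by
    intro z hz hd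
    rw [← orbit_eq_iff.2 hz, ← index_stabilizer] at hd
    have h := (stabilizer (stabilizer K a) (k⁻¹ • y)).index_mul_card
    rw [card_stab H hK] at h
    have h2 : 11 ∣ Nat.card (stabilizer (stabilizer K a) (k⁻¹ • y)) := by
      refine (dvd_of_eq ?_).trans (Subgroup.orderOf_dvd_natCard _
        (show (⟨k⁻¹ * g * k, ha⟩ : stabilizer K a) ∈ stabilizer (stabilizer K a) (k⁻¹ • y) from hy'))
      rw [← Subgroup.orderOf_coe]; exact hk.symm
    have := Nat.mul_dvd_mul hd h2
    rw [h] at this
    norm_num at this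
  rcases cover H hya with h | h
  · exact key b h (by rw [H.nearCard]; norm_num)
  · exact key c h (by rw [H.farCard]; norm_num)

/-- A subgroup isomorphic to the point stabiliser fixes a point. -/
theorem exists_fixed (H : Sub K a b c) (hK : Nat.card K = 44352000) (L : Subgroup K)
    (e : L ≃* baseFix) : ∃ x : V, ∀ l ∈ L, l • x = x := by
  have hL : Nat.card L = 443520 := (Nat.card_congr e.toEquiv).trans card_baseFix
  obtain ⟨P⟩ : Nonempty (Sylow 11 L) := inferInstance
  have hP : Nat.card (P : Subgroup L) = 11 := by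
    simpa using CfsgLib.SmallGroups.card_sylow_eq (p := 11) (a := 1) (m := 40320)
      (by rw [hL]; norm_num) (by norm_num) P
  have hord : ∀ g : L, g ∈ (P : Subgroup L) → g ≠ 1 → orderOf (g : K) = 11 := fun g hg hg1 => by
    rw [Subgroup.orderOf_coe]
    rcases (Nat.dvd_prime (by norm_num)).1 ((Subgroup.orderOf_dvd_natCard _ hg).trans (dvd_of_eq hP))
      with h | h
    · exact absurd (orderOf_eq_one_iff.1 h) hg1
    · exact h
  obtain ⟨g, hg⟩ := exists_prime_orderOf_dvd_card' (G := (P : Subgroup L)) 11 (dvd_of_eq hP.symm)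
  have hgP : (g : L) ∈ (P : Subgroup L) := g.2
  have hg1 : (g : L) ≠ 1 := fun h => by
    rw [← Subgroup.orderOf_coe, h, orderOf_one] at hg; norm_num at hg
  obtain ⟨x, hx⟩ : ∃ x : V, x ∈ fixedPoints (P : Subgroup L) V := by
    refine IsPGroup.nonempty_fixed_point_of_prime_not_dvd_card P.isPGroup' V ?_
    rw [H.card]; norm_num
  have huniq : ∀ y ∈ fixedPoints (P : Subgroup L) V, y = x := fun y hy =>
    eleven_unique_fixed H hK (hord _ hgP hg1) (hy g) (hx g)
  -- the normaliser fixes `x`
  have hNx : Subgroup.normalizer ((P : Subgroup L) : Set L) ≤ stabilizer L x := by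
    intro w hw
    refine huniq _ fun r => ?_
    have hr : w⁻¹ * (r : L) * w ∈ (P : Subgroup L) := by
      have := (Subgroup.mem_normalizer_iff.1 (inv_mem hw) r).1 r.2
      simpa using this
    show (r : L) • w • x = w • x
    have h1 : (w⁻¹ * (r : L) * w) • x = x := hx ⟨_, hr⟩
    rw [mul_smul, mul_smul, inv_smul_eq_iff] at h1
    exact h1
  have hd1 : (orbit L x).ncard ∣ 8064 := by
    rw [← index_stabilizer]
    refine (Subgroup.index_dvd_of_le hNx).trans (dvd_of_eq ?_)
    obtain ⟨Q⟩ : Nonempty (Sylow 11 baseFix) := inferInstance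
    refine (Sylow.card_eq_index_normalizer P).symm.trans
      (Eq.trans ?_ ((Sylow.card_eq_index_normalizer Q).trans (normalizer_eleven Q)))
    have h1 := Order7920.card_orderOf_eq (G := L) (p := 11) (m := 40320) (by rw [hL]) (by norm_num)
    have h2 := Order7920.card_orderOf_eq (G := baseFix) (p := 11) (m := 40320)
      (by rw [card_baseFix]) (by norm_num)
    have h3 : Nat.card {g : L // orderOf g = 11} = Nat.card {g : baseFix // orderOf g = 11} :=
      Nat.card_congr (Equiv.subtypeEquiv e.toEquiv fun g => by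
        show orderOf g = 11 ↔ orderOf (e g) = 11
        rw [MulEquiv.orderOf_eq])
    omega
  have hmod : (orbit L x).ncard % 11 = 1 := by
    have := (P.isPGroup').card_modEq_card_fixedPoints (orbit L x)
    rw [Nat.card_coe_set_eq] at this
    rw [this, show Nat.card (fixedPoints (P : Subgroup L) (orbit L x)) = 1 from ?_]
    rw [Nat.card_eq_one_iff_unique]
    exact ⟨⟨fun y z => Subtype.ext (Subtype.ext ((huniq _ fun r => congrArg Subtype.val (y.2 r)).trans
      (huniq _ fun r => congrArg Subtype.val (z.2 r)).symm))⟩,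
      ⟨⟨⟨x, mem_orbit_self x⟩, fun r => Subtype.ext (hx r)⟩⟩⟩
  have hle : (orbit L x).ncard ≤ 100 := by
    rw [← H.card]; exact Set.ncard_le_card _
  have hall : ∀ d ∈ Nat.divisors 8064, d ≤ 100 → d % 11 = 1 → d = 1 ∨ d = 12 ∨ d = 56 := by
    decide +kernel
  have hidx : ((stabilizer L x).map (e : L →* baseFix)).index = (orbit L x).ncard := by
    rw [Subgroup.index_map_equiv, index_stabilizer]
  rcases hall _ (Nat.mem_divisors.2 ⟨hd1, by norm_num⟩) hle hmod with h | h | h
  · refine ⟨x, fun l hl => ?_⟩
    have htop : stabilizer L x = ⊤ := Subgroup.index_eq_one.1 ((index_stabilizer L x).trans h)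
    exact (htop ▸ Subgroup.mem_top _ : (⟨l, hl⟩ : L) ∈ stabilizer L x)
  · exact absurd (hidx.trans h) (index_ne_twelve _)
  · exact absurd (hidx.trans h) (index_ne ptP ptQ ptP_ne_ptQ _).1

variable [FaithfulSMul K V]

theorem nbr_orbit_unique (H : Sub K a b c) {x : V} {S : Finset V} (hS : S.card = 22) (hx : x ∉ S)
    (hinv : ∀ k : K, k • x = x → ∀ y ∈ S, k • y ∈ S) : S = nbr K a b x := by
  obtain ⟨g, rfl⟩ := exists_smul_eq K a x
  set T := S.image (g⁻¹ • ·) with hT
  have hTc : T.card = 22 := by rw [hT, Finset.card_image_of_injective _ (MulAction.injective _), hS]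
  have haT : a ∉ T := by
    intro h
    obtain ⟨y, hy, he⟩ := Finset.mem_image.1 h
    have hy' : y = g • a := by rw [← he, smul_inv_smul]
    exact hx (hy' ▸ hy)
  have hTinv : ∀ k : K, k • a = a → ∀ y ∈ T, k • y ∈ T := by
    intro k hk y hy
    obtain ⟨z, hz, rfl⟩ := Finset.mem_image.1 hy
    refine Finset.mem_image.2 ⟨(g * k * g⁻¹) • z, hinv _ ?_ z hz, ?_⟩
    · rw [mul_smul, inv_smul_smul, mul_smul, hk]
    · simp only [← mul_smul]; congr 1; group
  have hsub : T ⊆ nbr K a b a := by
    intro y hy
    have hya : y ≠ a := fun e => haT (e ▸ hy)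
    rcases cover H hya with h | h
    · exact mem_nbr.2 (edge_base.2 h)
    · exfalso
      have : (orbit (stabilizer K a) c).toFinset ⊆ T := by
        intro z hz
        rw [Set.mem_toFinset, ← orbit_eq_iff.2 h] at hz
        obtain ⟨k, rfl⟩ := hz
        exact hTinv k k.2 y hy
      have := Finset.card_le_card this
      rw [← Set.ncard_eq_toFinset_card', H.farCard] at this
      omega
  have heq := Finset.eq_of_subset_of_card_le hsub (by rw [hTc, degree H a])
  ext y
  rw [mem_nbr, show Edge K a b (g • a) y ↔ g⁻¹ • y ∈ nbr K a b a by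
    rw [mem_nbr, ← edge_smul_iff g (y := g⁻¹ • y), smul_inv_smul], ← heq, hT, Finset.mem_image]
  exact ⟨fun h => ⟨y, h, rfl⟩, fun ⟨z, hz, he⟩ => MulAction.injective _ he ▸ hz⟩

/-- An automorphism is induced by an automorphism of the graph. -/
theorem exists_intertwine (H : Sub K a b c) (hK : Nat.card K = 44352000)
    (e : stabilizer K a ≃* baseFix) (α : MulAut K) :
    ∃ σ : graph H ≃g graph H, ∀ (k : K) (v : V), σ (k • v) = α k • σ v := by
  set L := (stabilizer K a).map (α : K →* K) with hL
  obtain ⟨x, hx⟩ := exists_fixed H hK L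
    (((stabilizer K a).equivMapOfInjective (α : K →* K) α.injective).symm.trans e)
  have hLx : L = stabilizer K x := by
    refine Subgroup.eq_of_le_of_card_ge (fun l hl => hx l hl) ?_
    rw [card_stab H hK, hL, Subgroup.card_map_of_injective α.injective, card_stab H hK]
  have hkey : ∀ g h : K, g • a = h • a ↔ α g • x = α h • x := by
    intro g h
    rw [eq_comm, ← inv_smul_eq_iff, ← mul_smul]
    conv_rhs => rw [eq_comm, ← inv_smul_eq_iff, ← mul_smul, ← map_inv, ← map_mul]
    rw [← mem_stabilizer_iff, ← mem_stabilizer_iff, ← hLx, hL]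
    exact (Subgroup.mem_map_iff_mem (f := (α : K →* K)) α.injective).symm
  choose t ht using fun v : V => exists_smul_eq K a v
  let f : V → V := fun v => α (t v) • x
  have hf : ∀ g : K, f (g • a) = α g • x := fun g => (hkey _ _).1 (ht _)
  have hfinj : Function.Injective f := fun v w h => by
    rw [← ht v, ← ht w]; exact (hkey _ _).2 h
  have hfeq : ∀ (k : K) (v : V), f (k • v) = α k • f v := fun k v => by
    rw [← ht v, ← mul_smul, hf, hf, map_mul, mul_smul]
  let σ : Equiv.Perm V := Equiv.ofBijective f ((Finite.injective_iff_bijective).1 hfinj)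
  have hfa : f a = x := by
    have := hf 1
    rwa [one_smul, map_one, one_smul] at this
  have himg : (nbr K a b a).image f = nbr K a b x := by
    refine nbr_orbit_unique H (by rw [Finset.card_image_of_injective _ hfinj, degree H a]) ?_ ?_
    · intro h
      obtain ⟨y, hy, he⟩ := Finset.mem_image.1 h
      have : y = a := hfinj (he.trans hfa.symm)
      exact edge_irrefl H a (mem_nbr.1 (this ▸ hy))
    · intro k hk y hy
      obtain ⟨z, hz, rfl⟩ := Finset.mem_image.1 hy
      have hk' : k ∈ L := hLx.symm ▸ (mem_stabilizer_iff.2 hk)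
      rw [hL, Subgroup.mem_map] at hk'
      obtain ⟨k', hk'', rfl⟩ := hk'
      refine Finset.mem_image.2 ⟨k' • z, mem_nbr.2 ?_, hfeq k' z⟩
      have := edge_smul k' (mem_nbr.1 hz)
      rwa [show k' • a = a from hk''] at this
  refine ⟨⟨σ, fun {u w} => ?_⟩, hfeq⟩
  show Edge K a b (f u) (f w) ↔ Edge K a b u w
  obtain ⟨m, rfl⟩ := exists_smul_eq K a u
  obtain ⟨w', rfl⟩ : ∃ w', m • w' = w := ⟨m⁻¹ • w, smul_inv_smul _ _⟩
  rw [hfeq, hfeq, edge_smul_iff, edge_smul_iff, hfa, ← mem_nbr, ← mem_nbr, ← himg,
    hfinj.mem_finset_image]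

theorem card_stab_fix (H : Sub K a b c) {v : V} (hv : ∀ k : K, k • a = a → k • v = v) : v = a := by
  by_contra hne
  have horb : orbit (stabilizer K a) v = {v} :=
    Set.Subset.antisymm (by rintro _ ⟨k, rfl⟩; exact hv k k.2)
      (Set.singleton_subset_iff.2 (mem_orbit_self v))
  rcases cover H hne with h | h
  · have := H.nearCard
    rw [← orbit_eq_iff.2 h, horb, Set.ncard_singleton] at this
    omega
  · have := H.farCard
    rw [← orbit_eq_iff.2 h, horb, Set.ncard_singleton] at this
    omega

open HS HSCert GraphAut in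
theorem card_graph_aut (H : Sub K a b c) : Nat.card (graph H ≃g graph H) = 88704000 := by
  obtain ⟨f⟩ := exists_iso_std (isSRG H)
  rw [← card_aut]
  exact (Nat.card_congr (Equiv.ofBijective _ ⟨toGraphAut_injective f, toGraphAut_surjective f⟩)).symm

/-- The automorphism group has order 88704000. -/
theorem card_mulAut (H : Sub K a b c) (hK : Nat.card K = 44352000)
    (e : stabilizer K a ≃* baseFix) : Nat.card (MulAut K) = 88704000 := by
  rw [← card_graph_aut H]
  let ρ : K →* (graph H ≃g graph H) :=
    { toFun := fun k => ⟨MulAction.toPerm k, fun {x y} => edge_smul_iff k⟩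
      map_one' := by ext x; exact one_smul K x
      map_mul' := fun g h => by ext x; exact mul_smul g h x }
  have hρ : Function.Injective ρ := fun g h e' => eq_of_smul_eq_smul fun x : V =>
    congrArg (fun φ : graph H ≃g graph H => φ x) e'
  have hfin : Finite (graph H ≃g graph H) :=
    Nat.finite_of_card_ne_zero (by rw [card_graph_aut H]; norm_num)
  have : ρ.range.Normal := by
    refine Subgroup.normal_of_index_eq_two ?_
    have h := ρ.range.index_mul_card
    rw [← Nat.card_congr (MonoidHom.ofInjective hρ).toEquiv, hK, card_graph_aut H] at h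
    omega
  refine le_antisymm ?_ ?_
  · choose F hF using exists_intertwine H hK e
    refine Nat.card_le_card_of_injective F fun α β h => MulEquiv.ext fun k => ?_
    refine eq_of_smul_eq_smul fun v : V => ?_
    obtain ⟨w, rfl⟩ := (F α).surjective v
    rw [← hF α k w, h, ← hF β k w]
  · have : Finite (MulAut K) := Finite.of_injective (fun α : MulAut K => (α : K → K))
      DFunLike.coe_injective
    let M : (graph H ≃g graph H) →* MulAut K :=
      { toFun := fun φ => ((MonoidHom.ofInjective hρ).trans (MulAut.conjNormal φ)).trans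
          (MonoidHom.ofInjective hρ).symm
        map_one' := by ext k; simp
        map_mul' := fun φ ψ => by ext k; simp [map_mul] }
    refine Nat.card_le_card_of_injective M ((injective_iff_map_eq_one M).2 fun φ hφ => ?_)
    have hcomm : ∀ k : K, φ * ρ k * φ⁻¹ = ρ k := fun k => by
      have h := congrArg (fun α : MulAut K => (MonoidHom.ofInjective hρ) (α k)) hφ
      simp only [M, MonoidHom.coe_mk, OneHom.coe_mk, MulEquiv.trans_apply, MulEquiv.apply_symm_apply,
        MulAut.one_apply] at h
      have h' := congrArg Subtype.val h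
      rw [MulAut.conjNormal_apply] at h'
      exact h'
    have hc : ∀ (k : K) (v : V), φ (k • v) = k • φ v := fun k v => by
      have h := congrArg (fun ψ : graph H ≃g graph H => ψ v) (mul_inv_eq_iff_eq_mul.1 (hcomm k))
      exact h
    have hfix : φ a = a := card_stab_fix H fun k hk => by rw [← hc, hk]
    ext v
    obtain ⟨k, rfl⟩ := exists_smul_eq K a v
    rw [hc, hfix]
    rfl

end Generic

section Lattice

open HSLattice HSRankThree

/-- The automorphisms of the lattice triangle stabiliser. -/
theorem card_mulAut_tri : Nat.card (MulAut hsTri) = 88704000 := by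
  have := finite_tri
  let V := orbit hsTri baseP
  have : Fintype V := finite_orbit.fintype
  obtain ⟨b₀, hb₀⟩ := Set.nonempty_of_ncard_ne_zero (s := oddPart) (by rw [ncard_oddPart]; norm_num)
  obtain ⟨c₀, hc₀⟩ := Set.nonempty_of_ncard_ne_zero (s := octPart) (by rw [ncard_octPart]; norm_num)
  let a : V := ⟨baseP, mem_orbit_self _⟩
  let b : V := ⟨b₀, by show b₀ ∈ orbit hsTri baseP; rw [orbit_eq_all]; exact Or.inr (Or.inl hb₀)⟩
  let c : V := ⟨c₀, by show c₀ ∈ orbit hsTri baseP; rw [orbit_eq_all]; exact Or.inr (Or.inr hc₀)⟩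
  have horb : ∀ x : V, (orbit (stabilizer hsTri a) x).ncard =
      (orbit (stabilizer hsTri baseP) (x : leechLattice)).ncard := by
    intro x
    rw [← Set.ncard_image_of_injective _ Subtype.val_injective]
    congr 1
    ext y
    constructor
    · rintro ⟨_, ⟨g, rfl⟩, rfl⟩
      exact ⟨⟨g, congrArg Subtype.val g.2⟩, rfl⟩
    · rintro ⟨g, rfl⟩
      exact ⟨_, ⟨⟨g, Subtype.ext g.2⟩, rfl⟩, rfl⟩
  have H : Sub hsTri a b c := ⟨(Nat.card_coe_set_eq V).trans card_orbit,
    by rw [horb, stab_orbit hb₀ (Or.inl rfl), ncard_oddPart],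
    by rw [horb, stab_orbit hc₀ (Or.inr rfl), ncard_octPart]⟩
  have := isSimpleGroup_triGroup_baseM
  have : FaithfulSMul hsTri V := by
    constructor
    intro g h hgh
    rcases (inferInstance : (MulAction.toPermHom hsTri V).ker.Normal).eq_bot_or_eq_top with hk | hk
    · exact (MonoidHom.ker_eq_bot_iff _).1 hk (Equiv.ext hgh)
    · exfalso
      obtain ⟨g, hg⟩ := exists_smul_eq hsTri a b
      have h1 : (MulAction.toPermHom hsTri V) g = 1 := (hk ▸ Subgroup.mem_top g :)
      have h2 : a = b := by
        rw [← hg]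
        exact (congrArg (fun σ : Equiv.Perm V => σ a) h1).symm
      have h3 := (suborbit_facts H).1
      rw [h2] at h3
      exact h3 (mem_orbit_self b)
  let hom : baseFix →* stabilizer hsTri a :=
    (duadHom (Or.inr rfl : IsBaseSign baseM)).codRestrict _ fun τ => Subtype.ext (perm_mem_stab τ.2)
  have hinj : Function.Injective hom := fun x y h =>
    duadHom_injective (Or.inr rfl : IsBaseSign baseM) (congrArg Subtype.val h)
  have hbij : Function.Bijective hom := (Nat.bijective_iff_injective_and_card hom).2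
    ⟨hinj, by rw [card_baseFix, card_stab H natCard_triGroup_baseM]⟩
  exact card_mulAut H natCard_triGroup_baseM (MulEquiv.ofBijective hom hbij).symm

/-- The outer automorphism group of HS has order two. -/
theorem card_out_HS : Nat.card (Cfsg.Out Spor.HS) = 2 := by
  have := finite_tri
  have e : hsTri ≃* Spor.HS :=
    (hsTri.equivMapOfInjective _ Co0.subtype_injective).trans (MulEquiv.subgroupCongr hs_eq_map.symm)
  have := isSimpleGroup_triGroup_baseM
  have hs : IsSimpleGroup Spor.HS := @MulEquiv.isSimpleGroup _ _ _ _ this e.symm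
  have hcard : Nat.card Spor.HS = 44352000 :=
    (Nat.card_congr e.toEquiv).symm.trans natCard_triGroup_baseM
  have haut : Nat.card (MulAut Spor.HS) = 88704000 :=
    (Nat.card_congr (MulAut.congr e).toEquiv).symm.trans card_mulAut_tri
  have hinn : Nat.card (Cfsg.Inn Spor.HS) = 44352000 := by
    rw [← hcard]
    refine (Nat.card_congr (MonoidHom.ofInjective (f := MulAut.conj) ?_).toEquiv).symm
    rcases (inferInstance : (MulAut.conj (G := Spor.HS)).ker.Normal).eq_bot_or_eq_top with hk | hk
    · exact (MonoidHom.ker_eq_bot_iff _).1 hk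
    · exfalso
      have hcomm : IsMulCommutative Spor.HS := IsMulCommutative.of_comm fun x y => by
        have hx : MulAut.conj x = 1 := (hk ▸ Subgroup.mem_top x :)
        have := DFunLike.congr_fun hx y
        rwa [MulAut.conj_apply, MulAut.one_apply, mul_inv_eq_iff_eq_mul] at this
      exact CfsgLib.SmallGroups.not_isMulCommutative_of_card_eq hcard (by norm_num) hcomm
  have h := Subgroup.card_eq_card_quotient_mul_card_subgroup (Cfsg.Inn Spor.HS)
  rw [haut, hinn] at h
  show Nat.card (MulAut Spor.HS ⧸ Cfsg.Inn Spor.HS) = 2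
  omega

end Lattice

end CfsgLib.Mathieu.HSOut
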