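import Cfsg.Agent.Lib.Mathieu.McLOutCentral
import Cfsg.Prelude.Def_KGroupFacts

/-!
The outer automorphism group of the McLaughlin group has order two.
-/

set_option autoImplicit false

namespace CfsgLib.Mathieu.McLOut

open Cfsg CfsgLib.Leech CfsgLib.Fischer2 CfsgLib.OutMathieu
open CfsgLib.GolayStructure hiding tblAt imgMask
open CfsgLib.Golay (idx pt idx_pt pt_idx idx_lt IsTbl tblAt stabK mem_stabK projInv_mem_M24)
open scoped Pointwise

local instance fact_prime_eleven_mcl : Fact (Nat.Prime 11) := ⟨by norm_num⟩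
local instance finite_Co0_mcl : Finite Co0 := finite_Co0

/-! ### The change of base -/

/-- The permutation exchanging the two special points. -/
noncomputable def swapPts : Co0 := permAut ⟨projInv, projInv_mem_M24⟩

theorem swapPts_facts : swapPts • baseP = baseP ∧ swapPts • baseB = vecU - baseP := by
  have key : ∀ p : GolayPt, toVec listP (projInv.symm p) = toVec listP p ∧
      toVec listB (projInv.symm p) = (if p = none then 5 else 1) - toVec listP p := by decide +kernel
  refine ⟨leech_ext fun p => ?_, leech_ext fun p => ?_⟩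
  · rw [swapPts, coordVec_permAut, ← toVec_listP]
    exact (key p).1
  · rw [swapPts, coordVec_permAut]
    show _ = coordVec vecU p - coordVec baseP p
    rw [coordVec_vecU, ← toVec_listP, ← toVec_listB]
    exact (key p).2

theorem KG_map : KG.map (MulAut.conj swapPts).toMonoidHom = triGroup baseP := by
  have e : KG = MulAction.stabilizer Co0 baseP ⊓ MulAction.stabilizer Co0 baseB := by
    ext g
    rw [mem_KG, Subgroup.mem_inf, MulAction.mem_stabilizer_iff, MulAction.mem_stabilizer_iff]
  rw [triGroup_baseP_eq, e, ← stabilizer_pair_smul, swapPts_facts.1, swapPts_facts.2]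

/-- The stabiliser of the pair is the stabiliser of the triangle. -/
noncomputable def equivTri : KG ≃* triGroup baseP :=
  (KG.equivMapOfInjective _ (MulAut.conj swapPts).injective).trans (MulEquiv.subgroupCongr KG_map)

theorem natCard_KG : Nat.card KG = 898128000 := by
  rw [Nat.card_congr equivTri.toEquiv, natCard_triGroup_baseP]

/-! ### Generation -/

/-- The four generators. -/
abbrev genSet : Set KG := {ea, eb, em, ed}

/-- The group generated by the letters. -/
noncomputable abbrev genGrp : Subgroup KG := Subgroup.closure genSet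

set_option maxRecDepth 100000 in
theorem walk_count : countD 60 ((certKeys (datOf 4) (datOf 0) Data.k0 Data.ops).map hashKey) = 2025 := by
  decide +kernel

theorem k0_eq : key x₀ = Data.k0 := by
  rw [key, show ofVec (coordVec x₀) = Cert.Orb2025.root from
    (show ofVec (toVec Cert.Orb2025.root) = Cert.Orb2025.root by decide +kernel)]
  decide +kernel

theorem orbit_gen : ∀ x ∈ dotSet2 baseP baseB 0 16, ∃ h ∈ genGrp, (h : Co0) • x₀ = x := by
  classical
  set S : Set leechLattice := {y | ∃ h ∈ genGrp, (h : Co0) • x₀ = y}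
  have hstep : ∀ n : Fin 13, lt n ∈ genSet → ∀ k, KeyIn S k → KeyIn S (stepKey (datOf n) k) := by
    rintro n hn k ⟨_, ⟨h, hh, rfl⟩, rfl⟩
    refine ⟨_, ⟨lt n * h, mul_mem (Subgroup.subset_closure hn) hh, rfl⟩, ?_⟩
    rw [Subgroup.coe_mul, mul_smul]
    exact (key_matAut (matOf_ok n) (datOf_ok n) (by rw [sqNorm_smul', x₀_facts.1])).symm
  have h0 : KeyIn S Data.k0 := ⟨x₀, ⟨1, one_mem _, one_smul _ _⟩, k0_eq⟩
  have hkeys : ∀ k ∈ certKeys (datOf 4) (datOf 0) Data.k0 Data.ops, KeyIn S k := by
    intro k hk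
    rcases List.mem_cons.1 hk with rfl | hk
    · exact h0
    · exact walk_subset (hstep 4 (by simp)) (hstep 0 (by simp)) _ [Data.k0] (by simpa using h0) k hk
  have hsub : S ⊆ dotSet2 baseP baseB 0 16 := by
    rintro _ ⟨h, -, rfl⟩
    exact class_smul x₀_facts.1 x₀_facts.2.1 x₀_facts.2.2
  have hfin : (dotSet2 baseP baseB 0 16).Finite := Set.finite_of_ncard_pos (by rw [ncard_class2025]; norm_num)
  have hSf : S.Finite := hfin.subset hsub
  have hcard : 2025 ≤ S.ncard := by
    calc 2025 ≤ ((certKeys (datOf 4) (datOf 0) Data.k0 Data.ops).map hashKey).toFinset.card :=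
          walk_count ▸ countD_le _ _
      _ ≤ (hSf.toFinset.image fun y => hashKey (key y)).card := Finset.card_le_card fun a ha => by
          simp only [List.mem_toFinset, List.mem_map] at ha
          obtain ⟨k, hk, rfl⟩ := ha
          obtain ⟨y, hy, rfl⟩ := hkeys k hk
          exact Finset.mem_image_of_mem _ (hSf.mem_toFinset.2 hy)
      _ ≤ hSf.toFinset.card := Finset.card_image_le
      _ = _ := (Set.ncard_eq_toFinset_card _ hSf).symm
  have heq : S = dotSet2 baseP baseB 0 16 :=
    Set.eq_of_subset_of_ncard_le hsub (by rw [ncard_class2025]; exact hcard) hfin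
  intro x hx
  rw [← heq] at hx
  exact hx

theorem exists_em : ∃ σ : stabK sets22, IsTbl (σ : Equiv.Perm GolayPt) tmT ∧ em = permK σ := by
  obtain ⟨σ, hσ⟩ := exists_perm (t := tmT) (by simp [tmT])
  exact ⟨σ, hσ, lt_eq_permK (n := 2) perm_letters.2.2 hσ⟩

theorem genGrp_eq_top : genGrp = ⊤ := by
  obtain ⟨σa, ha, hea⟩ := exists_ea
  obtain ⟨σb, hb, heb⟩ := exists_eb
  obtain ⟨σm, hm, hem⟩ := exists_em
  have hperm : genGrp.comap permK = ⊤ := by
    refine Cert.generates certM22_valid (rfl : stabK sets22 = stabK certM22.sets) (gs := [σa, σb, σm]) ?_ ?_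
    · rw [certM22_gens]
      exact .cons ha (.cons hb (.cons hm .nil))
    · intro g hg
      simp only [List.mem_cons, List.not_mem_nil, or_false] at hg
      rw [Subgroup.mem_comap]
      rcases hg with rfl | rfl | rfl
      · rw [← hea]; exact Subgroup.subset_closure (by simp)
      · rw [← heb]; exact Subgroup.subset_closure (by simp)
      · rw [← hem]; exact Subgroup.subset_closure (by simp)
  refine eq_top_iff.2 fun g _ => ?_
  obtain ⟨h, hh, e⟩ := orbit_gen _ (class_smul (g := g) x₀_facts.1 x₀_facts.2.1 x₀_facts.2.2)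
  obtain ⟨σ, hσ⟩ := exists_permK (g := h⁻¹ * g) (by
    rw [Subgroup.coe_mul, Subgroup.coe_inv, mul_smul, inv_smul_eq_iff, e])
  have : h⁻¹ * g ∈ genGrp := by
    rw [hσ, ← Subgroup.mem_comap, hperm]
    exact Subgroup.mem_top _
  simpa using mul_mem hh this

/-- Two automorphisms agreeing on the generators are equal. -/
theorem aut_ext {φ ψ : MulAut KG} (ha : φ ea = ψ ea) (hb : φ eb = ψ eb) (hm : φ em = ψ em)
    (hd : φ ed = ψ ed) : φ = ψ := by
  have h : ∀ g ∈ genGrp, φ g = ψ g := fun g hg => by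
    refine MonoidHom.eqOn_closure (f := φ.toMonoidHom) (g := ψ.toMonoidHom) ?_ hg
    rintro x (rfl | rfl | rfl | rfl)
    exacts [ha, hb, hm, hd]
  exact MulEquiv.ext fun g => h g (by rw [genGrp_eq_top]; exact Subgroup.mem_top g)

/-! ### Rigidity -/

theorem ea_inv : lt 1 = ea⁻¹ := by
  have h := wK_eq (U := [1, 0]) (V := []) (by simp [eqPairs])
  rw [wK_cons, wK_singleton, wK_nil] at h
  exact eq_inv_of_mul_eq_one_left h

theorem orderOf_ea : orderOf ea = 11 := by
  refine orderOf_eq_prime ?_ ?_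
  · rw [← wK_replicate, wK_eq (U := List.replicate 11 0) (V := []) (by simp [eqPairs]), wK_nil]
  · intro e
    refine ne_one_of_failW letter_zero_ne_one ?_
    rw [← coe_wK, wK_singleton, show lt 0 = (1 : KG) from e, Subgroup.coe_one]

theorem eb_conj_ea : eb * ea * eb⁻¹ = ea ^ 3 := by
  have h := wK_eq (U := [9, 0]) (V := [0, 0, 0, 9]) (by simp [eqPairs])
  rw [wK_cons, wK_cons, wK_cons, wK_cons, wK_cons, wK_cons, wK_nil, mul_one, mul_one] at h
  rw [mul_inv_eq_iff_eq_mul, h, pow_succ, pow_two, mul_assoc, mul_assoc]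

theorem em_conj_eb : em * eb = eb ^ 2 * em := by
  have h := wK_eq (U := [2, 9]) (V := [10, 2]) (by simp [eqPairs])
  rw [wK_cons, wK_cons, wK_cons, wK_cons, wK_nil, mul_one, mul_one] at h
  exact h.trans (congrArg (· * em) (pow_letters 2).2)

/-- The values on the generators of the relations. -/
noncomputable def bval : Base → KG
  | .ela => ea
  | .elm => em
  | .eld => ed

theorem lt_three_eight : lt 3 = 1 ∧ lt 8 = 1 :=
  ⟨(wK_singleton 3).symm.trans (wK_eq (U := [3]) (V := []) (by simp [eqPairs])),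
    (wK_singleton 8).symm.trans (wK_eq (U := [8]) (V := []) (by simp [eqPairs]))⟩

theorem wK_sub_zero (x : Base) : wK (sub false 0 0 1 0 x) = bval x := by
  cases x
  · simp [sub, bval, wK]
  · simp [sub, bval, wK, dPow, bPow, lt_three_eight.1, lt_three_eight.2]
  · simp [sub, bval, wK, dPow, bPow, lt_three_eight.2]

theorem wK_flatMap (f : Base → List (Fin 13)) : ∀ R : List Base,
    wK (R.flatMap f) = (R.map fun x => wK (f x)).prod
  | [] => rfl
  | x :: R => by rw [List.flatMap_cons, wK_append, wK_flatMap f R, List.map_cons, List.prod_cons]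

theorem rel_eq_one (n : Fin 4) : wK (relW n.1 false 0 0 1 0) = 1 := by
  fin_cases n <;> exact (wK_eq (V := []) (by simp [eqPairs])).trans wK_nil

/-- The images of the generators under an automorphism lie in the surviving candidates. -/
theorem okTuple_of_images (ψ : MulAut KG) (s : Bool) (i j k l : Fin 5)
    (h : ∀ x, ψ (bval x) = wK (sub s i j k l x)) : okTuple s i j k l = true := by
  have hrel : ∀ n : Fin 4, failW (relW n.1 s i j k l) = false := fun n => by
    refine Bool.eq_false_iff.2 fun hf => ne_one_of_failW hf ?_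
    have e : wK (relW n.1 s i j k l) = 1 := by
      have h1 := congrArg ψ (rel_eq_one n)
      rw [map_one, relW, wK_flatMap, map_list_prod, List.map_map] at h1
      rw [relW, wK_flatMap, ← h1]
      refine congrArg List.prod (List.map_congr_left fun x _ => ?_)
      rw [Function.comp_apply, wK_sub_zero, h]
    rw [← coe_wK, e, Subgroup.coe_one]
  have h0 : failW (relW 0 s i j 0 0) = false := hrel 0
  have h1 : failW (relW 1 s i j 0 0) = false := hrel 1
  have h2 : failW (relW 2 s i j k l) = false := hrel 2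
  have h3 : failW (relW 3 s i j k l) = false := hrel 3
  have hc := candidates_ok
  simp only [candidatesOK, List.all_eq_true, Bool.or_eq_true, List.mem_finRange, forall_const] at hc
  have hs : s ∈ [false, true] := by cases s <;> simp
  simpa [h2, h3] using (hc s hs i j).resolve_left (by simp [h0, h1]) k l

/-- The values of the outer automorphism. -/
def OuterVals (ψ : MulAut KG) : Prop :=
  ψ ea = ea ∧ ψ eb = eb ∧ ψ em = wK (sub false 4 2 4 4 .elm) ∧ ψ ed = wK (sub false 4 2 4 4 .eld)

theorem classify (φ : MulAut KG) :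
    ∃ g : KG, MulAut.conj g * φ = 1 ∨ OuterVals (MulAut.conj g * φ) := by
  obtain ⟨g, hb, ha⟩ := exists_normalised (r := 3) orderOf_ea (by rw [natCard_KG]; norm_num)
    eb_conj_ea centralizer_ea (by decide) (by decide) φ
  refine ⟨g, ?_⟩
  set ψ := MulAut.conj g * φ
  obtain ⟨s, hs⟩ : ∃ s : Bool, ψ ea = lt (bif s then 1 else 0) := by
    rcases ha with h | h
    · exact ⟨false, h⟩
    · exact ⟨true, by rw [h]; exact ea_inv.symm⟩
  obtain ⟨i, j, hm⟩ := centralizer_eb (em⁻¹ * ψ em) (by
    have h := congrArg ψ em_conj_eb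
    rw [map_mul, map_mul, map_pow, hb] at h
    have e : em⁻¹ * eb ^ 2 = eb * em⁻¹ := by
      rw [inv_mul_eq_iff_eq_mul, ← mul_assoc, em_conj_eb, mul_inv_cancel_right]
    rw [mul_assoc, h, ← mul_assoc, e, mul_assoc])
  obtain ⟨k, l, hd⟩ := centralizer_eb (ψ ed) (by
    have h := congrArg ψ ed_comm.eq
    rwa [map_mul, map_mul, hb] at h)
  have himg : ∀ x, ψ (bval x) = wK (sub s i j k l x) := fun x => by
    cases x
    · simpa [sub, bval, wK] using hs
    · simp only [sub, bval, wK_cons, wK_nil, mul_one]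
      rw [← hm, mul_inv_cancel_left]
    · simp only [sub, bval, wK_cons, wK_nil, mul_one]
      exact hd
  have hok := okTuple_of_images ψ s i j k l himg
  simp only [okTuple, Bool.and_eq_true, Bool.or_eq_true, Bool.not_eq_true', beq_iff_eq] at hok
  obtain ⟨rfl, ⟨⟨⟨rfl, rfl⟩, rfl⟩, rfl⟩ | ⟨⟨⟨rfl, rfl⟩, rfl⟩, rfl⟩⟩ := hok
  · refine Or.inl (aut_ext ?_ hb ?_ ?_)
    · exact hs
    · exact (himg .elm).trans (wK_sub_zero .elm)
    · exact (himg .eld).trans (wK_sub_zero .eld)
  · exact Or.inr ⟨hs, hb, himg .elm, himg .eld⟩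

/-! ### An outer automorphism -/

theorem exists_outer : ∃ φ : MulAut KG, φ ∉ Inn KG := by
  obtain ⟨hBn, hd⟩ : sqNorm (coordVec baseB) = 32 ∧ dotInt (coordVec baseP) (coordVec baseB) = -8 := by
    rw [← toVec_listP, ← toVec_listB, ← dotInt_self, dotInt_toVec (by decide) (by decide),
      dotInt_toVec (by decide) (by decide)]
    decide
  obtain ⟨s, hsP, hsB⟩ := pair_transitive sqNorm_baseP hBn hBn sqNorm_baseP (Or.inr (Or.inl rfl)) hd
    ((dotInt_comm' _ _).trans hd)
  have hswap : ∀ t : Co0, t • baseP = baseB → t • baseB = baseP → ∀ k ∈ KG, t * k * t⁻¹ ∈ KG := by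
    intro t hP hB k hk
    obtain ⟨kP, kB⟩ := mem_KG.1 hk
    refine mem_KG.2 ⟨?_, ?_⟩
    · rw [mul_smul, mul_smul, show t⁻¹ • baseP = baseB from inv_smul_eq_iff.2 hB.symm, kB, hB]
    · rw [mul_smul, mul_smul, show t⁻¹ • baseB = baseP from inv_smul_eq_iff.2 hP.symm, kP, hP]
  have hinv := hswap s⁻¹ (inv_smul_eq_iff.2 hsB.symm) (inv_smul_eq_iff.2 hsP.symm)
  simp only [inv_inv] at hinv
  let φ : MulAut KG :=
    { toFun := fun k => ⟨s * k * s⁻¹, hswap s hsP hsB k k.2⟩
      invFun := fun k => ⟨s⁻¹ * k * s, hinv k k.2⟩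
      left_inv := fun k => Subtype.ext (by show s⁻¹ * (s * k * s⁻¹) * s = k; group)
      right_inv := fun k => Subtype.ext (by show s * (s⁻¹ * k * s) * s⁻¹ = k; group)
      map_mul' := fun a b => Subtype.ext (by
        show s * ((a : Co0) * b) * s⁻¹ = s * a * s⁻¹ * (s * b * s⁻¹); group) }
  refine ⟨φ, fun hφ => ?_⟩
  obtain ⟨k, hk⟩ := hφ
  set c : Co0 := (k : Co0)⁻¹ * s with hc
  have hcomm : ∀ y : KG, (y : Co0) * c = c * y := fun y => by
    have e : (k : Co0) * y * (k : Co0)⁻¹ = s * y * s⁻¹ := by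
      simpa [φ] using congrArg (fun f : MulAut KG => ((f y : KG) : Co0)) hk
    calc (y : Co0) * c = (k : Co0)⁻¹ * ((k : Co0) * y * (k : Co0)⁻¹) * s := by rw [hc]; group
      _ = c * y := by rw [e, hc]; group
  obtain ⟨kP, kB⟩ := mem_KG.1 k.2
  have cP : c • baseP = baseB := by rw [hc, mul_smul, hsP, inv_smul_eq_iff, kB]
  have cB : c • baseB = baseP := by rw [hc, mul_smul, hsB, inv_smul_eq_iff, kP]
  have hfix : ∀ σ : stabK sets22, ((permK σ : KG) : Co0) • c • x₀ = c • x₀ := fun σ => by
    rw [← mul_smul, hcomm, mul_smul, permK_fix]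
  obtain ⟨σa, ha, -⟩ := exists_ea
  obtain ⟨σm, hm, -⟩ := exists_em
  have h1 : dotInt (coordVec baseP) (coordVec (c • x₀)) = 4 * 4 := by
    conv_lhs => rw [← cB]
    exact (CfsgLib.Leech.dotInt_smul c baseB x₀).trans x₀_facts.2.2
  have h2 : dotInt (coordVec baseB) (coordVec (c • x₀)) = 0 := by
    conv_lhs => rw [← cP]
    exact (CfsgLib.Leech.dotInt_smul c baseP x₀).trans x₀_facts.2.1
  have hL := fixed_A ha (hfix σa) ((sqNorm_smul' _ _).trans x₀_facts.1) h1 h2 checkA_swap
  have hmv := List.all_eq_true.1 swapA_moved _ hL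
  simp only [List.any_eq_true, List.mem_range, bne_iff_ne] at hmv
  obtain ⟨r, hr, hne⟩ := hmv
  have hv : ∀ p, coordVec (c • x₀) ((σm : Equiv.Perm GolayPt) p) = coordVec (c • x₀) p := fun p => by
    have := congrArg (fun v => coordVec v ((σm : Equiv.Perm GolayPt) p)) (hfix σm)
    rw [coe_permK, coordVec_permAut, Equiv.symm_apply_apply] at this
    exact this.symm
  obtain ⟨h24, he⟩ := coord_iterT hm hv hr 1
  change tblAt tmT r < 24 at h24
  change coordVec (c • x₀) (pt (tblAt tmT r)) = _ at he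
  refine hne ?_
  simp only [ofVec, List.getD_eq_getElem?_getD, List.getElem?_map, List.getElem?_range h24,
    List.getElem?_range hr, Option.map_some, Option.getD_some]
  exact he

/-- The inner automorphisms have index two. -/
theorem index_inn : (Inn KG).index = 2 := by
  obtain ⟨φ₀, hφ₀⟩ := exists_outer
  refine Subgroup.index_eq_two_iff.2 ⟨φ₀, fun φ => ?_⟩
  by_cases h : φ ∈ Inn KG
  · exact Or.inr ⟨h, fun h' => hφ₀ (by simpa using mul_mem (inv_mem h) h')⟩
  · refine Or.inl ⟨?_, h⟩
    have main : ∀ χ : MulAut KG, χ ∉ Inn KG → ∃ g : KG, OuterVals (MulAut.conj g * χ) := fun χ hχ => by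
      obtain ⟨g, hg | hg⟩ := classify χ
      · exact absurd ⟨g⁻¹, by rw [map_inv]; exact (eq_inv_of_mul_eq_one_right hg).symm⟩ hχ
      · exact ⟨g, hg⟩
    obtain ⟨g, hg⟩ := main φ h
    obtain ⟨g', hg'⟩ := main φ₀⁻¹ (fun h' => hφ₀ (inv_mem_iff.1 h'))
    have e : MulAut.conj g * φ = MulAut.conj g' * φ₀⁻¹ :=
      aut_ext (hg.1.trans hg'.1.symm) (hg.2.1.trans hg'.2.1.symm) (hg.2.2.1.trans hg'.2.2.1.symm)
        (hg.2.2.2.trans hg'.2.2.2.symm)
    refine ⟨g⁻¹ * g', ?_⟩
    calc MulAut.conj (g⁻¹ * g') = (MulAut.conj g)⁻¹ * (MulAut.conj g' * φ₀⁻¹) * φ₀ := by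
          rw [map_mul, map_inv]; group
      _ = φ * φ₀ := by rw [← e]; group

theorem natCard_out_congr {G H : Type*} [Group G] [Group H] (e : G ≃* H) :
    Nat.card (Cfsg.Out H) = Nat.card (Cfsg.Out G) := by
  change (Inn H).index = (Inn G).index
  have h : (Inn G).map (MulAut.congr e).toMonoidHom = Inn H := by
    ext ψ
    constructor
    · rintro ⟨_, ⟨g, rfl⟩, rfl⟩
      exact ⟨e g, MulEquiv.ext fun x => by simp [MulAut.congr]⟩
    · rintro ⟨y, rfl⟩
      exact ⟨MulAut.conj (e.symm y), ⟨_, rfl⟩, MulEquiv.ext fun x => by simp [MulAut.congr]⟩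
  rw [← h]
  exact Subgroup.index_map_equiv (Inn G) (MulAut.congr e)

theorem natCard_out_McL : Nat.card (Cfsg.Out Spor.McL) = 2 := by
  have hneg : Spor.leechV = -vecU := by
    refine leech_ext fun p => ?_
    show Spor.vecV p = -coordVec vecU p
    rw [coordVec_vecU, Spor.vecV]
    split_ifs <;> norm_num
  have hUP : Spor.leechU = baseP := by
    refine leech_ext fun p => ?_
    show Spor.vecU p = coordVec baseP p
    rw [coordVec_baseP, Spor.vecU]
    rfl
  have hM : Spor.McL = (triGroup baseP).map Co0.subtype := by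
    ext g
    simp only [Spor.McL, Spor.Co3, Subgroup.mem_inf, MulAction.mem_stabilizer_iff,
      Subgroup.mem_map, Subgroup.coe_subtype]
    constructor
    · rintro ⟨⟨hg, hv⟩, hu⟩
      refine ⟨⟨g, hg⟩, ⟨?_, hUP ▸ hu⟩, rfl⟩
      exact neg_injective ((smul_neg_co0 ⟨g, hg⟩ vecU).symm.trans (hneg ▸ hv))
    · rintro ⟨x, ⟨hx, hy⟩, rfl⟩
      refine ⟨⟨x.2, ?_⟩, hUP ▸ hy⟩
      rw [hneg]
      exact (smul_neg_co0 x vecU).trans (congrArg Neg.neg hx)
  have e : KG ≃* Spor.McL := equivTri.trans (((triGroup baseP).equivMapOfInjective _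
    Co0.subtype_injective).trans (MulEquiv.subgroupCongr hM.symm))
  exact (natCard_out_congr e).trans index_inn

end CfsgLib.Mathieu.McLOut
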