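import Cfsg.Agent.Lib.Mathieu.McLOutEval
import Cfsg.Agent.Lib.OutMathieu.CertM22
import Cfsg.Agent.Lib.GolayStructure.ConwaySimple

/-!
The centralisers of an element of order 11 and of an element of order five in the stabiliser of a pair of
minimal vectors with inner product `-8`.
-/

set_option autoImplicit false

namespace CfsgLib.Mathieu.McLOut

open Cfsg CfsgLib.Leech CfsgLib.Fischer2 CfsgLib.OutMathieu
open CfsgLib.GolayStructure hiding tblAt imgMask
open CfsgLib.Golay (idx pt idx_pt pt_idx idx_lt IsTbl tblAt stabK mem_stabK unmask imgMask inM24)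
open scoped Pointwise

/-- The stabiliser of the pair. -/
abbrev KG : Subgroup Co0 := fixGroup [baseP, baseB]

/-- The root of the orbit of 2025 vectors. -/
noncomputable abbrev x₀ : leechLattice := root2025

theorem mem_KG {g : Co0} : g ∈ KG ↔ g • baseP = baseP ∧ g • baseB = baseB := by
  simp [KG, mem_fixGroup]

theorem letters_fix : ∀ n : Fin 13, fixOk (matOf n) listP = true ∧ fixOk (matOf n) listB = true := by
  decide +kernel

/-- A letter in the stabiliser. -/
noncomputable def lt (n : Fin 13) : KG :=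
  ⟨letterAut n, mem_KG.2 ⟨matAut_fixes (matOf_ok n) (letters_fix n).1 toVec_listP,
    matAut_fixes (matOf_ok n) (letters_fix n).2 toVec_listB⟩⟩

/-- A word in the stabiliser. -/
noncomputable def wK (W : List (Fin 13)) : KG := (W.map lt).prod

theorem coe_wK : ∀ W : List (Fin 13), ((wK W : KG) : Co0) = wordAut W
  | [] => rfl
  | n :: W => by
    rw [wK, List.map_cons, List.prod_cons, Subgroup.coe_mul, wordAut_cons]
    exact congrArg (letterAut n * ·) (coe_wK W)

theorem wK_eq {U V : List (Fin 13)} (h : (U, V) ∈ eqPairs) : wK U = wK V :=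
  Subtype.ext (by rw [coe_wK, coe_wK]; exact eq_of_mem_eqPairs h)

theorem wK_nil : wK [] = 1 := rfl

theorem wK_cons (n : Fin 13) (W : List (Fin 13)) : wK (n :: W) = lt n * wK W := by simp [wK]

theorem wK_append (U V : List (Fin 13)) : wK (U ++ V) = wK U * wK V := by simp [wK]

theorem wK_singleton (n : Fin 13) : wK [n] = lt n := by simp [wK]

theorem wK_replicate (k : ℕ) (n : Fin 13) : wK (List.replicate k n) = lt n ^ k := by simp [wK]

/-! ### The permutations -/

/-- The fixed sets. -/
abbrev sets22 : List ℕ := [1, 8388608]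

theorem fix_of_stabK {σ : Equiv.Perm GolayPt} (h : σ ∈ stabK sets22) :
    σ (pt 0) = pt 0 ∧ σ (pt 23) = pt 23 := by
  obtain ⟨-, hs⟩ := mem_stabK.1 h
  have key : unmask 1 = {pt 0} ∧ unmask 8388608 = {pt 23} := by decide +kernel
  have h0 := hs 1 (by simp)
  have h1 := hs 8388608 (by simp)
  rw [key.1, Finset.smul_finset_singleton, Finset.singleton_inj] at h0
  rw [key.2, Finset.smul_finset_singleton, Finset.singleton_inj] at h1
  exact ⟨h0, h1⟩

theorem base_vals : ∀ p : GolayPt, toVec listP p = (if p = pt 0 ∨ p = pt 23 then 4 else 0) ∧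
    toVec listB p = (if p = pt 23 then -3 else 1) := by decide +kernel

/-- A permutation fixing the two points, as a lattice automorphism. -/
noncomputable def permK : stabK sets22 →* KG where
  toFun σ := ⟨permAut ⟨σ, (mem_stabK.1 σ.2).1⟩, by
    obtain ⟨h0, h1⟩ := fix_of_stabK σ.2
    have e0 : ∀ p, (σ : Equiv.Perm GolayPt).symm p = pt 0 ↔ p = pt 0 := fun p => by
      rw [Equiv.symm_apply_eq, h0]
    have e1 : ∀ p, (σ : Equiv.Perm GolayPt).symm p = pt 23 ↔ p = pt 23 := fun p => by
      rw [Equiv.symm_apply_eq, h1]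
    refine mem_KG.2 ⟨leech_ext fun p => ?_, leech_ext fun p => ?_⟩
    · rw [coordVec_permAut, ← toVec_listP, (base_vals _).1, (base_vals _).1]
      exact if_congr (or_congr (e0 p) (e1 p)) rfl rfl
    · rw [coordVec_permAut, ← toVec_listB, (base_vals _).2, (base_vals _).2]
      exact if_congr (e1 p) rfl rfl⟩
  map_one' := Subtype.ext (map_one permHom)
  map_mul' a b := Subtype.ext (map_mul permHom ⟨a, (mem_stabK.1 a.2).1⟩ ⟨b, (mem_stabK.1 b.2).1⟩)

theorem coe_permK (σ : stabK sets22) : ((permK σ : KG) : Co0) = permAut ⟨σ, (mem_stabK.1 σ.2).1⟩ := rfl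

theorem permK_injective : Function.Injective permK := fun a b h => by
  have h' := congrArg (Subtype.val : KG → Co0) h
  rw [coe_permK, coe_permK] at h'
  have h2 := (monomial_unique (d := 0) (d' := 0) (σ := ⟨a, (mem_stabK.1 a.2).1⟩)
    (σ' := ⟨b, (mem_stabK.1 b.2).1⟩) (by rw [h'])).2
  exact Subtype.ext (congrArg (Subtype.val : M24 → Equiv.Perm GolayPt) h2)

/-- The matrix of a permutation table. -/
def permM (t : ℕ) : List (List ℤ) :=
  (List.range 24).map fun i => (List.range 24).map fun r => if tblAt t r = i then 8 else 0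

theorem matAut_permM {t : ℕ} {M : List (List ℤ)} (h : matOk M = true) (hM : M = permM t) {σ : M24}
    (hσ : IsTbl (σ : Equiv.Perm GolayPt) t) : matAut M h = permAut σ := by
  refine co0_ext fun v p => ?_
  rw [coordVec_matAut, coordVec_permAut, matAct, matApply, dotInt]
  have hrow : ∀ q, toVec (M.getD (idx p) []) q =
      if q = (σ : Equiv.Perm GolayPt).symm p then 8 else 0 := fun q => by
    subst hM
    simp only [toVec, permM, List.getD_eq_getElem?_getD, List.getElem?_map,
      List.getElem?_range (idx_lt p), List.getElem?_range (idx_lt q), Option.map_some, Option.getD_some]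
    refine if_congr ?_ rfl rfl
    rw [← hσ, CfsgLib.Golay.idx_injective.eq_iff, Equiv.eq_symm_apply]
  simp only [hrow, ite_mul, zero_mul, Finset.sum_ite_eq', Finset.mem_univ, if_true]
  omega

theorem perm_letters : (Data.mat0 = permM certM22.ta ∧ Data.mat9 = permM certM22.tb ∧
    Data.mat2 = permM 980421952782553364827122591706088640) := by decide +kernel

theorem perm_tables : [certM22.ta, certM22.tb, 980421952782553364827122591706088640].all
    (fun t => inM24 t && sets22.all fun s => imgMask t s == s) = true := by decide +kernel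

theorem certM22_gens : certM22.gens = [certM22.ta, certM22.tb, 980421952782553364827122591706088640] := rfl

theorem exists_perm {t : ℕ} (ht : t ∈ [certM22.ta, certM22.tb, 980421952782553364827122591706088640]) :
    ∃ σ : stabK sets22, IsTbl (σ : Equiv.Perm GolayPt) t := by
  have h := List.all_eq_true.1 perm_tables t ht
  simp only [Bool.and_eq_true, List.all_eq_true, beq_iff_eq] at h
  obtain ⟨g, hg⟩ := CfsgLib.Golay.exists_isTbl (t := t) (by
    have := h.1; simp only [inM24, Bool.and_eq_true] at this; exact this.1)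
  exact ⟨⟨g, CfsgLib.Golay.mem_stabK_of_isTbl hg h.1 h.2⟩, hg⟩

theorem lt_eq_permK {n : Fin 13} {t : ℕ} (hM : matOf n = permM t) {σ : stabK sets22}
    (hσ : IsTbl (σ : Equiv.Perm GolayPt) t) : lt n = permK σ :=
  Subtype.ext (matAut_permM (σ := ⟨σ, (mem_stabK.1 σ.2).1⟩) (matOf_ok n) hM hσ)

theorem x₀_eq : x₀ = -baseM := by
  refine Subtype.ext (funext fun p => ?_)
  show toVec Cert.Orb2025.root p = -coordVec baseM p
  rw [coordVec_baseM]
  revert p
  decide +kernel

/-- The stabiliser of the root consists of permutations. -/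
theorem exists_permK {g : KG} (h : (g : Co0) • x₀ = x₀) : ∃ σ, g = permK σ := by
  obtain ⟨hP, hB⟩ := mem_KG.1 g.2
  rw [x₀_eq, smul_neg_co0, neg_inj] at h
  obtain ⟨d, σ, hg⟩ := exists_monomial (mem_stabilizer_crossOf.1 (Subgroup.mem_inf.1
    (mem_monoBase_of_fix (g := (g : Co0)) hP h)).1)
  have hval : ∀ (v : leechLattice), (g : Co0) • v = v → ∀ p, (if (d : GolayPt → ZMod 2) p = 0
      then coordVec v ((σ : Equiv.Perm GolayPt).symm p)
      else -coordVec v ((σ : Equiv.Perm GolayPt).symm p)) = coordVec v p := fun v hv p => by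
    rw [hg] at hv
    exact (coordVec_monoAut d σ v p).symm.trans (congrArg (fun v => coordVec v p) hv)
  have hBv : ∀ p, coordVec baseB p = if p = pt 23 then -3 else 1 := fun p => by
    rw [← toVec_listB]; exact (base_vals p).2
  have hPv : ∀ p, coordVec baseP p = if p = pt 0 ∨ p = pt 23 then 4 else 0 := fun p => by
    rw [← toVec_listP]; exact (base_vals p).1
  have hd : ∀ p, (d : GolayPt → ZMod 2) p = 0 := fun p => by
    by_contra hne
    have := hval baseB hB p
    rw [if_neg hne, hBv, hBv] at this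
    split_ifs at this <;> omega
  have h23 : (σ : Equiv.Perm GolayPt).symm (pt 23) = pt 23 := by
    have := hval baseB hB (pt 23)
    rw [if_pos (hd _), hBv, hBv, if_pos rfl] at this
    by_contra hne
    rw [if_neg hne] at this
    norm_num at this
  have h0 : (σ : Equiv.Perm GolayPt).symm (pt 0) = pt 0 := by
    have := hval baseP hP (pt 0)
    rw [if_pos (hd _), hPv, hPv, if_pos (Or.inl rfl)] at this
    by_contra hne
    by_cases h' : (σ : Equiv.Perm GolayPt).symm (pt 0) = pt 23
    · exact absurd ((σ : Equiv.Perm GolayPt).symm.injective (h'.trans h23.symm)) (by decide)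
    · rw [if_neg (not_or.2 ⟨hne, h'⟩)] at this
      norm_num at this
  have hmem : (σ : Equiv.Perm GolayPt) ∈ stabK sets22 := by
    refine mem_stabK.2 ⟨σ.2, ?_⟩
    have key : unmask 1 = {pt 0} ∧ unmask 8388608 = {pt 23} := by decide +kernel
    intro n hn
    simp only [List.mem_cons, List.not_mem_nil, or_false] at hn
    rcases hn with rfl | rfl
    · rw [key.1, Finset.smul_finset_singleton, Finset.singleton_inj]
      exact ((Equiv.symm_apply_eq _).1 h0).symm
    · rw [key.2, Finset.smul_finset_singleton, Finset.singleton_inj]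
      exact ((Equiv.symm_apply_eq _).1 h23).symm
  refine ⟨⟨σ, hmem⟩, Subtype.ext ?_⟩
  rw [hg, coe_permK, show d = 0 from Subtype.ext (funext hd), signAut_zero, one_mul]

theorem permK_fix (σ : stabK sets22) : ((permK σ : KG) : Co0) • x₀ = x₀ := by
  obtain ⟨h0, h1⟩ := fix_of_stabK σ.2
  refine leech_ext fun p => ?_
  rw [coe_permK, coordVec_permAut]
  have key : ∀ q : GolayPt, toVec Cert.Orb2025.root q =
      if q = pt 0 then 4 else if q = pt 23 then -4 else 0 := by decide +kernel
  show toVec Cert.Orb2025.root _ = toVec Cert.Orb2025.root p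
  rw [key, key, if_congr ((Equiv.symm_apply_eq _).trans (by rw [h0])) rfl rfl]
  refine if_congr Iff.rfl rfl (if_congr ?_ rfl rfl)
  rw [Equiv.symm_apply_eq, h1]

/-! ### Vectors fixed by a permutation -/

/-- Iterates of a table. -/
def iterT (t : ℕ) : ℕ → ℕ → ℕ
  | 0, r => r
  | n + 1, r => tblAt t (iterT t n r)

theorem coord_iterT {t : ℕ} {σ : Equiv.Perm GolayPt} (hσ : IsTbl σ t) {v : GolayPt → ℤ}
    (hv : ∀ p, v (σ p) = v p) {r : ℕ} (hr : r < 24) :
    ∀ n, iterT t n r < 24 ∧ v (pt (iterT t n r)) = v (pt r)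
  | 0 => ⟨hr, rfl⟩
  | n + 1 => by
    obtain ⟨h1, h2⟩ := coord_iterT hσ hv hr n
    have e := hσ (pt (iterT t n r))
    rw [idx_pt h1] at e
    refine ⟨(show tblAt t (iterT t n r) < 24 by rw [← e]; exact idx_lt _), ?_⟩
    show v (pt (tblAt t (iterT t n r))) = _
    rw [← e, pt_idx, hv, h2]

/-- A list from the values on the orbits. -/
def spread (ids : List ℕ) (vals : List ℤ) : List ℤ := ids.map fun k => vals.getD k 0

/-- The orbit data are correct. -/
def orbitsOK (t : ℕ) (ids reps : List ℕ) : Bool :=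
  decide (ids.length = 24) && reps.all (fun r => decide (r < 24)) &&
    (List.range 24).all fun i => decide (ids.getD i 0 < reps.length) &&
      (List.range 12).any fun n => iterT t n (reps.getD (ids.getD i 0) 0) == i

theorem ofVec_eq_spread {t : ℕ} {ids reps : List ℕ} (h : orbitsOK t ids reps = true)
    {σ : stabK sets22} (hσ : IsTbl (σ : Equiv.Perm GolayPt) t) {x : leechLattice}
    (hx : ((permK σ : KG) : Co0) • x = x) :
    ofVec (coordVec x) = spread ids (reps.map fun r => coordVec x (pt r)) := by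
  simp only [orbitsOK, Bool.and_eq_true, List.all_eq_true, decide_eq_true_eq, List.any_eq_true,
    List.mem_range, beq_iff_eq] at h
  obtain ⟨⟨hl, hr⟩, hi⟩ := h
  have hv : ∀ p, coordVec x ((σ : Equiv.Perm GolayPt) p) = coordVec x p := fun p => by
    have := congrArg (fun v => coordVec v ((σ : Equiv.Perm GolayPt) p)) hx
    rw [coe_permK, coordVec_permAut, Equiv.symm_apply_apply] at this
    exact this.symm
  refine List.ext_getElem (by simp [spread, length_ofVec, hl]) fun i h1 h2 => ?_
  have hi24 : i < 24 := by rwa [length_ofVec] at h1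
  obtain ⟨hk, n, -, hn⟩ := hi i hi24
  simp only [ofVec, spread, List.getElem_map, List.getElem_range]
  rw [← List.getD_eq_getElem ids 0, List.getD_eq_getElem _ _ (by rwa [List.length_map]),
    List.getElem_map]
  rw [List.getD_eq_getElem reps 0 hk] at hn
  conv_lhs => rw [← hn]
  exact (coord_iterT hσ hv (hr _ (List.getElem_mem hk)) n).2

/-- The orbit numbers for the element of order 11. -/
def idsA : List ℕ := [0, 2, 2, 2, 2, 3, 2, 3, 2, 2, 3, 3, 2, 2, 3, 3, 2, 3, 2, 3, 3, 3, 3, 1]

/-- The orbit numbers for the element of order five. -/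
def idsB : List ℕ := [4, 0, 0, 5, 0, 1, 0, 1, 2, 2, 1, 3, 2, 2, 3, 6, 2, 3, 0, 3, 1, 1, 3, 7]

theorem orbits_ok : orbitsOK certM22.ta idsA [0, 23, 1, 5] = true ∧
    orbitsOK certM22.tb idsB [1, 5, 8, 11, 0, 3, 15, 23] = true := by decide +kernel

/-- The integers of absolute value at most two. -/
def smallTwo : List ℤ := [-2, -1, 0, 1, 2]

/-- The integers of absolute value at most five. -/
def smallFive : List ℤ := [-5, -4, -3, -2, -1, 0, 1, 2, 3, 4, 5]

theorem mem_smallTwo {c : ℤ} (h : 5 * c ^ 2 ≤ 32) : c ∈ smallTwo := by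
  have h1 : -2 ≤ c := by nlinarith
  have h2 : c ≤ 2 := by nlinarith
  interval_cases c <;> decide

theorem mem_smallFive {c : ℤ} (h : c ^ 2 ≤ 32) : c ∈ smallFive := by
  have h1 : -5 ≤ c := by nlinarith
  have h2 : c ≤ 5 := by nlinarith
  interval_cases c <;> decide

/-- Integrality against the generators of the lattice. -/
def goodL (L : List ℤ) : Bool := gensList.all fun g => decide (dotL g L % 8 = 0)

theorem goodL_ofVec (x : leechLattice) : goodL (ofVec (coordVec x)) = true := by
  refine List.all_eq_true.2 fun g hg => decide_eq_true ?_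
  have hmem : ∀ g ∈ gensList, memTest g = true := by decide +kernel
  have := eight_dvd_dotInt (toVec_mem (hmem g hg)) x.2
  rw [show (x : GolayPt → ℤ) = toVec (ofVec (coordVec x)) from (toVec_ofVec _).symm,
    dotInt_toVec (length_gensList_mem hg) (length_ofVec _)] at this
  omega

/-- The check for the element of order 11: inner product `4 * e` with `baseP` and `t` with `baseB`. -/
def checkA (e t : ℤ) (target : List (List ℤ)) : Bool :=
  smallFive.all fun c₁ => smallFive.all fun c₂ => smallFive.all fun f =>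
    !decide (f ^ 2 + (e - f) ^ 2 + 11 * c₁ ^ 2 + 11 * c₂ ^ 2 = 32) ||
      !decide (f + 11 * c₁ + 11 * c₂ - 3 * (e - f) = t) ||
        (let L := spread idsA [f, e - f, c₁, c₂]; target.contains L || !goodL L)

theorem checkA_root : checkA 0 16 [Cert.Orb2025.root] = true := by decide +kernel

/-- The table of the extra permutation. -/
def tmT : ℕ := 980421952782553364827122591706088640

/-- The vectors with inner products `16` and `0` fixed by the element of order 11. -/
def swapA : List (List ℤ) := [spread idsA [3, 1, 1, -1], spread idsA [3, 1, -1, 1]]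

theorem checkA_swap : checkA 4 0 swapA = true := by decide +kernel

theorem swapA_moved :
    swapA.all (fun L => (List.range 24).any fun r => L.getD (tblAt tmT r) 0 != L.getD r 0) = true := by
  decide +kernel

theorem fixed_A {σ : stabK sets22} (hσ : IsTbl (σ : Equiv.Perm GolayPt) certM22.ta) {x : leechLattice}
    (hx : ((permK σ : KG) : Co0) • x = x) (hn : sqNorm (coordVec x) = 32) {e t : ℤ}
    (hP : dotInt (coordVec baseP) (coordVec x) = 4 * e) (hB : dotInt (coordVec baseB) (coordVec x) = t)
    {target : List (List ℤ)} (hc : checkA e t target = true) : ofVec (coordVec x) ∈ target := by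
  have hL := ofVec_eq_spread orbits_ok.1 hσ hx
  simp only [List.map_cons, List.map_nil] at hL
  generalize coordVec x (pt 0) = f, coordVec x (pt 23) = f', coordVec x (pt 1) = c₁,
    coordVec x (pt 5) = c₂ at hL
  rw [← toVec_listP, ← toVec_ofVec (coordVec x), dotInt_toVec (by decide) (length_ofVec _)] at hP
  rw [← toVec_listB, ← toVec_ofVec (coordVec x), dotInt_toVec (by decide) (length_ofVec _)] at hB
  rw [← dotInt_self, ← toVec_ofVec (coordVec x), dotInt_toVec (length_ofVec _) (length_ofVec _)] at hn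
  rw [hL] at hP hB hn
  simp [dotL, spread, idsA, listP] at hP
  simp [dotL, spread, idsA, CfsgLib.Leech.listB, List.replicate] at hB
  simp [dotL, spread, idsA] at hn
  obtain rfl : f' = e - f := by linarith
  have hn' : f ^ 2 + (e - f) ^ 2 + 11 * c₁ ^ 2 + 11 * c₂ ^ 2 = 32 := by linear_combination hn
  have s1 := sq_nonneg f
  have s2 := sq_nonneg (e - f)
  have s3 := sq_nonneg c₁
  have s4 := sq_nonneg c₂
  simp only [checkA, List.all_eq_true] at hc
  have h := hc c₁ (mem_smallFive (by linarith)) c₂ (mem_smallFive (by linarith)) f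
    (mem_smallFive (by linarith))
  simp only [Bool.or_eq_true, Bool.not_eq_true', decide_eq_false_iff_not, List.contains_iff_mem] at h
  rw [← hL] at h
  rcases h with (h | h) | h | h
  · exact absurd hn' h
  · exact absurd (by linarith) h
  · exact h
  · rw [goodL_ofVec] at h; exact Bool.noConfusion h

/-- The check for the element of order five. -/
def checkB : Bool :=
  smallTwo.all fun c₁ => smallTwo.all fun c₂ => smallTwo.all fun c₃ => smallTwo.all fun c₄ =>
    !decide (5 * (c₁ ^ 2 + c₂ ^ 2 + c₃ ^ 2 + c₄ ^ 2) ≤ 32) || smallFive.all fun f =>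
      !decide (5 * (c₁ ^ 2 + c₂ ^ 2 + c₃ ^ 2 + c₄ ^ 2) + 2 * f ^ 2 ≤ 32) || smallFive.all fun g =>
        (let h := 16 - 5 * (c₁ + c₂ + c₃ + c₄) - g - 4 * f
         !decide (5 * (c₁ ^ 2 + c₂ ^ 2 + c₃ ^ 2 + c₄ ^ 2) + 2 * f ^ 2 + g ^ 2 + h ^ 2 = 32) ||
          (let L := spread idsB [c₁, c₂, c₃, c₄, f, g, h, -f]; Data.fixedB.contains L || !goodL L))

theorem checkB_ok : checkB = true := by decide +kernel

theorem fixed_B {σ : stabK sets22} (hσ : IsTbl (σ : Equiv.Perm GolayPt) certM22.tb) {x : leechLattice}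
    (hx : ((permK σ : KG) : Co0) • x = x) (hn : sqNorm (coordVec x) = 32)
    (hP : dotInt (coordVec baseP) (coordVec x) = 0) (hB : dotInt (coordVec baseB) (coordVec x) = 16) :
    ofVec (coordVec x) ∈ Data.fixedB := by
  have hL := ofVec_eq_spread orbits_ok.2 hσ hx
  simp only [List.map_cons, List.map_nil] at hL
  generalize coordVec x (pt 1) = c₁, coordVec x (pt 5) = c₂, coordVec x (pt 8) = c₃,
    coordVec x (pt 11) = c₄, coordVec x (pt 0) = f, coordVec x (pt 3) = g, coordVec x (pt 15) = h,
    coordVec x (pt 23) = f' at hL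
  rw [← toVec_listP, ← toVec_ofVec (coordVec x), dotInt_toVec (by decide) (length_ofVec _)] at hP
  rw [← toVec_listB, ← toVec_ofVec (coordVec x), dotInt_toVec (by decide) (length_ofVec _)] at hB
  rw [← dotInt_self, ← toVec_ofVec (coordVec x), dotInt_toVec (length_ofVec _) (length_ofVec _)] at hn
  rw [hL] at hP hB hn
  simp [dotL, spread, idsB, listP] at hP
  simp [dotL, spread, idsB, CfsgLib.Leech.listB, List.replicate] at hB
  simp [dotL, spread, idsB] at hn
  obtain rfl : f' = -f := by linarith
  obtain rfl : h = 16 - 5 * (c₁ + c₂ + c₃ + c₄) - g - 4 * f := by linarith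
  set h' := 16 - 5 * (c₁ + c₂ + c₃ + c₄) - g - 4 * f with hh
  have hn' : 5 * (c₁ ^ 2 + c₂ ^ 2 + c₃ ^ 2 + c₄ ^ 2) + 2 * f ^ 2 + g ^ 2 + h' ^ 2 = 32 := by
    linear_combination hn
  have s1 := sq_nonneg c₁
  have s2 := sq_nonneg c₂
  have s3 := sq_nonneg c₃
  have s4 := sq_nonneg c₄
  have s5 := sq_nonneg f
  have s6 := sq_nonneg g
  have s7 := sq_nonneg h'
  have key := checkB_ok
  simp only [checkB, List.all_eq_true, Bool.or_eq_true, Bool.not_eq_true', decide_eq_false_iff_not,
    List.contains_iff_mem] at key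
  have k1 := (key c₁ (mem_smallTwo (by linarith)) c₂ (mem_smallTwo (by linarith))
    c₃ (mem_smallTwo (by linarith)) c₄ (mem_smallTwo (by linarith))).resolve_left
      (fun e => e (by linarith))
  have k2 := (k1 f (mem_smallFive (by linarith))).resolve_left (fun e => e (by linarith))
  have k3 := (k2 g (mem_smallFive (by linarith))).resolve_left (fun e => e hn')
  rw [← hL] at k3
  exact k3.resolve_right (by rw [goodL_ofVec]; simp)

/-! ### The centralisers -/

theorem class_smul {g : KG} {x : leechLattice} {s t : ℤ} (hx : sqNorm (coordVec x) = 32)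
    (hs : dotInt (coordVec baseP) (coordVec x) = s) (ht : dotInt (coordVec baseB) (coordVec x) = t) :
    sqNorm (coordVec ((g : Co0) • x)) = 32 ∧ dotInt (coordVec baseP) (coordVec ((g : Co0) • x)) = s ∧
      dotInt (coordVec baseB) (coordVec ((g : Co0) • x)) = t := by
  obtain ⟨hP, hB⟩ := mem_KG.1 g.2
  refine ⟨(sqNorm_smul' _ _).trans hx, ?_, ?_⟩
  · rw [← hs]
    conv_lhs => rw [← hP]
    exact CfsgLib.Leech.dotInt_smul (g : Co0) baseP x
  · rw [← ht]
    conv_lhs => rw [← hB]
    exact CfsgLib.Leech.dotInt_smul (g : Co0) baseB x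

theorem x₀_facts : sqNorm (coordVec x₀) = 32 ∧ dotInt (coordVec baseP) (coordVec x₀) = 0 ∧
    dotInt (coordVec baseB) (coordVec x₀) = 16 := by
  show sqNorm (toVec Cert.Orb2025.root) = 32 ∧ dotInt _ (toVec Cert.Orb2025.root) = 0 ∧
    dotInt _ (toVec Cert.Orb2025.root) = 16
  rw [← toVec_listP, ← toVec_listB, ← dotInt_self, dotInt_toVec (by decide) (by decide),
    dotInt_toVec (by decide) (by decide), dotInt_toVec (by decide) (by decide)]
  decide

/-- The element of order 11. -/
noncomputable abbrev ea : KG := lt 0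

/-- The element of order five. -/
noncomputable abbrev eb : KG := lt 9

/-- The extra permutation. -/
noncomputable abbrev em : KG := lt 2

/-- The element of order five commuting with `eb`. -/
noncomputable abbrev ed : KG := lt 4

theorem exists_ea : ∃ σ : stabK sets22, IsTbl (σ : Equiv.Perm GolayPt) certM22.ta ∧ ea = permK σ := by
  obtain ⟨σ, hσ⟩ := exists_perm (t := certM22.ta) (by simp)
  exact ⟨σ, hσ, lt_eq_permK (n := 0) perm_letters.1 hσ⟩

theorem exists_eb : ∃ σ : stabK sets22, IsTbl (σ : Equiv.Perm GolayPt) certM22.tb ∧ eb = permK σ := by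
  obtain ⟨σ, hσ⟩ := exists_perm (t := certM22.tb) (by simp)
  exact ⟨σ, hσ, lt_eq_permK (n := 9) perm_letters.2.1 hσ⟩

theorem searches : searchOK certM22.ta sets22 ((List.range 11).map (tblPow certM22.ta)) certM22.levA [] = true ∧
    searchOK certM22.tb sets22 ((List.range 5).map (tblPow certM22.tb)) certM22.levB [] = true := by
  decide +kernel

/-- The element of order 11 generates its centraliser. -/
theorem centralizer_ea (g : KG) (hg : g * ea = ea * g) : g ∈ Subgroup.zpowers ea := by
  obtain ⟨σ, hσ, he⟩ := exists_ea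
  have hfix : ((permK σ : KG) : Co0) • (g : Co0) • x₀ = (g : Co0) • x₀ := by
    rw [← mul_smul, ← Subgroup.coe_mul, ← he, ← hg, Subgroup.coe_mul, mul_smul, he, permK_fix]
  obtain ⟨h1, h2, h3⟩ := class_smul (g := g) x₀_facts.1 x₀_facts.2.1 x₀_facts.2.2
  have hL := fixed_A hσ hfix h1 (e := 0) (by rw [h2]; norm_num) h3 checkA_root
  have hx : (g : Co0) • x₀ = x₀ := by
    refine key_inj h1 x₀_facts.1 (congrArg keyL ?_)
    rw [List.mem_singleton.1 hL]
    decide +kernel
  obtain ⟨τ, rfl⟩ := exists_permK hx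
  rw [he, ← map_mul, ← map_mul] at hg
  have hc := congrArg Subtype.val (permK_injective hg)
  obtain ⟨t, ht, htbl⟩ := exists_target (g := (τ : Equiv.Perm GolayPt)) hσ hc τ.2 searches.1
    (by intro q hq; simp at hq)
  obtain ⟨k, -, rfl⟩ := List.mem_map.1 ht
  have : τ = σ ^ k := Subtype.ext (by rw [Subgroup.coe_pow]; exact htbl.ext (isTbl_tblPow hσ k))
  rw [this, map_pow, ← he]
  exact Subgroup.npow_mem_zpowers ea k

theorem fixedB_keys : ∀ i : Fin 5, evalK [dPow i] Data.k0 (fun r => Nat.beq r (keyL (Data.fixedB.getD i.1 []))) = true := by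
  decide +kernel

theorem pow_letters : ∀ i : Fin 5, lt (dPow i) = ed ^ (i : ℕ) ∧ lt (bPow i) = eb ^ (i : ℕ) := by
  intro i
  rw [← wK_singleton (dPow i), ← wK_singleton (bPow i), ← wK_replicate, ← wK_replicate]
  fin_cases i
  · exact ⟨wK_eq (by simp [eqPairs, dPow]), wK_eq (by simp [eqPairs, bPow])⟩
  · exact ⟨rfl, rfl⟩
  · exact ⟨wK_eq (by simp [eqPairs, dPow]), wK_eq (by simp [eqPairs, bPow])⟩
  · exact ⟨wK_eq (by simp [eqPairs, dPow]), wK_eq (by simp [eqPairs, bPow])⟩
  · exact ⟨wK_eq (by simp [eqPairs, dPow]), wK_eq (by simp [eqPairs, bPow])⟩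

theorem ed_comm : Commute ed eb := by
  have h := wK_eq (U := [4, 9]) (V := [9, 4]) (by simp [eqPairs])
  rw [wK_cons, wK_cons, wK_cons, wK_cons, wK_nil, mul_one, mul_one] at h
  exact h

/-- The centraliser of the element of order five. -/
theorem centralizer_eb (g : KG) (hg : g * eb = eb * g) :
    ∃ i j : Fin 5, g = lt (dPow i) * lt (bPow j) := by
  obtain ⟨σ, hσ, he⟩ := exists_eb
  have hfix : ((permK σ : KG) : Co0) • (g : Co0) • x₀ = (g : Co0) • x₀ := by
    rw [← mul_smul, ← Subgroup.coe_mul, ← he, ← hg, Subgroup.coe_mul, mul_smul, he, permK_fix]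
  obtain ⟨h1, h2, h3⟩ := class_smul (g := g) x₀_facts.1 x₀_facts.2.1 x₀_facts.2.2
  obtain ⟨n, hn, hL⟩ := List.getElem_of_mem (fixed_B hσ hfix h1 h2 h3)
  have hn5 : n < 5 := by simpa [Data.fixedB] using hn
  have hk := fixedB_keys ⟨n, hn5⟩
  rw [show Data.k0 = key x₀ from (show key x₀ = Data.k0 by
    rw [key, show ofVec (coordVec x₀) = Cert.Orb2025.root from
      (show ofVec (toVec Cert.Orb2025.root) = Cert.Orb2025.root by decide +kernel)]
    decide +kernel).symm, evalK_spec _ x₀_facts.1] at hk
  have hx : (g : Co0) • x₀ = ((lt (dPow ⟨n, hn5⟩) : KG) : Co0) • x₀ := by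
    refine key_inj h1 ((sqNorm_smul' _ _).trans x₀_facts.1) ?_
    have hk' := Nat.eq_of_beq_eq_true hk
    rw [wordAut_cons, wordAut_nil, mul_one] at hk'
    show key ((g : Co0) • x₀) = key (letterAut _ • x₀)
    rw [hk', key, ← hL, List.getD_eq_getElem _ _ hn]
  obtain ⟨τ, hτ⟩ := exists_permK (g := (lt (dPow ⟨n, hn5⟩))⁻¹ * g) (by
    rw [Subgroup.coe_mul, mul_smul, hx, Subgroup.coe_inv, inv_smul_smul])
  have hcomm : Commute ((lt (dPow ⟨n, hn5⟩))⁻¹ * g) eb := by
    rw [(pow_letters _).1]
    exact ((ed_comm.pow_left _).inv_left).mul_left hg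
  rw [hτ, he] at hcomm
  have hc := congrArg Subtype.val (permK_injective (by rw [map_mul, map_mul]; exact hcomm : permK (τ * σ) = permK (σ * τ)))
  obtain ⟨t, ht, htbl⟩ := exists_target (g := (τ : Equiv.Perm GolayPt)) hσ hc τ.2 searches.2
    (by intro q hq; simp at hq)
  obtain ⟨k, hk5, rfl⟩ := List.mem_map.1 ht
  have : τ = σ ^ k := Subtype.ext (by rw [Subgroup.coe_pow]; exact htbl.ext (isTbl_tblPow hσ k))
  refine ⟨⟨n, hn5⟩, ⟨k, List.mem_range.1 hk5⟩, ?_⟩
  rw [(pow_letters ⟨k, List.mem_range.1 hk5⟩).2, he, ← map_pow, ← this, ← hτ, mul_inv_cancel_left]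

end CfsgLib.Mathieu.McLOut
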