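import Mathlib
import Cfsg.Agent.Lib.Mathieu.Simple

/-!
Sharply multiply transitive groups: order, point stabilisers, and simplicity of the sharply
4-transitive groups of degree 11 and sharply 5-transitive groups of degree 12.
-/

set_option autoImplicit false

namespace CfsgLib.Mathieu

open MulAction

universe u v

variable {G : Type u} [Group G] {X : Type v} [MulAction G X]

theorem card_of_sharply [Finite X] {k : ℕ} [IsMultiplyPretransitive G X k]
    (hsharp : ∀ x : Fin k ↪ X, stabilizer G x = ⊥) (hk : k ≤ Nat.card X) :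
    Nat.card G = (Nat.card X).descFactorial k := by
  have : Fintype X := Fintype.ofFinite X
  have : Nonempty (Fin k ↪ X) :=
    Function.Embedding.nonempty_of_card_le (by simpa [Nat.card_eq_fintype_card] using hk)
  obtain ⟨x⟩ := this
  have h : Nat.card G = Nat.card (Fin k ↪ X) := by
    refine Nat.card_eq_of_bijective (fun g : G => g • x) ⟨fun g g' e => ?_, fun y => exists_smul_eq G x y⟩
    have hm : g'⁻¹ * g ∈ stabilizer G x := by
      rw [mem_stabilizer_iff, mul_smul]
      simp only at e
      rw [e, inv_smul_smul]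
    rw [hsharp x, Subgroup.mem_bot] at hm
    exact (inv_mul_eq_one.1 hm).symm
  rw [h, Nat.card_eq_fintype_card, Fintype.card_embedding_eq, Fintype.card_fin,
    Nat.card_eq_fintype_card]

theorem faithful_of_sharply [Finite X] {k : ℕ}
    (hsharp : ∀ x : Fin k ↪ X, stabilizer G x = ⊥) (hk : k ≤ Nat.card X) : FaithfulSMul G X := by
  have : Fintype X := Fintype.ofFinite X
  have : Nonempty (Fin k ↪ X) :=
    Function.Embedding.nonempty_of_card_le (by simpa [Nat.card_eq_fintype_card] using hk)
  obtain ⟨x⟩ := this
  refine ⟨fun {g g'} h => ?_⟩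
  have hm : g'⁻¹ * g ∈ stabilizer G x := by
    rw [mem_stabilizer_iff, mul_smul]
    ext i
    simp [Function.Embedding.smul_apply, h (x i)]
  rw [hsharp x, Subgroup.mem_bot] at hm
  exact (inv_mul_eq_one.1 hm).symm

theorem sharply_stabilizer {k : ℕ} (hsharp : ∀ x : Fin (k + 1) ↪ X, stabilizer G x = ⊥) (a : X)
    (x : Fin k ↪ SubMulAction.ofStabilizer G a) : stabilizer (stabilizer G a) x = ⊥ := by
  rw [Subgroup.eq_bot_iff_forall]
  intro g hg
  have hm : (g : G) ∈ stabilizer G (SubMulAction.ofStabilizer.snoc x) := by
    rw [mem_stabilizer_iff]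
    ext i
    rcases Fin.eq_castSucc_or_eq_last i with ⟨i, rfl⟩ | rfl
    · rw [Function.Embedding.smul_apply, SubMulAction.ofStabilizer.snoc_castSucc]
      have := congrArg (fun e : Fin k ↪ SubMulAction.ofStabilizer G a => (e i : X))
        (mem_stabilizer_iff.1 hg)
      simpa [Function.Embedding.smul_apply, Subgroup.smul_def] using this
    · rw [Function.Embedding.smul_apply, SubMulAction.ofStabilizer.snoc_last]
      exact g.2
  rw [hsharp, Subgroup.mem_bot] at hm
  exact Subtype.ext hm

theorem isPretransitive_of_le [Finite X] {k : ℕ} [IsMultiplyPretransitive G X k] (h1 : 1 ≤ k)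
    (hk : k ≤ Nat.card X) : IsPretransitive G X := by
  rw [← is_one_pretransitive_iff]
  exact isMultiplyPretransitive_of_le h1 hk

theorem sharply_four_eleven [Finite X] [IsMultiplyPretransitive G X 4]
    (hsharp : ∀ x : Fin 4 ↪ X, stabilizer G x = ⊥) (hX : Nat.card X = 11) :
    IsSimpleGroup G ∧ Nat.card G = 7920 := by
  have hk : 4 ≤ Nat.card X := by omega
  have hc : Nat.card G = 7920 := by
    rw [card_of_sharply hsharp hk, hX]; decide
  have : Finite G := Nat.finite_of_card_ne_zero (by omega)
  have := faithful_of_sharply hsharp hk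
  have := isPretransitive_of_le (G := G) (X := X) (by omega : 1 ≤ 4) hk
  refine ⟨?_, hc⟩
  exact isSimpleGroup_of_prime_degree (X := X) (p := 11) (q := 5) (m := 720) (by norm_num) (by norm_num) hX
    (by rw [hc]) (by decide) (by decide) (by decide)

theorem sharply_five_twelve [Finite X] [IsMultiplyPretransitive G X 5]
    (hsharp : ∀ x : Fin 5 ↪ X, stabilizer G x = ⊥) (hX : Nat.card X = 12) :
    IsSimpleGroup G ∧ Nat.card G = 95040 := by
  have hk : 5 ≤ Nat.card X := by omega
  have hc : Nat.card G = 95040 := by
    rw [card_of_sharply hsharp hk, hX]; decide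
  have : Finite G := Nat.finite_of_card_ne_zero (by omega)
  have := faithful_of_sharply hsharp hk
  have := isPretransitive_of_le (G := G) (X := X) (by omega : 1 ≤ 5) hk
  obtain ⟨a⟩ : Nonempty X := (Nat.card_ne_zero.1 (by omega)).1
  have : IsMultiplyPretransitive (stabilizer G a) (SubMulAction.ofStabilizer G a) 4 :=
    SubMulAction.ofStabilizer.isMultiplyPretransitive.1 inferInstance
  have hcY : Nat.card (SubMulAction.ofStabilizer G a) = 11 := by
    rw [SubMulAction.nat_card_ofStabilizer_eq, hX]
  have : IsSimpleGroup (stabilizer G a) := (sharply_four_eleven (sharply_stabilizer hsharp a) hcY).1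
  refine ⟨?_, hc⟩
  exact isSimpleGroup_of_stabilizer_simple
    (isMultiplyPretransitive_of_le (n := 5) (by omega) hk) a (r := 2) (s := 3) (by norm_num)
    (by norm_num) (by norm_num) (by rw [hX]; norm_num) (by rw [hX]; norm_num)

end CfsgLib.Mathieu
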