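import Cfsg.Agent.Lib.Mathieu.Simple
import Cfsg.Agent.Lib.Mathieu.Sharp
import Cfsg.Agent.Lib.Mathieu.Aut11
import Cfsg.Agent.Lib.Mathieu.Aut12
import Cfsg.Agent.Lib.Mathieu.Aut22
import Cfsg.Agent.Lib.Mathieu.Aut23

/-!
Automorphism groups of the Steiner systems S(4,5,11), S(5,6,12), S(3,6,22), S(4,7,23): orders,
transitivity and simplicity.
-/

set_option autoImplicit false

namespace CfsgLib.Mathieu

open MulAction

variable {α : Type*} [Fintype α] [DecidableEq α] {B : Set (Finset α)}

theorem steinerAut_eleven (hα : Fintype.card α = 11) (hB : Cfsg.IsSteinerSystem 4 5 B) :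
    IsSimpleGroup (Cfsg.setSystemAut B) ∧ Nat.card (Cfsg.setSystemAut B) = 7920 ∧
      IsMultiplyPretransitive (Cfsg.setSystemAut B) α 4 ∧
      ∀ x : Fin 4 ↪ α, stabilizer (Cfsg.setSystemAut B) x = ⊥ := by
  have hiso := Aut11.iso hα hB
  have := Aut11.transitive
  have hk := isMultiplyPretransitive_transport (B' := maskFam 11 Aut11.blocks) hiso (k := 4)
  have hcard : Nat.card (Cfsg.setSystemAut B) = 7920 := by
    obtain ⟨e⟩ := nonempty_mulEquiv_of_iso hiso
    rw [Nat.card_congr e.toEquiv, Aut11.card_aut]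
  have hsharp : ∀ x : Fin 4 ↪ α, stabilizer (Cfsg.setSystemAut B) x = ⊥ :=
    sharply_of_card (by rw [hcard, hα]; decide)
  exact ⟨(sharply_four_eleven hsharp (Nat.card_eq_fintype_card.trans hα)).1, hcard, hk, hsharp⟩

theorem steinerAut_twelve (hα : Fintype.card α = 12) (hB : Cfsg.IsSteinerSystem 5 6 B) :
    IsSimpleGroup (Cfsg.setSystemAut B) ∧ Nat.card (Cfsg.setSystemAut B) = 95040 ∧
      IsMultiplyPretransitive (Cfsg.setSystemAut B) α 5 ∧
      ∀ x : Fin 5 ↪ α, stabilizer (Cfsg.setSystemAut B) x = ⊥ := by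
  have hiso := Aut12.iso hα hB
  have := Aut12.transitive
  have hk := isMultiplyPretransitive_transport (B' := maskFam 12 Aut12.blocks) hiso (k := 5)
  have hcard : Nat.card (Cfsg.setSystemAut B) = 95040 := by
    obtain ⟨e⟩ := nonempty_mulEquiv_of_iso hiso
    rw [Nat.card_congr e.toEquiv, Aut12.card_aut]
  have hsharp : ∀ x : Fin 5 ↪ α, stabilizer (Cfsg.setSystemAut B) x = ⊥ :=
    sharply_of_card (by rw [hcard, hα]; decide)
  exact ⟨(sharply_five_twelve hsharp (Nat.card_eq_fintype_card.trans hα)).1, hcard, hk, hsharp⟩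

theorem steinerAut_twentyThree (hα : Fintype.card α = 23) (hB : Cfsg.IsSteinerSystem 4 7 B) :
    IsSimpleGroup (Cfsg.setSystemAut B) ∧ Nat.card (Cfsg.setSystemAut B) = 10200960 ∧
      IsMultiplyPretransitive (Cfsg.setSystemAut B) α 4 := by
  have hiso := Aut23.iso hα hB
  have := Aut23.transitive
  have hk := isMultiplyPretransitive_transport (B' := maskFam 23 Aut23.blocks) hiso (k := 4)
  have hcard : Nat.card (Cfsg.setSystemAut B) = 10200960 := by
    obtain ⟨e⟩ := nonempty_mulEquiv_of_iso hiso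
    rw [Nat.card_congr e.toEquiv, Aut23.card_aut]
  have hX : Nat.card α = 23 := Nat.card_eq_fintype_card.trans hα
  have := isPretransitive_of_le (G := Cfsg.setSystemAut B) (X := α) (k := 4) (by norm_num) (by omega)
  refine ⟨?_, hcard, hk⟩
  exact isSimpleGroup_of_prime_degree (X := α) (p := 23) (q := 11) (m := 443520) (by norm_num)
    (by norm_num) hX (by rw [hcard]) (by decide) (by decide) (by decide +kernel)

/-- The subgroup generated by the listed elements of order 11 of the standard S(3,6,22). -/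
noncomputable def evenAut22 : Subgroup (Equiv.Perm (Fin 22)) :=
  Subgroup.closure {σ | ∃ c ∈ Aut22.gens11, permOf 22 c = σ}

theorem gens11_isPerm : ∀ c ∈ Aut22.gens11, isPerm 22 c = true := fun c hc =>
  (Bool.and_eq_true _ _ ▸ List.all_eq_true.1 Aut22.gens11_aut c hc : _ ∧ _).1

theorem permOf_gens11_pow {c : ℕ} (hc : c ∈ Aut22.gens11) : permOf 22 c ^ 11 = 1 := by
  refine Equiv.ext fun x => Fin.ext ?_
  have h := List.all_eq_true.1 (List.all_eq_true.1 Aut22.gens11_pow c hc) x.1 (List.mem_range.2 x.2)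
  rw [beq_iff_eq] at h
  rw [Equiv.Perm.one_apply]
  refine Eq.trans ?_ h
  generalize 11 = k
  induction k with
  | zero => rfl
  | succ k ih =>
    rw [pow_succ', Equiv.Perm.mul_apply, permOf_apply (gens11_isPerm c hc), ih,
      Function.iterate_succ_apply']

theorem mem_evenAut22 : ∀ c ∈ Aut22.gens11, permOf 22 c ∈ evenAut22 := fun c hc =>
  Subgroup.subset_closure ⟨c, hc, rfl⟩

theorem evenAut22_le : evenAut22 ≤ Cfsg.setSystemAut (maskFam 22 Aut22.blocks) := by
  refine (Subgroup.closure_le _).2 ?_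
  rintro _ ⟨c, hc, rfl⟩
  exact permOf_mem_setSystemAut (List.all_eq_true.1 Aut22.gens11_aut c hc)

theorem sign_evenAut22 : evenAut22 ≤ (Equiv.Perm.sign (α := Fin 22)).ker := by
  refine (Subgroup.closure_le _).2 ?_
  rintro _ ⟨c, hc, rfl⟩
  have h := congrArg Equiv.Perm.sign (permOf_gens11_pow hc)
  rw [map_pow, map_one] at h
  show Equiv.Perm.sign (permOf 22 c) = 1
  rcases Int.units_eq_one_or (Equiv.Perm.sign (permOf 22 c)) with h1 | h1
  · exact h1
  · rw [h1] at h; exact absurd h (by decide)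

/-- The swaps of `oddSwaps` multiplied out. -/
def oddProd : Equiv.Perm (Fin 22) := (Aut22.oddSwaps.map fun q => Equiv.swap q.1 q.2).prod

theorem sign_oddProd : Equiv.Perm.sign oddProd = -1 := by
  rw [oddProd, map_list_prod, List.map_map]
  decide +kernel

theorem permOf_oddGen : permOf 22 Aut22.oddGen = oddProd := by
  have h : isPerm 22 Aut22.oddGen = true :=
    (Bool.and_eq_true _ _ ▸ Aut22.oddGen_aut : _ ∧ _).1
  have hall : ∀ x : Fin 22, app Aut22.oddGen x.1 = (oddProd x).1 := by decide +kernel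
  exact Equiv.ext fun x => Fin.ext ((permOf_apply h x).trans (hall x))

theorem card_evenAut22 : Nat.card evenAut22 = 443520 := by
  have h1 := levelProd_le gens11_isPerm mem_evenAut22 Aut22.levels11 [] Aut22.lower11
  rw [fixPts_nil, show levelProd Aut22.levels11 = 443520 by decide +kernel] at h1
  have h1' : 443520 ≤ Nat.card evenAut22 := (Nat.le_mul_of_pos_right _ Nat.card_pos).trans h1
  set A := Cfsg.setSystemAut (maskFam 22 Aut22.blocks) with hA
  obtain ⟨m, hm⟩ : Nat.card evenAut22 ∣ Nat.card A := Subgroup.card_dvd_of_le evenAut22_le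
  rw [Aut22.card_aut] at hm
  have hne : m ≠ 1 := by
    rintro rfl
    rw [mul_one] at hm
    have hodd : permOf 22 Aut22.oddGen ∈ evenAut22 := by
      rw [Subgroup.eq_of_le_of_card_ge evenAut22_le (by rw [Aut22.card_aut]; exact hm.le)]
      exact permOf_mem_setSystemAut Aut22.oddGen_aut
    have := sign_evenAut22 hodd
    rw [MonoidHom.mem_ker, permOf_oddGen, sign_oddProd] at this
    exact absurd this (by decide)
  have hm0 : m ≠ 0 := by rintro rfl; omega
  have : Nat.card evenAut22 * 2 ≤ Nat.card evenAut22 * m := Nat.mul_le_mul_left _ (by omega)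
  omega

theorem isSimpleGroup_evenAut22 : IsSimpleGroup evenAut22 := by
  have h2 : IsMultiplyPretransitive evenAut22 (Fin 22) 2 :=
    isMultiplyPretransitive_of_levels gens11_isPerm mem_evenAut22 Aut22.lower11
      (by decide +kernel) (by decide +kernel) (by decide +kernel)
  have := isPreprimitive_of_is_two_pretransitive h2
  have hc := card_evenAut22
  have : Nontrivial evenAut22 := Finite.one_lt_card_iff_nontrivial.1 (by omega)
  refine isSimpleGroup_of_generated_prime (X := Fin 22) (p := 11) (by norm_num)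
    (by rw [Nat.card_eq_fintype_card, Fintype.card_fin]; norm_num)
    (by rw [hc]; decide) ?_
  rw [eq_top_iff, ← Subgroup.map_subtype_le_map_subtype, ← MonoidHom.range_eq_map,
    Subgroup.range_subtype, MonoidHom.map_closure]
  refine (Subgroup.closure_le _).2 ?_
  rintro _ ⟨c, hc', rfl⟩
  refine Subgroup.subset_closure ⟨⟨_, mem_evenAut22 c hc'⟩, ?_, rfl⟩
  exact Subtype.ext (permOf_gens11_pow hc')

theorem steinerAut_twentyTwo (hα : Fintype.card α = 22) (hB : Cfsg.IsSteinerSystem 3 6 B) :
    Nat.card (Cfsg.setSystemAut B) = 887040 ∧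
      IsMultiplyPretransitive (Cfsg.setSystemAut B) α 3 ∧
      ∃ H : Subgroup (Cfsg.setSystemAut B), H.index = 2 ∧ IsSimpleGroup H ∧
        Nat.card H = 443520 := by
  have hiso := Aut22.iso hα hB
  have := Aut22.transitive
  have hk := isMultiplyPretransitive_transport (B' := maskFam 22 Aut22.blocks) hiso (k := 3)
  obtain ⟨e⟩ := nonempty_mulEquiv_of_iso hiso
  refine ⟨by rw [Nat.card_congr e.toEquiv, Aut22.card_aut], hk,
    (evenAut22.subgroupOf _).map e.symm.toMonoidHom, ?_⟩
  let f : (evenAut22.subgroupOf _).map e.symm.toMonoidHom ≃* evenAut22 :=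
    ((evenAut22.subgroupOf _).equivMapOfInjective e.symm.toMonoidHom e.symm.injective).symm.trans
      (Subgroup.subgroupOfEquivOfLe evenAut22_le)
  have hc : Nat.card ((evenAut22.subgroupOf _).map e.symm.toMonoidHom) = 443520 := by
    rw [Nat.card_congr f.toEquiv, card_evenAut22]
  have := isSimpleGroup_evenAut22
  refine ⟨?_, isSimpleGroup_congr f, hc⟩
  have h := Subgroup.card_mul_index ((evenAut22.subgroupOf _).map e.symm.toMonoidHom)
  rw [hc, Nat.card_congr e.toEquiv, Aut22.card_aut] at h
  omega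

end CfsgLib.Mathieu
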