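import Cfsg.Agent.Lib.Mathieu.SylowTwoData
import Cfsg.Agent.Lib.Golay.M24
import Cfsg.Agent.Lib.LargeSubgroups.Basic

/-!
Sylow `2`-subgroups of `M24` are self-normalizing: the orbits of the terms of the lower central
series form a binary tree on the 24 points, and a normalizing element of odd order fixes each of
its nodes.
-/

set_option autoImplicit false

namespace CfsgLib.Mathieu.SylowTwo

open Cfsg CfsgLib.Golay CfsgLib.OutMathieu CfsgLib.SchurMult
open scoped commutatorElement

/-- First index of each level. -/
def start (i : ℕ) : ℕ := [0, 4, 7, 9, 10].getD i 10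

/-- Table of a generator. -/
def tbl (j : ℕ) : ℕ := gens.getD j idTbl

/-- Orbit label of a point at a level. -/
def label (i p : ℕ) : ℕ := (labels.getD i []).getD p 0

/-- The generators are in `M24`. -/
def memOK : Bool := gens.all inM24

/-- The squares. -/
def sqOK : Bool :=
  (List.range 10).all fun k =>
    ((sqWords.getD k []).all fun j => decide (k < j) && decide (j < 10)) &&
      compTbl (tbl k) (tbl k) == evalWord gens (sqWords.getD k [])

/-- The commutators. -/
def commOK : Bool :=
  (List.range 10).all fun a => (List.range 10).all fun s =>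
    ((commWords.getD (10 * a + s) []).all fun j => decide (j < 10) && decide (min a s < j) &&
        (List.range 4).all fun i => decide (a < start i) || decide (start (i + 1) ≤ j)) &&
      compTbl (tbl a) (tbl s) ==
        compTbl (evalWord gens (commWords.getD (10 * a + s) [])) (compTbl (tbl s) (tbl a))

/-- The generators of the lower levels are commutators. -/
def pairOK : Bool :=
  (List.range 4).all fun i => (List.range 10).all fun j => decide (j < start (i + 1)) ||
    (decide (start i ≤ (commPair.getD j (0, 0)).1) && decide ((commPair.getD j (0, 0)).1 < 10) &&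
      decide ((commPair.getD j (0, 0)).2 < 10) &&
      commWords.getD (10 * (commPair.getD j (0, 0)).1 + (commPair.getD j (0, 0)).2) [] == [j])

/-- The labels are invariant. -/
def labelOK : Bool :=
  (List.range 5).all fun i => (List.range 10).all fun j => decide (j < start i) ||
    (List.range 24).all fun p => label i (tblAt (tbl j) p) == label i p

/-- Each point is reached from its label. -/
def reachOK : Bool :=
  (List.range 5).all fun i => (List.range 24).all fun p =>
    decide (label i p < 24) &&
      (((reach.getD i []).getD p []).all fun j => decide (start i ≤ j) && decide (j < 10)) &&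
      tblAt (evalWord gens ((reach.getD i []).getD p [])) (label i p) == p

/-- Every node has at most two sons. -/
def splitOK : Bool :=
  (List.range 24).all fun x => (List.range 24).all fun y => (List.range 24).all fun z =>
    (label 0 x == label 0 y || label 0 x == label 0 z || label 0 y == label 0 z) &&
      (List.range 4).all fun i => !(label i x == label i y && label i x == label i z) ||
        (label (i + 1) x == label (i + 1) y || label (i + 1) x == label (i + 1) z ||
          label (i + 1) y == label (i + 1) z)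

/-- The last level separates points. -/
def lastOK : Bool := (List.range 24).all fun p => label 4 p == p

/-- The normal forms are distinct. -/
def orderOK : Bool := order.length == 1024 && increasing (nfTbl gens 10) order

set_option maxRecDepth 100000 in
theorem checks : memOK = true ∧ sqOK = true ∧ commOK = true ∧ pairOK = true ∧ labelOK = true ∧
    reachOK = true ∧ lastOK = true := by
  decide +kernel

set_option maxRecDepth 100000 in
theorem check_split : splitOK = true := by decide +kernel

set_option maxRecDepth 100000 in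
theorem check_order : orderOK = true := by decide +kernel

/-! ### groups -/

section

variable {G : Type*} [Group G]

/-- The subgroup generated by the elements of index in `[k, 10)`. -/
def span (el : ℕ → G) (k : ℕ) : Subgroup G :=
  Subgroup.closure (el '' {j | k ≤ j ∧ j < 10})

theorem mem_span {el : ℕ → G} {j k : ℕ} (h : k ≤ j) (h' : j < 10) : el j ∈ span el k :=
  Subgroup.subset_closure ⟨j, ⟨h, h'⟩, rfl⟩

theorem lprod_mem_span {el : ℕ → G} {k : ℕ} :
    ∀ {w : List ℕ}, (∀ j ∈ w, k ≤ j ∧ j < 10) → lprod el w ∈ span el k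
  | [], _ => one_mem _
  | j :: w, h => mul_mem (mem_span (h j List.mem_cons_self).1 (h j List.mem_cons_self).2)
      (lprod_mem_span fun i hi => h i (List.mem_cons_of_mem _ hi))

theorem span_le {el : ℕ → G} {k : ℕ} {K : Subgroup G} (h : ∀ j, k ≤ j → j < 10 → el j ∈ K) :
    span el k ≤ K := by
  rw [span, Subgroup.closure_le]
  rintro _ ⟨j, ⟨hj, hj'⟩, rfl⟩
  exact h j hj hj'

theorem commutator_closure_le {A B : Set G} {N : Subgroup G}
    (hA : Subgroup.closure A ≤ Subgroup.normalizer (N : Set G))
    (hB : Subgroup.closure B ≤ Subgroup.normalizer (N : Set G))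
    (h : ∀ a ∈ A, ∀ b ∈ B, ⁅a, b⁆ ∈ N) : ⁅Subgroup.closure A, Subgroup.closure B⁆ ≤ N := by
  have conj : ∀ {g n : G}, g ∈ Subgroup.normalizer (N : Set G) → n ∈ N → g * n * g⁻¹ ∈ N :=
    fun hg hn => (Subgroup.mem_normalizer_iff.1 hg _).1 hn
  have key : ∀ a ∈ A, ∀ y ∈ Subgroup.closure B, ⁅a, y⁆ ∈ N := by
    intro a ha y hy
    induction hy using Subgroup.closure_induction with
    | mem b hb => exact h a ha b hb
    | one => rw [commutatorElement_one_right]; exact one_mem N
    | mul x y hx _ ihx ihy =>
      rw [show ⁅a, x * y⁆ = ⁅a, x⁆ * (x * ⁅a, y⁆ * x⁻¹) by simp only [commutatorElement_def]; group]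
      exact mul_mem ihx (conj (hB hx) ihy)
    | inv x hx ihx =>
      rw [show ⁅a, x⁻¹⁆ = x⁻¹ * ⁅a, x⁆⁻¹ * x⁻¹⁻¹ by simp only [commutatorElement_def]; group]
      exact conj (inv_mem (hB hx)) (inv_mem ihx)
  rw [Subgroup.commutator_le]
  intro x hx y hy
  induction hx using Subgroup.closure_induction with
  | mem a ha => exact key a ha y hy
  | one => rw [commutatorElement_one_left]; exact one_mem N
  | mul x z hx _ ihx ihz =>
    rw [show ⁅x * z, y⁆ = (x * ⁅z, y⁆ * x⁻¹) * ⁅x, y⁆ by simp only [commutatorElement_def]; group]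
    exact mul_mem (conj (hA hx) ihz) ihx
  | inv x hx ihx =>
    rw [show ⁅x⁻¹, y⁆ = x⁻¹ * ⁅x, y⁆⁻¹ * x⁻¹⁻¹ by simp only [commutatorElement_def]; group]
    exact conj (inv_mem (hA hx)) (inv_mem ihx)

theorem card_span_le [Finite G] {el : ℕ → G}
    (hn : ∀ k, k < 10 → el k ∈ Subgroup.normalizer (span el (k + 1) : Set G))
    (hs : ∀ k, k < 10 → el k * el k ∈ span el (k + 1)) :
    ∀ m, m ≤ 10 → Nat.card (span el (10 - m)) ≤ 2 ^ m := by
  intro m
  induction m with
  | zero =>
    intro _
    have : span el 10 = ⊥ := by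
      rw [span, Subgroup.closure_eq_bot_iff]
      rintro _ ⟨j, ⟨h1, h2⟩, rfl⟩
      omega
    simp [this]
  | succ m ih =>
    intro hm
    have ih := ih (by omega)
    set k := 10 - (m + 1)
    rw [show 10 - m = k + 1 by omega] at ih
    set K := span el (k + 1)
    set g := el k
    have hle : span el k ≤ K ⊔ Subgroup.zpowers g := span_le fun j hj hj' => by
      rcases eq_or_lt_of_le hj with rfl | hlt
      · exact Subgroup.mem_sup_right (Subgroup.mem_zpowers _)
      · exact Subgroup.mem_sup_left (mem_span hlt hj')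
    have hzn : Subgroup.zpowers g ≤ Subgroup.normalizer (K : Set G) :=
      Subgroup.zpowers_le.2 (hn k (by omega))
    have hsub : ((span el k : Subgroup G) : Set G) ⊆ (K : Set G) ∪ (· * g) '' (K : Set G) := by
      intro x hx
      have hx' : x ∈ ((K ⊔ Subgroup.zpowers g : Subgroup G) : Set G) := hle hx
      rw [Subgroup.coe_mul_of_right_le_normalizer_left _ _ hzn] at hx'
      obtain ⟨u, hu, v, hv, rfl⟩ := hx'
      obtain ⟨n, rfl⟩ := Subgroup.mem_zpowers_iff.1 hv
      have h2 : ∀ j : ℤ, g ^ (2 * j) ∈ K := fun j => by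
        rw [zpow_mul, zpow_two]; exact zpow_mem (hs k (by omega)) j
      rcases Int.even_or_odd' n with ⟨j, rfl | rfl⟩
      · exact Or.inl (mul_mem hu (h2 j))
      · exact Or.inr ⟨u * g ^ (2 * j), mul_mem hu (h2 j), by
          simp only [mul_assoc, ← zpow_add_one]⟩
    calc Nat.card (span el k) = ((span el k : Subgroup G) : Set G).ncard := rfl
      _ ≤ ((K : Set G) ∪ (· * g) '' (K : Set G)).ncard := Set.ncard_le_ncard hsub (Set.toFinite _)
      _ ≤ (K : Set G).ncard + ((· * g) '' (K : Set G)).ncard := Set.ncard_union_le _ _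
      _ ≤ Nat.card K + Nat.card K := Nat.add_le_add le_rfl (Set.ncard_image_le (Set.toFinite _))
      _ ≤ 2 ^ (m + 1) := by rw [pow_succ]; omega

theorem bprod_mem_span {el : ℕ → G} : ∀ k, k ≤ 10 → ∀ x, bprod el k x ∈ span el 0
  | 0, _, _ => one_mem _
  | k + 1, hk, x => by
    rw [bprod]
    cases x.testBit k
    · exact bprod_mem_span k (by omega) x
    · exact mul_mem (bprod_mem_span k (by omega) x) (mem_span (Nat.zero_le _) (by omega))

end

/-- An element of odd order compatible with a labelling with at most two values on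
`{x, g x, g² x}` preserves the label of `x`. -/
theorem label_fixed {α : Type*} {f : α → ℕ} {g : Equiv.Perm α} {q : ℕ} (hq : Odd q)
    (hgq : g ^ q = 1) (hg : ∀ a b, f a = f b → f (g a) = f (g b)) (hg' : ∀ a b, f (g a) = f (g b) → f a = f b)
    (x : α) (h3 : f x = f (g x) ∨ f x = f (g (g x)) ∨ f (g x) = f (g (g x))) : f (g x) = f x := by
  rcases h3 with e | e | e
  · exact e.symm
  · have h2 : ∀ k : ℕ, f ((g ^ (2 * k)) x) = f x := by
      intro k
      induction k with
      | zero => rfl
      | succ k ih =>
        rw [show 2 * (k + 1) = 2 + 2 * k by ring, pow_add, Equiv.Perm.mul_apply, sq,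
          Equiv.Perm.mul_apply]
        exact (hg _ _ (hg _ _ ih)).trans e.symm
    obtain ⟨m, rfl⟩ := hq
    have := h2 (m + 1)
    rwa [show 2 * (m + 1) = 2 * m + 1 + 1 by ring, pow_succ, hgq, one_mul] at this
  · exact (hg' _ _ e).symm

theorem exists_self_normalizing :
    ∃ S : Sylow 2 ↥M24, Subgroup.normalizer ((S : Subgroup ↥M24) : Set ↥M24) = (S : Subgroup ↥M24) := by
  obtain ⟨hmem, hsq, hcomm, hpair, hlab, hreach, hlast⟩ := checks
  have hsplit := check_split
  have horder := check_order
  simp only [memOK, List.all_eq_true] at hmem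
  obtain ⟨el, hel⟩ := exists_family (K := M24) [] stabK_nil.symm gens
    fun t ht => ⟨hmem t ht, fun s hs => absurd hs List.not_mem_nil⟩
  have eq_of : ∀ {x y : ↥M24} {t : ℕ}, IsTbl (x : Equiv.Perm GolayPt) t →
      IsTbl (y : Equiv.Perm GolayPt) t → x = y := fun h1 h2 => Subtype.ext (h1.ext h2)
  simp only [sqOK, List.all_eq_true, List.mem_range, Bool.and_eq_true, decide_eq_true_eq,
    beq_iff_eq] at hsq
  have sq_mem : ∀ k, k < 10 → el k * el k ∈ span el (k + 1) := by
    intro k hk
    have h1 := isTbl_compTbl (hel k) (hel k)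
    have h2 := isTbl_lprod hel (sqWords.getD k [])
    rw [show compTbl (gens.getD k idTbl) (gens.getD k idTbl) = _ from (hsq k hk).2] at h1
    rw [show el k * el k = lprod el (sqWords.getD k []) from eq_of (by simpa using h1) h2]
    exact lprod_mem_span fun j hj => (hsq k hk).1 j hj
  simp only [commOK, List.all_eq_true, List.mem_range, Bool.and_eq_true, decide_eq_true_eq,
    beq_iff_eq, Bool.or_eq_true] at hcomm
  have comm_eq : ∀ a s, a < 10 → s < 10 →
      ⁅el a, el s⁆ = lprod el (commWords.getD (10 * a + s) []) := by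
    intro a s ha hs
    have h1 := isTbl_compTbl (hel a) (hel s)
    have h2 := isTbl_compTbl (isTbl_lprod hel (commWords.getD (10 * a + s) []))
      (isTbl_compTbl (hel s) (hel a))
    rw [show compTbl (gens.getD a idTbl) (gens.getD s idTbl) = _ from (hcomm a ha s hs).2] at h1
    have e : el a * el s = lprod el (commWords.getD (10 * a + s) []) * (el s * el a) :=
      eq_of (by simpa [tbl] using h1) (by simpa [tbl] using h2)
    rw [commutatorElement_def, e]; group
  have comm_mem : ∀ a s k, a < 10 → s < 10 → k ≤ min a s + 1 → ⁅el a, el s⁆ ∈ span el k := by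
    intro a s k ha hs hk
    rw [comm_eq a s ha hs]
    refine lprod_mem_span fun j hj => ?_
    have := (hcomm a ha s hs).1 j hj
    omega
  have comm_level : ∀ i a s, i < 4 → start i ≤ a → a < 10 → s < 10 →
      ⁅el a, el s⁆ ∈ span el (start (i + 1)) := by
    intro i a s hi ha ha' hs
    rw [comm_eq a s ha' hs]
    refine lprod_mem_span fun j hj => ?_
    obtain ⟨⟨h1, h2⟩, h3⟩ := (hcomm a ha' s hs).1 j hj
    rcases h3 i hi with h4 | h4
    · omega
    · exact ⟨h4, h1⟩
  have norm_of : ∀ (g : ↥M24) (k : ℕ), (∀ j, k ≤ j → j < 10 → g * el j * g⁻¹ ∈ span el k) →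
      g ∈ Subgroup.normalizer (span el k : Set ↥M24) := by
    intro g k h
    refine LargeSubgroups.mem_normalizer_of_map_conj_le ?_
    rw [span, MonoidHom.map_closure, Subgroup.closure_le]
    rintro _ ⟨_, ⟨j, ⟨hj, hj'⟩, rfl⟩, rfl⟩
    exact h j hj hj'
  have hn : ∀ k, k < 10 → el k ∈ Subgroup.normalizer (span el (k + 1) : Set ↥M24) := by
    intro k hk
    refine norm_of _ _ fun j hj hj' => ?_
    rw [show el k * el j * (el k)⁻¹ = ⁅el k, el j⁆ * el j by simp [commutatorElement_def]]
    exact mul_mem (comm_mem k j _ hk hj' (by omega)) (mem_span hj hj')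
  set S := span el 0 with hS
  have hnorm : ∀ i, i ≤ 4 → S ≤ Subgroup.normalizer (span el (start i) : Set ↥M24) := by
    intro i hi
    refine span_le fun s _ hs => norm_of _ _ fun j hj hj' => ?_
    rw [show el s * el j * (el s)⁻¹ = ⁅el j, el s⁆⁻¹ * el j by
      simp [commutatorElement_def, mul_assoc]]
    refine mul_mem (inv_mem ?_) (mem_span hj hj')
    rcases i with _ | i
    · exact comm_mem j s _ hj' hs (Nat.zero_le _)
    · refine comm_level i j s (by omega) (le_trans ?_ hj) hj' hs
      rcases i with _ | _ | _ | _ | i <;> simp [start] at hi ⊢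
  simp only [pairOK, List.all_eq_true, List.mem_range, Bool.and_eq_true, decide_eq_true_eq,
    beq_iff_eq, Bool.or_eq_true] at hpair
  have hser : ∀ i, i < 4 → span el (start (i + 1)) = ⁅span el (start i), S⁆ := by
    intro i hi
    refine le_antisymm (span_le fun j hj hj' => ?_) ?_
    · rcases hpair i hi j hj' with h | ⟨⟨⟨h1, h2⟩, h3⟩, h4⟩
      · omega
      · have e := comm_eq _ _ h2 h3
        rw [h4] at e
        rw [show el j = lprod el [j] by simp [lprod], ← e]
        exact Subgroup.commutator_mem_commutator (mem_span h1 h2) (mem_span (Nat.zero_le _) h3)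
    · refine commutator_closure_le ?_ (hnorm (i + 1) (by omega)) ?_
      · exact (span_le (el := el) (k := start i) fun j _ hj' => mem_span (Nat.zero_le _) hj').trans
          (hnorm (i + 1) (by omega))
      · rintro _ ⟨a, ⟨ha, ha'⟩, rfl⟩ _ ⟨s, ⟨-, hs⟩, rfl⟩
        exact comm_level i a s hi ha ha' hs
  -- the order
  simp only [orderOK, Bool.and_eq_true, beq_iff_eq] at horder
  have hp := pairwise_of_increasing horder.2
  have hinj : Function.Injective fun i : Fin order.length =>
      (⟨bprod el 10 order[i.1], bprod_mem_span 10 le_rfl _⟩ : S) := by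
    intro i j hij
    have hij' : bprod el 10 order[i.1] = bprod el 10 order[j.1] := congrArg Subtype.val hij
    by_contra hne
    have heq : nfTbl gens 10 order[i.1] = nfTbl gens 10 order[j.1] :=
      nfTbl_eq (congrArg Subtype.val hij') (isTbl_nfTbl hel _ _) (isTbl_nfTbl hel _ _)
    rcases lt_trichotomy i.1 j.1 with h | h | h
    · exact (List.pairwise_iff_getElem.1 hp i j i.2 j.2 h).ne heq
    · exact hne (Fin.ext h)
    · exact (List.pairwise_iff_getElem.1 hp j i j.2 i.2 h).ne heq.symm
  have hcard : Nat.card S = 2 ^ 10 := by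
    refine le_antisymm (card_span_le hn sq_mem 10 le_rfl) ?_
    have := Nat.card_le_card_of_injective _ hinj
    simpa [horder.1] using this
  have hidx : (S : Subgroup ↥M24).index = 239085 := by
    have := S.card_mul_index
    rw [natCard_M24, hcard] at this
    omega
  haveI : Fact (Nat.Prime 2) := ⟨Nat.prime_two⟩
  refine ⟨(IsPGroup.of_card hcard).toSylow (by rw [hidx]; decide), ?_⟩
  rw [IsPGroup.toSylow_coe]
  -- an element of odd order normalizing `S` is trivial
  refine le_antisymm ?_ Subgroup.le_normalizer
  rw [← Subgroup.relIndex_eq_one]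
  by_contra hne
  obtain ⟨q, hq, hqd⟩ := Nat.exists_prime_and_dvd hne
  have hqodd : Odd q := by
    refine hq.eq_two_or_odd'.resolve_left fun e => ?_
    have h2 : 2 ∣ (S : Subgroup ↥M24).index :=
      (e ▸ hqd).trans (Subgroup.relIndex_dvd_index_of_le Subgroup.le_normalizer)
    rw [hidx] at h2
    omega
  haveI : Fact q.Prime := ⟨hq⟩
  obtain ⟨⟨g, hgN⟩, hg⟩ := exists_prime_orderOf_dvd_card' q
    (hqd.trans (Subgroup.relIndex_dvd_card _ _))
  rw [← Subgroup.orderOf_coe] at hg
  change orderOf g = q at hg
  have hgL : ∀ i, i ≤ 4 → g ∈ Subgroup.normalizer (span el (start i) : Set ↥M24) := by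
    intro i
    induction i with
    | zero => intro _; exact hgN
    | succ i ih =>
      intro hi
      refine LargeSubgroups.mem_normalizer_of_map_conj_le (le_of_eq ?_)
      rw [hser i (by omega), Subgroup.map_commutator, FFModules.map_conj_eq_self (ih (by omega)),
        FFModules.map_conj_eq_self hgN]
  simp only [labelOK, List.all_eq_true, List.mem_range, Bool.or_eq_true, decide_eq_true_eq,
    beq_iff_eq] at hlab
  simp only [reachOK, List.all_eq_true, List.mem_range, Bool.and_eq_true, decide_eq_true_eq,
    beq_iff_eq] at hreach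
  have lab_inv : ∀ i, i ≤ 4 → ∀ u ∈ span el (start i), ∀ p : GolayPt,
      label i (idx ((u : Equiv.Perm GolayPt) p)) = label i (idx p) := by
    intro i hi u hu
    induction hu using Subgroup.closure_induction with
    | mem u hu =>
      obtain ⟨j, ⟨hj, hj'⟩, rfl⟩ := hu
      intro p
      rw [hel j p]
      rcases hlab i (by omega) j hj' with h | h
      · omega
      · exact h _ (idx_lt p)
    | one => intro p; rfl
    | mul u v _ _ ihu ihv => intro p; rw [Subgroup.coe_mul, Equiv.Perm.mul_apply, ihu, ihv]
    | inv u _ ihu =>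
      intro p
      have := ihu (((u⁻¹ : ↥M24) : Equiv.Perm GolayPt) p)
      rw [← Equiv.Perm.mul_apply, ← Subgroup.coe_mul, mul_inv_cancel, OneMemClass.coe_one,
        Equiv.Perm.one_apply] at this
      exact this.symm
  have lab_reach : ∀ i, i ≤ 4 → ∀ p r : GolayPt, label i (idx p) = label i (idx r) →
      ∃ u ∈ span el (start i), (u : Equiv.Perm GolayPt) p = r := by
    intro i hi
    have h1 : ∀ p : GolayPt, ∃ u ∈ span el (start i),
        (u : Equiv.Perm GolayPt) (pt (label i (idx p))) = p := by
      intro p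
      obtain ⟨⟨hlt, hw⟩, he⟩ := hreach i (by omega) (idx p) (idx_lt p)
      refine ⟨_, lprod_mem_span (el := el) hw, idx_injective ?_⟩
      rw [isTbl_lprod hel _ _, idx_pt hlt, he]
    intro p r hpr
    obtain ⟨u, hu, hup⟩ := h1 p
    obtain ⟨v, hv, hvr⟩ := h1 r
    refine ⟨v * u⁻¹, mul_mem hv (inv_mem hu), ?_⟩
    conv_lhs => rw [← hup]
    rw [Subgroup.coe_mul, Equiv.Perm.mul_apply, ← Equiv.Perm.mul_apply, ← Subgroup.coe_mul,
      ← hvr, hpr]
    simp
  have hcompat : ∀ g : ↥M24, ∀ i, i ≤ 4 → g ∈ Subgroup.normalizer (span el (start i) : Set ↥M24) →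
      ∀ a b : GolayPt, label i (idx a) = label i (idx b) →
        label i (idx ((g : Equiv.Perm GolayPt) a)) = label i (idx ((g : Equiv.Perm GolayPt) b)) := by
    intro g i hi hg a b hab
    obtain ⟨u, hu, rfl⟩ := lab_reach i hi a b hab
    have := lab_inv i hi _ ((Subgroup.mem_normalizer_iff.1 hg u).1 hu) ((g : Equiv.Perm GolayPt) a)
    simp only [Subgroup.coe_mul, Subgroup.coe_inv, Equiv.Perm.mul_apply,
      Equiv.Perm.inv_def, Equiv.symm_apply_apply] at this
    exact this.symm
  simp only [splitOK, List.all_eq_true, List.mem_range, Bool.and_eq_true, Bool.or_eq_true,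
    beq_iff_eq, Bool.not_eq_true', Bool.and_eq_false_imp, beq_eq_false_iff_ne] at hsplit
  have hgp : ((g : ↥M24) : Equiv.Perm GolayPt) ^ q = 1 := by
    rw [← SubmonoidClass.coe_pow, ← hg, pow_orderOf_eq_one, OneMemClass.coe_one]
  have hfix : ∀ i, i ≤ 4 → ∀ x : GolayPt,
      label i (idx ((g : Equiv.Perm GolayPt) x)) = label i (idx x) := by
    intro i
    induction i with
    | zero =>
      intro hi x
      refine label_fixed (f := fun p => label 0 (idx p)) hqodd hgp (hcompat g 0 hi (hgL 0 hi))
        (fun a b h => ?_) x ?_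
      · simpa using hcompat g⁻¹ 0 hi (inv_mem (hgL 0 hi)) _ _ h
      · rcases (hsplit _ (idx_lt x) _ (idx_lt ((g : Equiv.Perm GolayPt) x)) _
          (idx_lt ((g : Equiv.Perm GolayPt) ((g : Equiv.Perm GolayPt) x)))).1 with (h | h) | h
        exacts [Or.inl h, Or.inr (Or.inl h), Or.inr (Or.inr h)]
    | succ i ih =>
      intro hi x
      have ih := ih (by omega)
      refine label_fixed (f := fun p => label (i + 1) (idx p)) hqodd hgp
        (hcompat g _ hi (hgL _ hi)) (fun a b h => ?_) x ?_
      · simpa using hcompat g⁻¹ _ hi (inv_mem (hgL _ hi)) _ _ h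
      · have h1 := ih x
        have h2 := ih ((g : Equiv.Perm GolayPt) x)
        rcases (hsplit _ (idx_lt x) _ (idx_lt ((g : Equiv.Perm GolayPt) x)) _
          (idx_lt ((g : Equiv.Perm GolayPt) ((g : Equiv.Perm GolayPt) x)))).2 i (by omega) with
            h | (h | h) | h
        · exact absurd (h1.symm.trans h2.symm) (h h1.symm)
        exacts [Or.inl h, Or.inr (Or.inl h), Or.inr (Or.inr h)]
  simp only [lastOK, List.all_eq_true, List.mem_range, beq_iff_eq] at hlast
  have : g = 1 := by
    refine Subtype.ext (Equiv.ext fun x => idx_injective ?_)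
    have := hfix 4 le_rfl x
    rw [hlast _ (idx_lt _), hlast _ (idx_lt _)] at this
    simpa using this
  rw [this, orderOf_one] at hg
  exact hq.one_lt.ne hg

/-- Sylow `2`-subgroups of `M24` are self-normalizing. -/
theorem normalizer_eq (S : Sylow 2 ↥M24) :
    Subgroup.normalizer ((S : Subgroup ↥M24) : Set ↥M24) = (S : Subgroup ↥M24) := by
  haveI : Fact (Nat.Prime 2) := ⟨Nat.prime_two⟩
  obtain ⟨S₀, h₀⟩ := exists_self_normalizing
  refine (Subgroup.eq_of_le_of_card_ge Subgroup.le_normalizer (le_of_eq ?_)).symm
  have hidx := S.card_eq_index_normalizer.symm.trans S₀.card_eq_index_normalizer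
  have e1 : Nat.card ↥(Subgroup.normalizer ((S : Subgroup ↥M24) : Set ↥M24)) *
      (Subgroup.normalizer ((S : Subgroup ↥M24) : Set ↥M24)).index = Nat.card ↥M24 :=
    Subgroup.card_mul_index _
  have e2 := (Subgroup.normalizer ((S₀ : Subgroup ↥M24) : Set ↥M24)).card_mul_index
  rw [show (Subgroup.normalizer ((S : Subgroup ↥M24) : Set ↥M24)).index =
    (Subgroup.normalizer ((S₀ : Subgroup ↥M24) : Set ↥M24)).index from hidx, ← e2, h₀] at e1
  rw [S.card_eq_multiplicity, ← S₀.card_eq_multiplicity]
  exact Nat.eq_of_mul_eq_mul_right (Nat.pos_of_ne_zero Subgroup.index_ne_zero_of_finite) e1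

end CfsgLib.Mathieu.SylowTwo
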