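import Cfsg.Prelude.Def_Sporadic_a
import Cfsg.Agent.Lib.Mathieu.Mask

/-!
Uniqueness of small Steiner systems by a kernel checked chain certificate: at each step the block
through a chosen `t`-set is one of few candidates, all equivalent under permutations fixing the
blocks already placed.
-/

set_option autoImplicit false

namespace CfsgLib.Mathieu

open Finset

/-! ### Elementary facts about Steiner systems -/

section Steiner

variable {α : Type*} [DecidableEq α] {t k : ℕ} {B : Set (Finset α)}

theorem steiner_eq_of_inter (hB : Cfsg.IsSteinerSystem t k B) {b c : Finset α} (hb : b ∈ B)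
    (hc : c ∈ B) (h : t ≤ (b ∩ c).card) : b = c := by
  obtain ⟨s, hs, hcard⟩ := Finset.exists_subset_card_eq h
  obtain ⟨d, -, hu⟩ := hB.2 s hcard
  rw [hu b ⟨hb, hs.trans inter_subset_left⟩, hu c ⟨hc, hs.trans inter_subset_right⟩]

theorem steiner_card_mul [Fintype α] (hB : Cfsg.IsSteinerSystem t k B) :
    B.ncard * k.choose t = (Fintype.card α).choose t := by
  classical
  rw [Set.ncard_eq_toFinset_card', ← Finset.card_univ, ← Finset.card_powersetCard,
    show (univ : Finset α).powersetCard t = B.toFinset.biUnion (fun b => b.powersetCard t) from ?_,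
    Finset.card_biUnion, Finset.sum_eq_card_nsmul fun b hb => ?_, smul_eq_mul]
  · rw [Finset.card_powersetCard, hB.1 b (Set.mem_toFinset.1 hb)]
  · intro b hb c hc hbc
    simp only [Finset.disjoint_left, mem_powersetCard]
    intro s hs hs'
    refine hbc (steiner_eq_of_inter hB (Set.mem_toFinset.1 hb) (Set.mem_toFinset.1 hc) ?_)
    exact hs.2 ▸ Finset.card_le_card (subset_inter hs.1 hs'.1)
  · ext s
    simp only [mem_powersetCard, mem_biUnion, Set.mem_toFinset, subset_univ, true_and]
    constructor
    · intro hs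
      obtain ⟨b, ⟨hb, hsb⟩, -⟩ := hB.2 s hs
      exact ⟨b, hb, hsb, hs⟩
    · rintro ⟨b, -, -, hs⟩
      exact hs

omit [DecidableEq α] in
theorem setSystemIso_trans {β γ : Type*} [DecidableEq β] [DecidableEq γ] {B' : Set (Finset β)}
    {B'' : Set (Finset γ)} (h : Cfsg.SetSystemIso B B') (h' : Cfsg.SetSystemIso B' B'') :
    Cfsg.SetSystemIso B B'' := by
  obtain ⟨e, he⟩ := h
  obtain ⟨e', he'⟩ := h'
  refine ⟨e.trans e', ?_⟩
  rw [← he', ← he, Set.image_image]
  refine Set.image_congr fun b _ => ?_
  rw [Finset.image_image]; rfl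

theorem setSystemIso_symm {β : Type*} [DecidableEq β] {B' : Set (Finset β)}
    (h : Cfsg.SetSystemIso B B') : Cfsg.SetSystemIso B' B := by
  obtain ⟨e, he⟩ := h
  refine ⟨e.symm, ?_⟩
  rw [← he, Set.image_image]
  refine Eq.trans (Set.image_congr fun b _ => ?_) (Set.image_id B)
  simp [Finset.image_image]

theorem isSteinerSystem_image {β : Type*} [DecidableEq β] (e : α ≃ β)
    (hB : Cfsg.IsSteinerSystem t k B) :
    Cfsg.IsSteinerSystem t k ((fun b : Finset α => b.image e) '' B) := by
  refine ⟨?_, fun s hs => ?_⟩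
  · rintro _ ⟨b, hb, rfl⟩
    rw [card_image_of_injective _ e.injective, hB.1 b hb]
  · obtain ⟨b, ⟨hb, hsb⟩, hu⟩ := hB.2 (s.image e.symm)
      (by rw [card_image_of_injective _ e.symm.injective, hs])
    refine ⟨b.image e, ⟨⟨b, hb, rfl⟩, ?_⟩, ?_⟩
    · intro x hx
      exact mem_image.2 ⟨e.symm x, hsb (mem_image.2 ⟨x, hx, rfl⟩), e.apply_symm_apply x⟩
    · rintro _ ⟨⟨c, hc, rfl⟩, hsc⟩
      dsimp only
      rw [hu c ⟨hc, ?_⟩]
      intro x hx
      obtain ⟨y, hy, rfl⟩ := mem_image.1 hx
      obtain ⟨z, hz, e'⟩ := mem_image.1 (hsc hy)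
      rwa [← e', e.symm_apply_apply]

end Steiner

/-! ### The certificate checker -/

/-- Whether the partial block `P` is compatible with the known blocks `W`. -/
def okExt (t : ℕ) (W : List ℕ) (P : ℕ) : Bool :=
  W.all fun w => clearLow (t - 1) (P &&& w) == 0 || P &&& w == P

/-- All compatible ways to add `j` of the points `xs` to the partial block `P`. -/
def extCands (t : ℕ) (W : List ℕ) : List ℕ → ℕ → ℕ → List ℕ
  | [], j, P => if j == 0 then [P] else []
  | x :: xs, j, P =>
    match j with
    | 0 => [P]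
    | i + 1 =>
      (if okExt t W (P ||| 1 <<< x) then extCands t W xs i (P ||| 1 <<< x) else []) ++
        extCands t W xs (i + 1) P

/-- One step of a chain: a `t`-set, positions of witness blocks, the chosen block, and for each other
candidate a permutation code carrying it (with the known blocks) onto the chosen configuration. -/
abbrev ChainStep : Type := ℕ × List ℕ × ℕ × List (ℕ × ℕ)

/-- Check of a single step from the known blocks `K`. -/
def checkStep (n t k : ℕ) (K : List ℕ) (s : ChainStep) : Bool :=
  let (F, ix, r, ps) := s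
  decide (F < 2 ^ n) && popBelow n F == t &&
    (extCands t (ix.filterMap fun i => K[i]?)
      ((List.range n).filter fun x => !F.testBit x) (k - t) F).all fun c =>
        c == r || ps.any fun q => q.1 == c && (isPerm n q.2 &&
          (r :: K).all fun m => ((c :: K).map (imgMask n q.2)).contains m)

/-- Check of a whole chain. -/
def checkChain (n t k : ℕ) : List ChainStep → List ℕ → Bool
  | [], K => decide (K.Nodup) && decide (∀ m ∈ K, m < 2 ^ n) &&
      K.length * k.choose t == n.choose t
  | s :: ss, K => checkStep n t k K s && checkChain n t k ss (s.2.2.1 :: K)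

/-- The system produced by a chain. -/
def chainEnd : List ChainStep → List ℕ → List ℕ
  | [], K => K
  | s :: ss, K => chainEnd ss (s.2.2.1 :: K)

theorem okExt_of_subset {n t k : ℕ} (ht : 0 < t) {B : Set (Finset (Fin n))}
    (hB : Cfsg.IsSteinerSystem t k B) {W : List ℕ} (hW : ∀ w ∈ W, maskSet n w ∈ B)
    {c : Finset (Fin n)} (hc : c ∈ B) {P : ℕ} (hP : P < 2 ^ n) (hPc : maskSet n P ⊆ c) :
    okExt t W P = true := by
  rw [okExt, List.all_eq_true]
  intro w hw
  rw [Bool.or_eq_true, beq_iff_eq, beq_iff_eq, or_iff_not_imp_left]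
  intro h
  have hlt : P &&& w < 2 ^ n := Nat.and_le_left.trans_lt hP
  have h1 := lt_card_of_clearLow_ne_zero _ _ hlt h
  rw [maskSet_land] at h1
  have he : c = maskSet n w := steiner_eq_of_inter hB hc (hW w hw)
    (le_trans (by omega) (Finset.card_le_card (inter_subset_inter hPc (Subset.refl _))))
  apply maskSet_inj hlt hP
  rw [maskSet_land, inter_eq_left]
  exact he ▸ hPc

theorem mem_extCands {n t k : ℕ} (ht : 0 < t) {B : Set (Finset (Fin n))}
    (hB : Cfsg.IsSteinerSystem t k B) {W : List ℕ} (hW : ∀ w ∈ W, maskSet n w ∈ B)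
    {c : Finset (Fin n)} (hc : c ∈ B) : ∀ (xs : List ℕ) (j P : ℕ), P < 2 ^ n → xs.Nodup →
      maskSet n P ⊆ c → (∀ i ∈ c, i ∈ maskSet n P ∨ i.1 ∈ xs) →
      (∀ x ∈ xs, P.testBit x = false) → (c \ maskSet n P).card = j →
      ∃ m ∈ extCands t W xs j P, maskSet n m = c := by
  intro xs
  induction xs with
  | nil =>
    intro j P _ _ hsub hcov _ hj
    have he : maskSet n P = c := Subset.antisymm hsub fun i hi => by simpa using hcov i hi
    rw [he, sdiff_self] at hj
    subst hj
    exact ⟨P, by simp [extCands], he⟩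
  | cons x xs ih =>
    intro j P hP hnd hsub hcov hfree hj
    cases j with
    | zero =>
      exact ⟨P, by simp [extCands],
        Subset.antisymm hsub (Finset.sdiff_eq_empty_iff_subset.1 (Finset.card_eq_zero.1 hj))⟩
    | succ i =>
      have hnd' := List.nodup_cons.1 hnd
      by_cases hx : ∃ h : x < n, (⟨x, h⟩ : Fin n) ∈ c
      · obtain ⟨hxn, hxc⟩ := hx
        have hset := maskSet_lor_shift P (⟨x, hxn⟩ : Fin n)
        have hxP : (⟨x, hxn⟩ : Fin n) ∉ maskSet n P := by
          simp [hfree x (List.mem_cons_self ..)]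
        have hlt : P ||| 1 <<< x < 2 ^ n :=
          Nat.or_lt_two_pow hP (by rw [Nat.one_shiftLeft]; exact Nat.pow_lt_pow_right (by norm_num) hxn)
        have hsub' : maskSet n (P ||| 1 <<< x) ⊆ c := by
          rw [hset]; exact insert_subset hxc hsub
        obtain ⟨m, hm, hmc⟩ := ih i (P ||| 1 <<< x) hlt hnd'.2 hsub'
          (fun y hy => by
            rw [hset]
            rcases hcov y hy with h | h
            · exact Or.inl (mem_insert_of_mem h)
            · rcases List.mem_cons.1 h with h | h
              · exact Or.inl (mem_insert.2 (Or.inl (Fin.ext h)))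
              · exact Or.inr h)
          (fun y hy => by
            rw [Nat.testBit_lor, hfree y (List.mem_cons_of_mem _ hy), Bool.false_or,
              Nat.one_shiftLeft, Nat.testBit_two_pow, decide_eq_false_iff_not]
            rintro rfl
            exact hnd'.1 hy)
          (by
            rw [hset, Finset.sdiff_insert, card_erase_of_mem (mem_sdiff.2 ⟨hxc, hxP⟩), hj]
            rfl)
        refine ⟨m, ?_, hmc⟩
        simp only [extCands]
        rw [if_pos (okExt_of_subset ht hB hW hc hlt hsub')]
        exact List.mem_append_left _ hm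
      · obtain ⟨m, hm, hmc⟩ := ih (i + 1) P hP hnd'.2 hsub
          (fun y hy => by
            rcases hcov y hy with h | h
            · exact Or.inl h
            · rcases List.mem_cons.1 h with h | h
              · exact absurd ⟨h ▸ y.2, by
                  have : (⟨x, h ▸ y.2⟩ : Fin n) = y := Fin.ext h.symm
                  rw [this]; exact hy⟩ hx
              · exact Or.inr h)
          (fun y hy => hfree y (List.mem_cons_of_mem _ hy)) hj
        refine ⟨m, ?_, hmc⟩
        simp only [extCands]
        exact List.mem_append_right _ hm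

theorem setSystemIso_of_checkChain {n t k : ℕ} (ht : 0 < t) (htk : t ≤ k) :
    ∀ (ss : List ChainStep) (K : List ℕ), checkChain n t k ss K = true →
      ∀ B : Set (Finset (Fin n)), Cfsg.IsSteinerSystem t k B → (∀ m ∈ K, maskSet n m ∈ B) →
        Cfsg.SetSystemIso B (maskFam n (chainEnd ss K)) := by
  intro ss
  induction ss with
  | nil =>
    intro K h B hB hK
    simp only [checkChain, Bool.and_eq_true, decide_eq_true_eq, beq_iff_eq] at h
    obtain ⟨⟨hnd, hlt⟩, hlen⟩ := h
    refine ⟨Equiv.refl _, ?_⟩
    rw [show (fun b : Finset (Fin n) => b.image (Equiv.refl (Fin n))) = id from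
      funext fun b => by simp, Set.image_id]
    symm
    refine Set.eq_of_subset_of_ncard_le ?_ ?_ (Set.toFinite B)
    · rintro _ ⟨m, hm, rfl⟩
      exact hK m hm
    · have hcard : (maskFam n K).ncard = K.length := by
        rw [maskFam_eq_image, Set.ncard_coe_finset, card_image_of_injOn,
          List.toFinset_card_of_nodup hnd]
        intro a ha b hb e
        exact maskSet_inj (hlt a (List.mem_toFinset.1 ha)) (hlt b (List.mem_toFinset.1 hb)) e
      have hc := steiner_card_mul hB
      rw [Fintype.card_fin, ← hlen] at hc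
      show B.ncard ≤ (maskFam n K).ncard
      rw [hcard, Nat.eq_of_mul_eq_mul_right (Nat.choose_pos htk) hc]
  | cons s ss ih =>
    intro K h B hB hK
    obtain ⟨F, ix, r, ps⟩ := s
    rw [checkChain, Bool.and_eq_true, checkStep, Bool.and_eq_true, Bool.and_eq_true,
      decide_eq_true_eq, beq_iff_eq, List.all_eq_true] at h
    obtain ⟨⟨⟨hF, hpop⟩, hall⟩, hrest⟩ := h
    rw [← card_maskSet] at hpop
    obtain ⟨c, ⟨hc, hFc⟩, -⟩ := hB.2 (maskSet n F) hpop
    obtain ⟨m, hm, rfl⟩ := mem_extCands ht hB
      (W := ix.filterMap fun i => K[i]?) (fun w hw => by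
        obtain ⟨i, -, hi⟩ := List.mem_filterMap.1 hw
        exact hK w (List.mem_of_getElem? hi))
      hc ((List.range n).filter fun x => !F.testBit x) (k - t) F hF
      (List.nodup_range.filter _) hFc
      (fun i _ => by
        by_cases hi : i ∈ maskSet n F
        · exact Or.inl hi
        · refine Or.inr (List.mem_filter.2 ⟨List.mem_range.2 i.2, ?_⟩)
          rw [mem_maskSet, Bool.not_eq_true] at hi
          rw [hi]; rfl)
      (fun x hx => by simpa using (List.mem_filter.1 hx).2)
      (by rw [card_sdiff_of_subset hFc, hpop, hB.1 c hc])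
    show Cfsg.SetSystemIso B (maskFam n (chainEnd ss (r :: K)))
    have h' := hall m hm
    simp only [Bool.or_eq_true, beq_iff_eq, List.any_eq_true, Bool.and_eq_true, List.all_eq_true,
      List.contains_iff_mem] at h'
    rcases h' with rfl | ⟨⟨c', p⟩, -, rfl, hp, hmap⟩
    · exact ih _ hrest B hB (List.forall_mem_cons.2 ⟨hc, hK⟩)
    · refine setSystemIso_trans ⟨permOf n p, rfl⟩
        (ih _ hrest _ (isSteinerSystem_image (permOf n p) hB) fun x hx => ?_)
      obtain ⟨y, hy, rfl⟩ := List.mem_map.1 (hmap x hx)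
      refine ⟨maskSet n y, ?_, (maskSet_imgMask hp y).symm⟩
      rcases List.mem_cons.1 hy with rfl | hy
      · exact hc
      · exact hK y hy

/-- Uniqueness of a Steiner system from a checked chain starting at the block `{0, …, k-1}`. -/
theorem setSystemIso_chainEnd {n t k : ℕ} (ht : 0 < t) (htk : t ≤ k) (hkn : k ≤ n)
    {ss : List ChainStep} (h : checkChain n t k ss [2 ^ k - 1] = true) {α : Type*} [Fintype α]
    [DecidableEq α] (hα : Fintype.card α = n) {B : Set (Finset α)}
    (hB : Cfsg.IsSteinerSystem t k B) :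
    Cfsg.SetSystemIso B (maskFam n (chainEnd ss [2 ^ k - 1])) := by
  obtain ⟨s, hs⟩ := exists_subset_card_eq (s := (univ : Finset α)) (n := t)
    (by rw [card_univ, hα]; exact htk.trans hkn)
  obtain ⟨b, ⟨hb, -⟩, -⟩ := hB.2 s hs.2
  have e₀ : α ≃ Fin n := Fintype.equivFinOfCardEq hα
  obtain ⟨π, hπ⟩ : ∃ π : Equiv.Perm (Fin n), (b.image e₀).image π = maskSet n (2 ^ k - 1) := by
    have hcard : (b.image e₀).card = (maskSet n (2 ^ k - 1)).card := by
      have hms : maskSet n (2 ^ k - 1) = univ.map (Fin.castLEEmb hkn) := by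
        ext i
        simp only [mem_maskSet, Nat.testBit_two_pow_sub_one, decide_eq_true_eq, mem_map, mem_univ,
          true_and]
        exact ⟨fun hi => ⟨⟨i.1, hi⟩, Fin.ext rfl⟩, fun ⟨j, hj⟩ => hj ▸ j.2⟩
      rw [card_image_of_injective _ e₀.injective, hB.1 b hb, hms, card_map, card_univ,
        Fintype.card_fin]
    let e₁ := Finset.equivOfCardEq hcard
    refine ⟨e₁.extendSubtype, ?_⟩
    ext y
    simp only [mem_image]
    constructor
    · rintro ⟨x, hx, rfl⟩
      exact e₁.extendSubtype_mem x (mem_image.2 hx)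
    · intro hy
      refine ⟨(e₁.symm ⟨y, hy⟩).1, mem_image.1 (e₁.symm ⟨y, hy⟩).2, ?_⟩
      rw [e₁.extendSubtype_apply_of_mem _ (e₁.symm ⟨y, hy⟩).2]
      simp
  refine setSystemIso_trans ⟨e₀.trans π, rfl⟩
    (setSystemIso_of_checkChain ht htk ss _ h _ (isSteinerSystem_image (e₀.trans π) hB) ?_)
  intro m hm
  rw [List.mem_singleton] at hm
  subst hm
  refine ⟨b, hb, ?_⟩
  rw [← hπ, image_image]
  rfl

theorem setSystemIso_of_checkChain_two {n t k : ℕ} (ht : 0 < t) (htk : t ≤ k) (hkn : k ≤ n)
    {ss : List ChainStep} (h : checkChain n t k ss [2 ^ k - 1] = true)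
    {α β : Type*} [Fintype α] [DecidableEq α] [Fintype β] [DecidableEq β]
    (hα : Fintype.card α = n) (hβ : Fintype.card β = n) {B : Set (Finset α)}
    {B' : Set (Finset β)} (hB : Cfsg.IsSteinerSystem t k B) (hB' : Cfsg.IsSteinerSystem t k B') :
    Cfsg.SetSystemIso B B' :=
  setSystemIso_trans (setSystemIso_chainEnd ht htk hkn h hα hB)
    (setSystemIso_symm (setSystemIso_chainEnd ht htk hkn h hβ hB'))

end CfsgLib.Mathieu
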